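import Cfsg.Agent.H162.GaussExcMain
import Cfsg.Agent.H928.Ore.Frame
import Cfsg.Agent.H134.Sq.Base_m3
import Mathlib
import Cfsg.Agent.TitsThree.RTFast
import Cfsg.Agent.H162.GaussExc
import Cfsg.Agent.ChevalleyStructure.FieldIso
import Cfsg.Agent.H162.GaussReg
import Cfsg.Agent.H158.Pencil_mg
import Cfsg.Agent.H166.Cov.Core
import Cfsg.Agent.H166.Cov.Scal
import Cfsg.Agent.H162.GaussSL
import Cfsg.Agent.H129.TorusChar
import Cfsg.Agent.ChevalleyStructure.ConjSimpleAll
import Cfsg.Agent.LieClassical.SLGen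
import Cfsg.Agent.OddHalf.NI.ModelChev
import Cfsg.Agent.H71.CovFull
import Cfsg.Agent.H482.Ore.Fix
import Cfsg.Agent.H934.MF.Diag
import Cfsg.Agent.H864.Ore.GlComm
import Cfsg.Agent.FastGrp
import Cfsg.Agent.Prune
set_option linter.all false

section
prune_inst 0x7ffda8f8bbbce3ffdfff7e7fa692cdfc39931fffa4dffd437fe061ff2bdf238009c5638d09e010fe0f57c21410a87843fb7eefffe86bd87ffffd1ff41ffbee0fa5e6b508519c88b40f300ff603f0778e7f3fffffffffffffffffffffffffffbeffbdffffffff

-- part: H85/Ore/Phi_mg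
section
set_option linter.all false
open scoped Cfsg.Agent.FastGrp
attribute [local instance] Cfsg.Agent.TitsThree.RTFast.decRTb Cfsg.Agent.TitsThree.RTFast.decRTc

namespace Cfsg.Agent.H90F

private noncomputable def frc {α : Type} (x : ℕ) (f : ℕ → α) : α := Nat.rec (f 0) (fun k _ => f (Nat.succ k)) x

private theorem frc_eq {α : Type} (x : ℕ) (f : ℕ → α) : frc x f = f x := by cases x <;> rfl

private noncomputable def nth {α : Type} (d : α) (l : List α) : ℕ → α :=
  List.rec (fun _ => d) (fun a _ ih n => Nat.rec a (fun k _ => ih k) n) l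

private theorem nth_eq {α : Type} (d : α) (l : List α) (n : ℕ) : nth d l n = l.getD n d := by
  induction l generalizing n with
  | nil => rfl
  | cons a l ih => cases n with
    | zero => rfl
    | succ k => exact ih k

private theorem nth_arr {α : Type} (d : α) (a : Array α) (n : ℕ) : a.getD n d = nth d a.toList n := by
  rw [nth_eq, List.getD_eq_getElem?_getD, Array.getD_eq_getD_getElem?, Array.getElem?_toList]

private noncomputable def row (D : Cfsg.Lie.ChevalleyDatum) (r : ℕ) : List (ℕ × Array (ℕ × ℤ)) := (nth #[] D.chain.toList r).toList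

private noncomputable def fnd (s : ℕ) (l : List (ℕ × Array (ℕ × ℤ))) : List (ℕ × ℤ) :=
  List.rec [] (fun e _ ih => Bool.rec ih e.2.toList (Nat.beq e.1 s)) l

private theorem ce_eq0 (D : Cfsg.Lie.ChevalleyDatum) (r s : ℕ) : D.chainEntry r s = fnd s (row D r) := by
  unfold Cfsg.Lie.ChevalleyDatum.chainEntry row
  rw [nth_arr]
  generalize (nth #[] D.chain.toList r).toList = l
  induction l with
  | nil => rfl
  | cons e l ih =>
    show _ = (Bool.rec (fnd s l) e.2.toList (Nat.beq e.1 s) : List (ℕ × ℤ))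
    by_cases h : e.1 = s
    · rw [List.find?_cons_of_pos (by simpa using h), Nat.beq_eq.mpr h]
    · rw [List.find?_cons_of_neg (by simpa using h), ih, Bool.eq_false_iff.2 fun h1 => h (Nat.eq_of_beq_eq_true h1)]

private noncomputable def fce (D : Cfsg.Lie.ChevalleyDatum) (r s : ℕ) : List (ℕ × ℤ) := frc r fun r => frc s fun s => fnd s (row D r)

private theorem ce_eq (D : Cfsg.Lie.ChevalleyDatum) : D.chainEntry = fce D := by
  funext r s
  rw [fce, frc_eq, frc_eq, ce_eq0]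

private noncomputable def fcr (D : Cfsg.Lie.ChevalleyDatum) (r s i : ℕ) : Option ℕ := ((fce D r s)[i - 1]?).map Prod.fst

private theorem cr_eq (D : Cfsg.Lie.ChevalleyDatum) : D.chainRoot = fcr D := by
  funext r s i
  rw [fcr, ← ce_eq]; rfl

private noncomputable def fng (D : Cfsg.Lie.ChevalleyDatum) (r : ℕ) : ℕ := frc r (nth 0 D.negIdx.toList)

private theorem ng_eq (D : Cfsg.Lie.ChevalleyDatum) : D.neg = fng D := by
  funext r
  rw [fng, frc_eq]
  exact nth_arr _ _ _

private noncomputable def fsi (D : Cfsg.Lie.ChevalleyDatum) (i : ℕ) : ℕ := frc i (nth 0 D.simpleIdx.toList)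

private theorem si_eq (D : Cfsg.Lie.ChevalleyDatum) : D.simple = fsi D := by
  funext r
  rw [fsi, frc_eq]
  exact nth_arr _ _ _

private noncomputable def fca (D : Cfsg.Lie.ChevalleyDatum) (i s : ℕ) : ℤ :=
  frc i fun i => frc s (nth 0 (nth #[] D.cartanSR.toList i).toList)

private theorem ca_eq (D : Cfsg.Lie.ChevalleyDatum) : D.cartan = fca D := by
  funext i s
  rw [fca, frc_eq, frc_eq, ← nth_arr, ← nth_arr]
  rfl

private noncomputable def frr (D : Cfsg.Lie.ChevalleyDatum) (i s : ℕ) : ℕ :=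
  frc i fun i => frc s fun s => frc (fsi D i) fun p => frc (fng D p) fun q =>
    Bool.rec (Bool.rec
      (Int.rec (fun a => Nat.rec s (fun k _ => (fcr D q s (Nat.succ k)).getD s) a)
        (fun k => (fcr D p s (Nat.succ k)).getD s) (fca D i s))
      p (Nat.beq s q)) q (Nat.beq s p)

private theorem rr_eq (D : Cfsg.Lie.ChevalleyDatum) : D.reflectRoot = frr D := by
  funext i s
  rw [frr, frc_eq, frc_eq, frc_eq, frc_eq, ← cr_eq, ← ng_eq, ← si_eq, ← ca_eq]
  unfold Cfsg.Lie.ChevalleyDatum.reflectRoot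
  dsimp only
  by_cases h1 : s = D.simple i
  · rw [if_pos h1, Nat.beq_eq.mpr h1]
  rw [if_neg h1, Bool.eq_false_iff.2 fun h => h1 (Nat.eq_of_beq_eq_true h)]
  by_cases h2 : s = D.neg (D.simple i)
  · rw [if_pos h2, Nat.beq_eq.mpr h2]
  rw [if_neg h2, Bool.eq_false_iff.2 fun h => h2 (Nat.eq_of_beq_eq_true h)]
  generalize D.cartan i s = A
  rcases A with (_ | k) | k
  · rfl
  · exact if_pos (Int.ofNat_succ_pos k)
  · rw [if_neg (Int.negSucc_lt_zero k).not_gt, if_pos (Int.negSucc_lt_zero k)]; rfl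

private theorem rr_fun : Cfsg.Lie.ChevalleyDatum.reflectRoot = frr := funext rr_eq

private theorem ng_fun : Cfsg.Lie.ChevalleyDatum.neg = fng := funext ng_eq

private theorem si_fun : Cfsg.Lie.ChevalleyDatum.simple = fsi := funext si_eq

private theorem ca_fun : Cfsg.Lie.ChevalleyDatum.cartan = fca := funext ca_eq

end Cfsg.Agent.H90F

-- part: H85/Ore/Phi
section
/-!
# The block of type `A_7` in `E_8` and the block of type `A_6` in `E_7` (S2443, S4171)

* `exists_phi8`, `exists_phi7` : the homomorphisms from `SL_8`, `SL_7` (every field), tables `r8`, `r7`;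
* `tab8`, `tab7` : the tables `TabB` of the blocks;
-/

set_option autoImplicit false
set_option linter.unusedSectionVars false

namespace Cfsg.Agent.H85.Ore

open CoxeterSystem Cfsg.Agent.ChevalleyStructure.CoxeterGeom Cfsg.Agent.Tits.Roots Cfsg.Agent.Tits.Core
  Cfsg.Agent.Nodes.Reps Cfsg.Agent.Nodes.BNOf Cfsg.Agent.Nodes.RGDLib Cfsg.Agent.Nodes.Bruhat
  Cfsg.Agent.Nodes.OppDec Cfsg.Agent.Nodes.LeviDec Cfsg.Agent.Nodes.KindChev Cfsg.Agent.Nodes.ChevCls
  Cfsg.Agent.OddHalf.NI.ModelChev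
  Cfsg.Agent.H162.GaussDec Cfsg.Agent.H162.GaussLevi Cfsg.Agent.H162.GaussSL
  Cfsg.Agent.H162.GaussMain Cfsg.Agent.H162.GaussPQ Cfsg.Agent.H162.GaussExc
open Cfsg.Lie Cfsg.Agent.ChevalleyStructure Cfsg.Agent.ChevalleyStructure.Elts
  Cfsg.Agent.ChevalleyStructure.RootVec Cfsg.Agent.ChevalleyStructure.NPerm
  Cfsg.Agent.ChevalleyStructure.CoxeterGeomTypes Cfsg.Agent.Nodes.RGDChev Cfsg.Agent.KFacts.RgdChevCoord
open Cfsg.Agent.TitsThree.KExcRT Cfsg.Agent.AGraded
open Cfsg.Agent.H162.GaussExcMain (ChkB ChkSub w7 w8 exists_hom_D)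
open Cfsg.Agent.H928.Ore.Frame (NF LP)
open Cfsg.Agent.H777.Ore (IsC AllC I4 Inv4)
open scoped MatrixGroups

universe u

/-! ### The tables -/

/-- the roots of the block of type `A_7` of `E_8` (nodes `0, 2, 3, 4, 5, 6, 7`) -/
def r8 : Fin 8 → Fin 8 → ℕ := ![![0, 162, 163, 164, 165, 166, 167, 168], ![77, 0, 135, 136, 137, 138, 139, 140],
  ![76, 104, 0, 130, 131, 132, 133, 134], ![75, 103, 109, 0, 126, 127, 128, 129], ![74, 102, 108, 113, 0, 123, 124, 125],
  ![73, 101, 107, 112, 116, 0, 121, 122], ![72, 100, 106, 111, 115, 118, 0, 120], ![71, 99, 105, 110, 114, 117, 119, 0]]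

/-- the nodes of the block of `E_8` -/
abbrev J8 : List (Fin 8) := [0, 2, 3, 4, 5, 6, 7]

/-- the cocharacter of `E_8` -/
def e8 : Fin 8 → ℤ := ![4, 5, 7, 10, 8, 6, 4, 2]

theorem ch8a : (∀ a b, a ≠ b → r8 a b < chevE8.nroots) ∧
    ∀ a b, a ≠ b → ∀ k, k ∉ J8 → vec chevE8 8 (r8 a b) k = 0 := by
  decide +kernel

theorem ch8b : ∀ a b, a ≠ b → ∑ i : Fin 8, e8 i * chevE8.cartan i (r8 a b) =
    (if a = 0 then 1 else 0) - (if b = 0 then 1 else 0) := by (rewrite [H90F.ca_fun]; decide +kernel)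

theorem chw8 : ∀ j : Fin 8, Cfsg.Agent.H162.GaussExc.fr chevE8 w8 (chevE8.simple j) = chevE8.neg (chevE8.simple j) := by
  (delta Cfsg.Agent.H162.GaussExc.fr; rewrite [H90F.rr_fun, H90F.ng_fun, H90F.si_fun]; decide +kernel)

theorem chk8' : ChkSub chevE8 8 J8 6 r8 := by decide +kernel

theorem rt8 : RTa chevE8 r8 ∧ (RTb chevE8 r8 fun _ _ => -1) ∧ RTc chevE8 r8 ∧
    ∀ i j, i ≠ j → r8 j i = chevE8.neg (r8 i j) := by decide +kernel

/-- the roots of the block of type `A_6` of `E_7` (nodes `0, 2, 3, 4, 5, 6`) -/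
def r7 : Fin 7 → Fin 7 → ℕ := ![![0, 93, 94, 95, 96, 97, 98], ![32, 0, 73, 74, 75, 76, 77], ![31, 52, 0, 69, 70, 71, 72],
  ![30, 51, 56, 0, 66, 67, 68], ![29, 50, 55, 59, 0, 64, 65], ![28, 49, 54, 58, 61, 0, 63],
  ![27, 48, 53, 57, 60, 62, 0]]

/-- the nodes of the block of `E_7` -/
abbrev J7 : List (Fin 7) := [0, 2, 3, 4, 5, 6]

/-- the cocharacter of `E_7` -/
def e7 : Fin 7 → ℤ := ![2, 2, 3, 4, 3, 2, 1]

theorem ch7a : (∀ a b, a ≠ b → r7 a b < chevE7.nroots) ∧
    ∀ a b, a ≠ b → ∀ k, k ∉ J7 → vec chevE7 7 (r7 a b) k = 0 := by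
  decide +kernel

theorem ch7b : ∀ a b, a ≠ b → ∑ i : Fin 7, e7 i * chevE7.cartan i (r7 a b) =
    (if a = 0 then 1 else 0) - (if b = 0 then 1 else 0) := by (rewrite [H90F.ca_fun]; decide +kernel)

theorem chw7 : ∀ j : Fin 7, Cfsg.Agent.H162.GaussExc.fr chevE7 w7 (chevE7.simple j) = chevE7.neg (chevE7.simple j) := by
  (delta Cfsg.Agent.H162.GaussExc.fr; rewrite [H90F.rr_fun, H90F.ng_fun, H90F.si_fun]; decide +kernel)

theorem chk7' : ChkSub chevE7 7 J7 5 r7 := by decide +kernel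

theorem rt7 : RTa chevE7 r7 ∧ (RTb chevE7 r7 fun _ _ => -1) ∧ RTc chevE7 r7 ∧
    ∀ i j, i ≠ j → r7 j i = chevE7.neg (r7 i j) := by decide +kernel

/-! ### The table of the block from the simple roots -/

section

variable {D : ChevalleyDatum} {l : ℕ} {M : CoxeterMatrix (Fin l)} (hp : IsType D l M)

include hp in
theorem rep_neg {ω : List (Fin l)}
    (h : ∀ j : Fin l, Cfsg.Agent.H162.GaussExc.fr D ω (D.simple j) = D.neg (D.simple j)) (x : Fin l → ℤ) :
    rep M.toCoxeterSystem hp.isCartan (M.toCoxeterSystem.wordProd ω) x = - x := by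
  have key : rep M.toCoxeterSystem hp.isCartan (M.toCoxeterSystem.wordProd ω) = - LinearMap.id := by
    refine LinearMap.pi_ext' fun i => ?_
    refine LinearMap.ext_ring ?_
    change rep M.toCoxeterSystem hp.isCartan (M.toCoxeterSystem.wordProd ω) (Pi.single i 1) = - (Pi.single i 1)
    have h2 : (Pi.single i 1 : Fin l → ℤ) = vec D l (D.simple i) := (vec_simple hp i).symm
    rw [h2, ← fr_vec hp M.toCoxeterSystem ω (simple_lt hp.inList (lt_rank hp i)), h i,
      vec_neg hp (simple_lt hp.inList (lt_rank hp i))]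
  rw [key]
  rfl

include hp in
theorem fr_neg {ω : List (Fin l)}
    (h : ∀ j : Fin l, Cfsg.Agent.H162.GaussExc.fr D ω (D.simple j) = D.neg (D.simple j)) {r : ℕ} (hr : r < D.nroots) :
    Cfsg.Agent.H162.GaussExc.fr D ω r = D.neg r := by
  refine vec_inj hp (fr_lt hp ω hr) (NPerm.neg_lt hp.inList hr) ?_
  rw [fr_vec hp M.toCoxeterSystem ω hr, rep_neg hp h, vec_neg hp hr]

include hp in
theorem tab_of {J : List (Fin l)} {e : Fin l → ℤ} {ω : List (Fin l)} {n : ℕ} {r : Fin (n + 2) → Fin (n + 2) → ℕ}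
    (h1 : (∀ a b, a ≠ b → r a b < D.nroots) ∧ ∀ a b, a ≠ b → ∀ k, k ∉ J → vec D l (r a b) k = 0)
    (h2 : ∀ a b, a ≠ b → ∑ i : Fin l, e i * D.cartan i (r a b) = (if a = 0 then 1 else 0) - (if b = 0 then 1 else 0))
    (h3 : ∀ j : Fin l, Cfsg.Agent.H162.GaussExc.fr D ω (D.simple j) = D.neg (D.simple j))
    (h4 : ChkSub D l J n r) (h5 : ∀ i j, i ≠ j → r j i = D.neg (r i j)) : TabB D l J e ω n r where
  rlt := h1.1
  rJ := h1.2
  sub := h4
  he := h2
  wb a b hab := by rw [fr_neg hp h3 (h1.1 a b hab), h5 a b hab]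

end

theorem tab8 : TabB chevE8 8 J8 e8 w8 6 r8 :=
  tab_of Cfsg.Agent.Nodes.KindE.isType8 ch8a ch8b chw8 chk8' rt8.2.2.2

theorem tab7 : TabB chevE7 7 J7 e7 w7 5 r7 :=
  tab_of Cfsg.Agent.Nodes.KindE.isType7 ch7a ch7b chw7 chk7' rt7.2.2.2

/-! ### The homomorphisms -/

/-- **`SL_8` in `E_8`.** -/
theorem exists_phi8 (K : Type u) [Field K] :
    ∃ φ : Matrix.SpecialLinearGroup (Fin 8) K →* ↥(chevE8.group K), ∀ a b (hab : a ≠ b) c,
      φ (Matrix.SpecialLinearGroup.transvection hab c) =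
        xc Cfsg.Agent.Nodes.KindE.isType8 (vec chevE8 8 (r8 a b)) (((-1 : ℤ) : K) * c) :=
  exists_hom_D Cfsg.Agent.Nodes.KindE.isType8 (K := K) (n := 5) (ε := -1) (by norm_num) rt8.1 rt8.2.1 rt8.2.2.1 rt8.2.2.2

/-- **`SL_7` in `E_7`.** -/
theorem exists_phi7 (K : Type u) [Field K] :
    ∃ φ : Matrix.SpecialLinearGroup (Fin 7) K →* ↥(chevE7.group K), ∀ a b (hab : a ≠ b) c,
      φ (Matrix.SpecialLinearGroup.transvection hab c) =
        xc Cfsg.Agent.Nodes.KindE.isType7 (vec chevE7 7 (r7 a b)) (((-1 : ℤ) : K) * c) :=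
  exists_hom_D Cfsg.Agent.Nodes.KindE.isType7 (K := K) (n := 4) (ε := -1) (by norm_num) rt7.1 rt7.2.1 rt7.2.2.1 rt7.2.2.2

end Cfsg.Agent.H85.Ore
end

-- part: H224/Ore/Zeta
section
/-!
The eigenvalues of the block element (S2443, S4171; `|K| ≥ 3`).

`Zet i m ν p lam` : `p` monic irreducible of degree `m` over `K`, `(X - ν) p` splits over `K'` as `∏ (X - lam a)`, the
`lam a` are distinct, with product one, and no product over a nonempty proper subset is one.

* `exists_zet` : existence for every finite field `K` with at least three elements and `m ≥ 2`;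
* `Zet.zprod` : `∏ (lam a) ^ (e a) ≠ 1` when the exponents `e a` take exactly the two values `k`, `k + 1`.
-/

set_option autoImplicit false
set_option linter.unusedSectionVars false

namespace Cfsg.Agent.H224.Ore.Zeta

open Polynomial

/-- the data of the eigenvalues -/
structure Zet {K K' : Type*} [Field K] [Field K'] (i : K →+* K') (m : ℕ) (ν : K) (p : K[X]) (lam : Fin (m + 1) → K') :
    Prop where
  monic : p.Monic
  irr : Irreducible p
  deg : p.natDegree + 1 = m + 1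
  nu : p.eval ν ≠ 0
  c0 : ((X - C ν) * p).coeff 0 = (-1) ^ (m + 1)
  split : ((X - C ν) * p).map i = ∏ a, (X - C (lam a))
  inj : Function.Injective lam
  ne0 : ∀ a, lam a ≠ 0
  prod : ∏ a, lam a = 1
  sub : ∀ S : Finset (Fin (m + 1)), S.Nonempty → S ≠ Finset.univ → ∏ a ∈ S, lam a ≠ 1

theorem Zet.zprod {K K' : Type*} [Field K] [Field K'] {i : K →+* K'} {m : ℕ} {ν : K} {p : K[X]}
    {lam : Fin (m + 1) → K'} (H : Zet i m ν p lam) (e : Fin (m + 1) → ℤ) (k : ℤ) (h : ∀ a, e a = k ∨ e a = k + 1)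
    (h0 : ∃ a, e a = k) (h1 : ∃ a, e a = k + 1) : ∏ a, lam a ^ e a ≠ 1 := by
  classical
  have e1 : ∏ a, lam a ^ e a = (∏ a, lam a) ^ k * ∏ a ∈ Finset.univ.filter (fun a => e a = k + 1), lam a := by
    rw [Finset.prod_filter, ← Finset.prod_zpow, ← Finset.prod_mul_distrib]
    refine Finset.prod_congr rfl fun a _ => ?_
    rcases h a with h | h
    · rw [h, if_neg (by omega), mul_one]
    · rw [h, if_pos rfl, zpow_add₀ (H.ne0 a), zpow_one]
  rw [e1, H.prod, one_zpow, one_mul]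
  refine H.sub _ ?_ ?_
  · obtain ⟨a, ha⟩ := h1
    exact ⟨a, by simpa using ha⟩
  · obtain ⟨a, ha⟩ := h0
    intro h2
    have : a ∈ Finset.univ.filter (fun a => e a = k + 1) := by rw [h2]; exact Finset.mem_univ a
    rw [Finset.mem_filter] at this
    omega

/-- the sum of distinct powers -/
theorem sum_pow_lt {q m : ℕ} (hq : 3 ≤ q) (hm : 1 ≤ m) (S : Finset (Fin m)) : ∑ a ∈ S, q ^ (a : ℕ) < q ^ m - 1 := by
  have h1 : ∑ a ∈ S, q ^ (a : ℕ) ≤ ∑ a : Fin m, q ^ (a : ℕ) :=
    Finset.sum_le_sum_of_subset (Finset.subset_univ _)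
  have h2 : ∑ a : Fin m, q ^ (a : ℕ) = ∑ a ∈ Finset.range m, q ^ a := Fin.sum_univ_eq_sum_range (fun a => q ^ a) m
  have h3 : (∑ a ∈ Finset.range m, q ^ a) * (q - 1) = q ^ m - 1 := by
    have := Nat.geomSum_eq (m := q) (by omega) m
    have hd : q - 1 ∣ q ^ m - 1 := by
      have := Nat.sub_dvd_pow_sub_pow q 1 m
      rwa [one_pow] at this
    rw [this, Nat.div_mul_cancel hd]
  have h4 : 0 < ∑ a ∈ Finset.range m, q ^ a :=
    Finset.sum_pos (fun a _ => pow_pos (by omega) a) ⟨0, Finset.mem_range.2 (by omega)⟩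
  have h5 : 2 ≤ q - 1 := by omega
  calc ∑ a ∈ S, q ^ (a : ℕ) ≤ ∑ a ∈ Finset.range m, q ^ a := by rw [← h2]; exact h1
    _ < (∑ a ∈ Finset.range m, q ^ a) * (q - 1) := by nlinarith
    _ = q ^ m - 1 := h3

theorem exists_zet (K : Type*) [Field K] [Finite K] (hq : 3 ≤ Nat.card K) {m : ℕ} (hm : 2 ≤ m) :
    ∃ (K' : Type) (_ : Field K') (_ : Finite K') (i : K →+* K') (ν : K) (p : K[X]) (lam : Fin (m + 1) → K'),
      Zet i m ν p lam := by
  classical
  obtain ⟨ch, hch⟩ := CharP.exists K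
  have hp : Fact ch.Prime := ⟨(CharP.char_is_prime_or_zero K ch).resolve_right (CharP.char_ne_zero_of_finite K ch)⟩
  have hm0 : NeZero m := ⟨by omega⟩
  let K' := FiniteField.Extension K ch m
  have hK' : Nat.card K' = Nat.card K ^ m := FiniteField.natCard_extension K ch m
  obtain ⟨q, hqe⟩ : ∃ q, q = Nat.card K := ⟨_, rfl⟩
  rw [← hqe] at hK' hq
  let i : K →+* K' := algebraMap K K'
  -- a generator
  have : Fintype K' := Fintype.ofFinite K'
  obtain ⟨z, hz⟩ := IsCyclic.exists_ofOrder_eq_natCard (α := K'ˣ)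
  have hcz : Nat.card K'ˣ = q ^ m - 1 := by
    rw [Nat.card_units, hK']
  rw [hcz] at hz
  obtain ⟨ζ, hζ⟩ : ∃ ζ : K', ζ = (z : K') := ⟨_, rfl⟩
  have ho : orderOf ζ = q ^ m - 1 := by rw [hζ, orderOf_units, hz]
  have hζ0 : ζ ≠ 0 := by rw [hζ]; exact z.ne_zero
  -- the conjugates
  let μ : Fin m → K' := fun a => ζ ^ q ^ (a : ℕ)
  have hprod : ∀ S : Finset (Fin m), ∏ a ∈ S, μ a = ζ ^ ∑ a ∈ S, q ^ (a : ℕ) := fun S => Finset.prod_pow_eq_pow_sum S _ _
  have hsub : ∀ S : Finset (Fin m), S.Nonempty → ∏ a ∈ S, μ a ≠ 1 := by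
    intro S hS h1
    rw [hprod, ← orderOf_dvd_iff_pow_eq_one, ho] at h1
    have h2 := sum_pow_lt hq (by omega : 1 ≤ m) S
    have h3 : 0 < ∑ a ∈ S, q ^ (a : ℕ) := Finset.sum_pos (fun a _ => pow_pos (by omega) _) hS
    exact absurd (Nat.le_of_dvd h3 h1) (by omega)
  have hinjμ : Function.Injective μ := by
    have key : ∀ a b : Fin m, a < b → μ a ≠ μ b := by
      intro a b hab h1
      have hab' : (a : ℕ) < b := hab
      have hle : q ^ (a : ℕ) < q ^ (b : ℕ) := Nat.pow_lt_pow_right (by omega) hab'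
      have h2 : ζ ^ (q ^ (b : ℕ) - q ^ (a : ℕ)) = 1 := by
        have h3 : ζ ^ (q ^ (b : ℕ) - q ^ (a : ℕ)) * ζ ^ q ^ (a : ℕ) = 1 * ζ ^ q ^ (a : ℕ) := by
          rw [← pow_add, Nat.sub_add_cancel hle.le, one_mul]
          exact h1.symm
        exact mul_right_cancel₀ (pow_ne_zero _ hζ0) h3
      rw [← orderOf_dvd_iff_pow_eq_one, ho] at h2
      have h3 := Nat.le_of_dvd (by omega) h2
      have h4 : q ^ (b : ℕ) ≤ q ^ (m - 1) := Nat.pow_le_pow_right (by omega) (by have := b.2; omega)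
      have h5 : q ^ m = q * q ^ (m - 1) := by
        rw [← pow_succ', Nat.sub_add_cancel (by omega : 1 ≤ m)]
      have h6 : 1 ≤ q ^ (m - 1) := Nat.one_le_pow _ _ (by omega)
      have h7 : 1 ≤ q ^ (a : ℕ) := Nat.one_le_pow _ _ (by omega)
      have h8 : 3 * q ^ (m - 1) ≤ q * q ^ (m - 1) := Nat.mul_le_mul_right _ hq
      omega
    intro a b h1
    by_contra hab
    rcases lt_or_gt_of_ne hab with h | h
    · exact key a b h h1
    · exact key b a h h1.symm
  -- the minimal polynomial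
  have : Module.Finite K K' := inferInstance
  have hint : IsIntegral K ζ := Algebra.IsIntegral.isIntegral ζ
  obtain ⟨p, hpe⟩ : ∃ p, p = minpoly K ζ := ⟨_, rfl⟩
  have hpm : p.Monic := hpe ▸ minpoly.monic hint
  have hpi : Irreducible p := hpe ▸ minpoly.irreducible hint
  have hdeg : p.natDegree ≤ m := by
    rw [hpe]
    have := minpoly.natDegree_le (A := K) ζ
    rwa [FiniteField.finrank_extension K ch m] at this
  have hfro : ∀ x : K, i x ^ q = i x := by
    intro x
    rw [← map_pow]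
    congr 1
    have : Fintype K := Fintype.ofFinite K
    have h1 := FiniteField.pow_card x
    rwa [← Nat.card_eq_fintype_card, ← hqe] at h1
  -- `q` is a power of the characteristic: Frobenius is additive
  have hchq : ∃ n, q = ch ^ n := by
    have : Fintype K := Fintype.ofFinite K
    obtain ⟨n, -, hn⟩ := FiniteField.card K ch
    exact ⟨n, by rw [hqe, Nat.card_eq_fintype_card, hn]⟩
  have hcK' : CharP K' ch := charP_of_injective_algebraMap (algebraMap K K').injective ch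
  have hroot : ∀ k : ℕ, (p.map i).IsRoot (ζ ^ q ^ k) := by
    intro k
    induction k with
    | zero =>
      rw [pow_zero, pow_one, IsRoot, eval_map, hpe]
      exact minpoly.aeval K ζ
    | succ k ih =>
      obtain ⟨n, hn⟩ := hchq
      have h1 : (p.map i).map (iterateFrobenius K' ch n) = p.map i := by
        rw [Polynomial.map_map]
        congr 1
        refine RingHom.ext fun x => ?_
        rw [RingHom.comp_apply, iterateFrobenius_def, ← hn, hfro]
      rw [pow_succ, pow_mul, IsRoot, ← h1]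
      have h2 : (ζ ^ q ^ k) ^ q = iterateFrobenius K' ch n (ζ ^ q ^ k) := by rw [iterateFrobenius_def, ← hn]
      rw [h2, eval_map_apply]
      rw [IsRoot] at ih
      rw [ih, map_zero]
  have hpmap : p.map i = ∏ a, (X - C (μ a)) := by
    have h1 : (∏ a : Fin m, (X - C (μ a))) ∣ p.map i := by
      refine Finset.prod_dvd_of_coprime ?_ fun a _ => dvd_iff_isRoot.2 (hroot a)
      intro a _ b _ hab
      exact isCoprime_X_sub_C_of_isUnit_sub (sub_ne_zero.2 (fun h => hab (hinjμ h))).isUnit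
    have h2 : (∏ a : Fin m, (X - C (μ a))).Monic := monic_prod_of_monic _ _ fun a _ => monic_X_sub_C _
    have h3 : (∏ a : Fin m, (X - C (μ a))).natDegree = m := by
      rw [natDegree_prod_of_monic _ _ fun a _ => monic_X_sub_C _]
      simp
    refine (eq_of_monic_of_dvd_of_natDegree_le h2 (hpm.map i) h1 ?_)
    rw [h3, natDegree_map]
    exact hdeg
  have hpdeg : p.natDegree = m := by
    have h1 := congrArg natDegree hpmap
    rw [natDegree_map, natDegree_prod_of_monic _ _ fun a _ => monic_X_sub_C _] at h1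
    simpa using h1
  have hp0 : i (p.coeff 0) = (-1) ^ m * ∏ a, μ a := by
    have h1 : (p.map i).coeff 0 = i (p.coeff 0) := coeff_map i 0
    rw [← h1, hpmap, coeff_zero_eq_eval_zero, eval_prod]
    simp only [eval_sub, eval_X, eval_C, zero_sub]
    have h2 : ∀ a : Fin m, -μ a = (-1) * μ a := fun a => neg_eq_neg_one_mul _
    rw [Finset.prod_congr rfl fun a _ => h2 a, Finset.prod_mul_distrib, Finset.prod_const, Finset.card_univ,
      Fintype.card_fin]
  have hN0 : ∏ a, μ a ≠ 0 := Finset.prod_ne_zero_iff.2 fun a _ => pow_ne_zero _ hζ0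
  have hsg : ((-1 : K') ^ m) * ((-1 : K') ^ m) = 1 := by rw [← pow_add, ← two_mul, pow_mul]; simp
  have hp0' : p.coeff 0 ≠ 0 := by
    intro h
    rw [h, map_zero] at hp0
    exact (mul_ne_zero (pow_ne_zero _ (by simp)) hN0) hp0.symm
  obtain ⟨ν, hν⟩ : ∃ ν : K, ν = ((-1) ^ m * p.coeff 0)⁻¹ := ⟨_, rfl⟩
  have hiν : i ν = (∏ a, μ a)⁻¹ := by
    rw [hν, map_inv₀, map_mul, map_pow, map_neg, map_one, hp0, ← mul_assoc, hsg, one_mul]
  have hpν : p.eval ν ≠ 0 := by
    intro h
    exact hpi.not_isRoot_of_natDegree_ne_one (by omega) h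
  have hiν0 : i ν ≠ 0 := by rw [hiν]; exact inv_ne_zero hN0
  have hne : ∀ a : Fin m, i ν ≠ μ a := by
    intro a h
    apply hpν
    apply i.injective
    rw [map_zero, ← eval_map_apply, h]
    exact hroot a
  let lam : Fin (m + 1) → K' := Fin.cons (i ν) μ
  have hl0 : lam 0 = i ν := rfl
  have hls : ∀ a : Fin m, lam a.succ = μ a := fun a => rfl
  have hpr : ∏ a, lam a = 1 := by
    rw [Fin.prod_univ_succ, hl0]
    simp only [hls]
    rw [hiν, inv_mul_cancel₀ hN0]
  refine ⟨K', inferInstance, inferInstance, i, ν, p, lam, hpm, hpi, by rw [hpdeg], hpν, ?_, ?_, ?_, ?_, hpr, ?_⟩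
  · rw [mul_coeff_zero, coeff_sub, coeff_X_zero, coeff_C_zero, zero_sub, hν]
    have h1 : ((-1 : K) ^ m) * ((-1 : K) ^ m) = 1 := by rw [← pow_add, ← two_mul, pow_mul]; simp
    have h2 : ((-1 : K) ^ m) ≠ 0 := pow_ne_zero _ (by simp)
    field_simp
    rw [pow_succ]
    linear_combination (1 : K) * h1
  · rw [Polynomial.map_mul, Polynomial.map_sub, map_X, map_C, hpmap, Fin.prod_univ_succ, hl0]
    simp only [hls]
  · intro a b
    refine Fin.cases ?_ (fun a => ?_) a <;> refine Fin.cases ?_ (fun b => ?_) b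
    · intro _; rfl
    · intro h; exact absurd h (hne b)
    · intro h; exact absurd h.symm (hne a)
    · intro h; exact congrArg Fin.succ (hinjμ h)
  · intro a
    refine Fin.cases ?_ (fun a => ?_) a
    · exact hiν0
    · exact pow_ne_zero _ hζ0
  · have key : ∀ S : Finset (Fin (m + 1)), 0 ∉ S → S.Nonempty → ∏ a ∈ S, lam a ≠ 1 := by
      intro S h0 hS h1
      have h2 : S = (Finset.univ.filter fun a : Fin m => a.succ ∈ S).map (Fin.succEmb m) := by
        ext b
        rw [Finset.mem_map]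
        constructor
        · intro hb
          obtain ⟨c, rfl⟩ := Fin.exists_succ_eq.2 (show b ≠ 0 from fun h => h0 (h ▸ hb))
          exact ⟨c, Finset.mem_filter.2 ⟨Finset.mem_univ _, hb⟩, rfl⟩
        · rintro ⟨c, hc, rfl⟩
          exact (Finset.mem_filter.1 hc).2
      obtain ⟨T, hT⟩ : ∃ T, T = Finset.univ.filter fun a : Fin m => a.succ ∈ S := ⟨_, rfl⟩
      rw [← hT] at h2
      rw [h2, Finset.prod_map] at h1
      refine hsub T ?_ h1
      rw [h2] at hS
      exact (Finset.map_nonempty).1 hS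
    intro S hS hSu h1
    by_cases h0 : (0 : Fin (m + 1)) ∈ S
    · -- the complement
      have h2 : ∏ a ∈ Sᶜ, lam a = 1 := by
        have h3 := Finset.prod_mul_prod_compl S lam
        rw [h1, one_mul, hpr] at h3
        exact h3
      have h3 : (Sᶜ).Nonempty := by
        rw [Finset.nonempty_iff_ne_empty, Ne, Finset.compl_eq_empty_iff]
        exact hSu
      exact key _ (by simpa using h0) h3 h2
    · exact key S h0 hS h1

end Cfsg.Agent.H224.Ore.Zeta
end
end

-- part: H928/Ore/Fix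
section
set_option linter.all false
open scoped Cfsg.Agent.FastGrp

/-!
Elements without fixed points on the unipotent radicals (S2443, S4171).

* `nf_conj` : a conjugate `g t g⁻¹`, `g ∈ L_J`, `t ∈ T` without fixed points on the root groups outside `J`;
* `NF.of_hom` : pull back along an injective homomorphism (base change);
* `noFix_ch` : the condition for `D.group K` from the values of the roots on `t`;
* `bc` : the base change `D.group K → D.group K'`.
-/

set_option autoImplicit false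
set_option linter.unusedSectionVars false

namespace Cfsg.Agent.H928.Ore.Fix

open CoxeterSystem Cfsg.Agent.ChevalleyStructure.CoxeterGeom Cfsg.Agent.Tits.Roots Cfsg.Agent.Tits.Core
  Cfsg.Agent.Nodes.Reps Cfsg.Agent.Nodes.BNOf Cfsg.Agent.Nodes.RGDLib Cfsg.Agent.Nodes.Bruhat
  Cfsg.Agent.Nodes.OppDec Cfsg.Agent.Nodes.LeviDec Cfsg.Agent.Nodes.KindChev Cfsg.Agent.Nodes.ChevCls
  Cfsg.Agent.OddHalf.NI.Mult Cfsg.Agent.OddHalf.NI.ModelChev Cfsg.Agent.Nodes.StabComb
  Cfsg.Agent.H162.GaussDec Cfsg.Agent.H162.GaussLevi Cfsg.Agent.H928.Ore.Frame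
open Cfsg.Lie Cfsg.Agent.ChevalleyStructure Cfsg.Agent.ChevalleyStructure.Elts
  Cfsg.Agent.ChevalleyStructure.RootVec Cfsg.Agent.ChevalleyStructure.NPerm
  Cfsg.Agent.ChevalleyStructure.CoxeterGeomTypes Cfsg.Agent.Nodes.RGDChev Cfsg.Agent.KFacts.RgdChevCoord

universe u v

/-! ### Root group data -/

section

variable {I W Y : Type*} [Fintype I] [DecidableEq I] [Group W] [Group Y] {M : CoxeterMatrix I}
  {cs : CoxeterSystem M W} {A : I → I → ℤ} {h : IsCartan M A} {p : ℕ} {T : Subgroup Y} {n : I → Y}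
  {X : (I → ℤ) → Subgroup Y}

theorem NF.conj {V : Subgroup Y} {c g : Y} (hg : g ∈ Subgroup.normalizer (V : Set Y)) (hc : NF V c) :
    NF V (g * c * g⁻¹) := by
  intro x hx h
  have h1 : g⁻¹ * x * g ∈ V := by
    have := (Subgroup.mem_normalizer_iff.1 (inv_mem hg) x).1 hx
    rwa [inv_inv] at this
  have h2 := hc _ h1 (by
    calc c * (g⁻¹ * x * g) * c⁻¹ = g⁻¹ * ((g * c * g⁻¹) * x * (g * c * g⁻¹)⁻¹) * g := by group
      _ = g⁻¹ * x * g := by rw [h])
  calc x = g * (g⁻¹ * x * g) * g⁻¹ := by group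
    _ = 1 := by rw [h2]; group

theorem NF.of_hom {Y' : Type*} [Group Y'] (f : Y →* Y') (hf : Function.Injective f) {V : Subgroup Y}
    {V' : Subgroup Y'} (hV : V ≤ V'.comap f) {c : Y} (hc : NF V' (f c)) : NF V c := by
  intro x hx h
  apply hf
  rw [map_one]
  refine hc _ (hV hx) ?_
  rw [← map_inv, ← map_mul, ← map_mul, h]

theorem NF.inv {V : Subgroup Y} {c : Y} (hc : NF V c) : NF V c⁻¹ := by
  intro x hx h
  rw [inv_inv] at h
  refine hc x hx ?_
  calc c * x * c⁻¹ = c * (c⁻¹ * x * c) * c⁻¹ := by rw [h]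
    _ = x := by group

theorem nf_conj [Finite W] (R : RGD cs h p T n X) {J : Set I} {t g : Y} (ht : t ∈ T) (hf : NoFix cs h X J t)
    (hg : g ∈ LJ cs h T X J) :
    NF (VJ cs h X J) (g * t * g⁻¹) ∧ NF (VNJ cs h X J) (g * t * g⁻¹) :=
  ⟨NF.conj (LJ_le_normalizer_VJ R J hg) fun _ hx h => fix_VJ R ht hf hx h,
    NF.conj (LJ_le_normalizer_VNJ R J hg) fun _ hx h => fix_VNJ R ht hf hx h⟩

end

/-! ### Chevalley groups -/

section

variable {D : ChevalleyDatum} {l : ℕ} {M : CoxeterMatrix (Fin l)} (hp : IsType D l M)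

include hp in
theorem noFix_ch {K : Type u} [Field K] {J : Set (Fin l)} {t : ↥(D.group K)} (ht : t ∈ TT D K)
    (hne : ∀ r < D.nroots, (∃ k, k ∉ J ∧ vec D l r k ≠ 0) → ch hp (vec D l r) t ≠ 1) :
    NoFix M.toCoxeterSystem hp.isCartan (XX D l K) J t := by
  intro x hx hk a ha hsa
  obtain ⟨r, hr, rfl⟩ := (isRoot_iff hp _ x).1 hx
  obtain ⟨c, rfl⟩ := (mem_XX hp hr a).1 ha
  rw [(act hp hr ht).2] at hsa
  have h3 := xc_inj hp hr hsa
  by_cases hc : c = 0
  · rw [hc, Cfsg.Agent.H162.GaussExc.xc_zero hp hr]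
  · exfalso
    exact hne r hr hk (mul_right_cancel₀ hc (by rw [h3, one_mul]))

theorem ch_th {K : Type u} [Field K] {r : ℕ} (hr : r < D.nroots) (t : Fin l → Kˣ) :
    ch hp (vec D l r) (th hp t) = ∏ i, ((t i : Kˣ) : K) ^ D.cartan i r := by
  have h1 := chH_thT hp hr t
  rw [← h1]
  rfl

/-! #### Base change -/

theorem map_group_le (D : ChevalleyDatum) {K : Type u} {K' : Type v} [Field K] [Field K'] (ι : K →+* K') :
    (D.group K).map (Matrix.GeneralLinearGroup.map (n := D.Idx) ι) ≤ D.group K' := by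
  rw [ChevalleyDatum.group, MonoidHom.map_closure, ChevalleyDatum.group]
  refine Subgroup.closure_mono ?_
  rintro _ ⟨h, ⟨r, t, hh⟩, rfl⟩
  refine ⟨r, ι t, ?_⟩
  change ((h : Matrix D.Idx D.Idx K)).map ι = _
  rw [hh]
  exact Cfsg.Agent.ChevalleyStructure.FieldIso.map_xMat D ι r t

/-- the base change homomorphism -/
noncomputable def bc (D : ChevalleyDatum) {K : Type u} {K' : Type v} [Field K] [Field K'] (ι : K →+* K') :
    ↥(D.group K) →* ↥(D.group K') :=
  ((Matrix.GeneralLinearGroup.map (n := D.Idx) ι).comp (D.group K).subtype).codRestrict (D.group K')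
    fun x => map_group_le D ι ⟨x, x.2, rfl⟩

theorem bc_injective (D : ChevalleyDatum) {K : Type u} {K' : Type v} [Field K] [Field K'] (ι : K →+* K') :
    Function.Injective (bc D ι) := by
  intro x y h
  have h1 := congrArg (fun g : ↥(D.group K') => ((g : GL D.Idx K') : Matrix D.Idx D.Idx K')) h
  change (((x : GL D.Idx K) : Matrix D.Idx D.Idx K)).map ι = (((y : GL D.Idx K) : Matrix D.Idx D.Idx K)).map ι at h1
  apply Subtype.ext
  apply Units.ext
  exact Matrix.map_injective ι.injective h1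

variable {K : Type u} {K' : Type v} [Field K] [Field K'] (ι : K →+* K')

theorem bc_xc {r : ℕ} (hr : r < D.nroots) (a : K) :
    bc D ι (xc hp (vec D l r) a) = xc hp (vec D l r) (ι a) := by
  apply Subtype.ext
  apply Units.ext
  change ((((xc hp (vec D l r) a : ↥(D.group K)) : GL D.Idx K) : Matrix D.Idx D.Idx K)).map ι = _
  rw [coe_xc hp hr, coe_xc hp hr, coe_xG, coe_xG, x_of_lt hr, x_of_lt hr]
  exact Cfsg.Agent.ChevalleyStructure.FieldIso.map_xMat D ι _ a

include hp in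
theorem XX_le_comap {x : Fin l → ℤ} (hx : IsRoot M.toCoxeterSystem hp.isCartan x) :
    XX D l K x ≤ (XX D l K' x).comap (bc D ι) := by
  obtain ⟨r, hr, rfl⟩ := (isRoot_iff hp _ x).1 hx
  intro y hy
  obtain ⟨a, rfl⟩ := (mem_XX hp hr y).1 hy
  rw [Subgroup.mem_comap, bc_xc hp ι hr]
  exact (mem_XX hp hr _).2 ⟨_, rfl⟩

include hp in
theorem VJ_le_comap (J : Set (Fin l)) :
    VJ M.toCoxeterSystem hp.isCartan (XX D l K) J ≤
      (VJ M.toCoxeterSystem hp.isCartan (XX D l K') J).comap (bc D ι) := by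
  refine RGD.Sup_le fun x hx => ?_
  refine (XX_le_comap hp ι hx.1).trans (Subgroup.comap_mono ?_)
  exact RGD.le_Sup hx

include hp in
theorem VNJ_le_comap (J : Set (Fin l)) :
    VNJ M.toCoxeterSystem hp.isCartan (XX D l K) J ≤
      (VNJ M.toCoxeterSystem hp.isCartan (XX D l K') J).comap (bc D ι) := by
  refine RGD.Sup_le fun x hx => ?_
  refine (XX_le_comap hp ι ?_).trans (Subgroup.comap_mono ?_)
  · have h1 := hx.1
    have h2 := h1.neg
    rwa [_root_.neg_neg] at h2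
  exact RGD.le_Sup hx

end

end Cfsg.Agent.H928.Ore.Fix
end

-- part: H928/Ore/Block
section
prune_inst 0x2550744401c002000018058651201c66860005b2000b8800c940004004c0ae6229832e61b470030a02188c556039004811000020426000000e000800011d05810000020611408108c00098001080000000000000000000000000000000000004200000000
set_option linter.all false
open scoped Cfsg.Agent.FastGrp

/-!
Blocks of type `A` in the Chevalley groups (S2443, S4171).

* `hel` : the coroot elements of `SL_n(K)`; `phi_hel` : their images;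
* `nf_block` : fixed points of `s₀ φ(x)`, `x = P diag P⁻¹ ∈ SL₃(K)`, on the unipotent radicals.
-/

set_option autoImplicit false
set_option linter.unusedSectionVars false

namespace Cfsg.Agent.H928.Ore.Block

open CoxeterSystem Cfsg.Agent.ChevalleyStructure.CoxeterGeom Cfsg.Agent.Tits.Roots Cfsg.Agent.Tits.Core
  Cfsg.Agent.Nodes.Reps Cfsg.Agent.Nodes.BNOf Cfsg.Agent.Nodes.RGDLib Cfsg.Agent.Nodes.Bruhat
  Cfsg.Agent.Nodes.OppDec Cfsg.Agent.Nodes.LeviDec Cfsg.Agent.Nodes.KindChev Cfsg.Agent.Nodes.ChevCls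
  Cfsg.Agent.OddHalf.NI.ModelChev Cfsg.Agent.Nodes.StabComb
  Cfsg.Agent.H162.GaussDec Cfsg.Agent.H162.GaussLevi Cfsg.Agent.H162.GaussSL Cfsg.Agent.H162.GaussReg
  Cfsg.Agent.H928.Ore.Frame Cfsg.Agent.H928.Ore.Fix
open Cfsg.Lie Cfsg.Agent.ChevalleyStructure Cfsg.Agent.ChevalleyStructure.Elts
  Cfsg.Agent.ChevalleyStructure.RootVec Cfsg.Agent.ChevalleyStructure.NPerm
  Cfsg.Agent.ChevalleyStructure.CoxeterGeomTypes Cfsg.Agent.Nodes.RGDChev Cfsg.Agent.KFacts.RgdChevCoord
open Cfsg.Agent.FixBN.FieldRGD (uu vv dd ww)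
open Matrix (diagonal det_diagonal)

universe u v

/-- the coroot element -/
def hel {n : ℕ} {K : Type*} [Field K] {a b : Fin n} (hab : a ≠ b) (u : Kˣ) : Matrix.SpecialLinearGroup (Fin n) K :=
  (Matrix.SpecialLinearGroup.transvection hab (u : K) * Matrix.SpecialLinearGroup.transvection hab.symm (-((u⁻¹ : Kˣ) : K)) *
    Matrix.SpecialLinearGroup.transvection hab (u : K)) *
  (Matrix.SpecialLinearGroup.transvection hab (-1) * Matrix.SpecialLinearGroup.transvection hab.symm 1 *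
    Matrix.SpecialLinearGroup.transvection hab (-1))

/-- the diagonal matrices of `SL₃(K)` -/
def dg3 {K : Type*} [Field K] (a b : Kˣ) : Matrix.SpecialLinearGroup (Fin 3) K :=
  ⟨diagonal ![(a : K), ((a⁻¹ * b : Kˣ) : K), ((b⁻¹ : Kˣ) : K)], by
    rw [det_diagonal, Fin.prod_univ_three]
    simp⟩

/-- the entries of a product -/
theorem m3 {K : Type*} [Field K] {A B : Matrix.SpecialLinearGroup (Fin 3) K} {X Y : Matrix (Fin 3) (Fin 3) K}
    (hA : (A : Matrix (Fin 3) (Fin 3) K) = X) (hB : (B : Matrix (Fin 3) (Fin 3) K) = Y) :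
    ((A * B : Matrix.SpecialLinearGroup (Fin 3) K) : Matrix (Fin 3) (Fin 3) K) = X * Y := by
  subst hA hB
  rfl

theorem tv_coe {K : Type*} [Field K] {i j : Fin 3} (hij : i ≠ j) (c : K) :
    ((Matrix.SpecialLinearGroup.transvection hij c : Matrix.SpecialLinearGroup (Fin 3) K) : Matrix (Fin 3) (Fin 3) K) =
      1 + Matrix.single i j c := rfl

theorem dg3_eq {K : Type*} [Field K] (a b : Kˣ) :
    dg3 a b = hel (show (0 : Fin 3) ≠ 1 by decide) a * hel (show (1 : Fin 3) ≠ 2 by decide) b := by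
  have ha : (a : K) ≠ 0 := a.ne_zero
  have hb : (b : K) ≠ 0 := b.ne_zero
  have h01 : ∀ c : K, ((Matrix.SpecialLinearGroup.transvection (show (0 : Fin 3) ≠ 1 by decide) c :
      Matrix.SpecialLinearGroup (Fin 3) K) : Matrix (Fin 3) (Fin 3) K) = !![1, c, 0; 0, 1, 0; 0, 0, 1] := by
    intro c; rw [tv_coe]; ext i j; (revert i j; simp only [Matrix.single, _root_.Fin.forall_fin_succ, Fin.isValue, _root_.Matrix.add_apply, _root_.Matrix.of_apply, _root_.Matrix.cons_val', _root_.Matrix.cons_val_fin_one, _root_.one_ne_zero, _root_.and_false, ↓reduceIte, _root_.add_zero, _root_.Matrix.cons_val_zero, _root_.Matrix.cons_val_succ, _root_.Fin.succ_zero_eq_one, _root_.and_true, _root_.Fin.succ_one_eq_two, Fin.reduceEq, _root_.IsEmpty.forall_iff, _root_.Matrix.one_apply_eq, Nat.reduceAdd, _root_.ne_eq, _root_.zero_ne_one, _root_.not_false_eq_true, _root_.Matrix.one_apply_ne, _root_.zero_add, _root_.and_self, _root_.Fin.succ_ne_zero, _root_.true_and])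
  have h10 : ∀ c : K, ((Matrix.SpecialLinearGroup.transvection (show (0 : Fin 3) ≠ 1 by decide).symm c :
      Matrix.SpecialLinearGroup (Fin 3) K) : Matrix (Fin 3) (Fin 3) K) = !![1, 0, 0; c, 1, 0; 0, 0, 1] := by
    intro c; rw [tv_coe]; ext i j; (revert i j; simp only [Matrix.single, _root_.Fin.forall_fin_succ, Fin.isValue, _root_.Matrix.add_apply, _root_.Matrix.of_apply, _root_.Matrix.cons_val', _root_.Matrix.cons_val_fin_one, _root_.and_true, _root_.Matrix.cons_val_zero, _root_.Matrix.cons_val_succ, _root_.Fin.succ_zero_eq_one, _root_.zero_ne_one, _root_.and_false, ↓reduceIte, _root_.add_zero, _root_.Fin.succ_one_eq_two, Fin.reduceEq, _root_.IsEmpty.forall_iff, _root_.Matrix.one_apply_eq, _root_.one_ne_zero, Nat.reduceAdd, _root_.ne_eq, _root_.not_false_eq_true, _root_.Matrix.one_apply_ne, _root_.and_self, _root_.Fin.succ_ne_zero, _root_.zero_add, _root_.ite_eq_right_iff])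
  have h12 : ∀ c : K, ((Matrix.SpecialLinearGroup.transvection (show (1 : Fin 3) ≠ 2 by decide) c :
      Matrix.SpecialLinearGroup (Fin 3) K) : Matrix (Fin 3) (Fin 3) K) = !![1, 0, 0; 0, 1, c; 0, 0, 1] := by
    intro c; rw [tv_coe]; ext i j; (revert i j; simp only [Matrix.single, _root_.Fin.forall_fin_succ, Fin.isValue, _root_.Matrix.add_apply, _root_.Matrix.of_apply, _root_.Matrix.cons_val', _root_.Matrix.cons_val_fin_one, Fin.reduceEq, _root_.and_false, ↓reduceIte, _root_.add_zero, _root_.Matrix.cons_val_zero, _root_.Matrix.cons_val_succ, _root_.Fin.succ_zero_eq_one, _root_.Fin.succ_one_eq_two, _root_.and_true, _root_.IsEmpty.forall_iff, _root_.Matrix.one_apply_eq, Nat.reduceAdd, _root_.ne_eq, _root_.zero_ne_one, _root_.not_false_eq_true, _root_.Matrix.one_apply_ne, _root_.one_ne_zero, _root_.and_self, _root_.Fin.succ_ne_zero, _root_.zero_add, _root_.true_and])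
  have h21 : ∀ c : K, ((Matrix.SpecialLinearGroup.transvection (show (1 : Fin 3) ≠ 2 by decide).symm c :
      Matrix.SpecialLinearGroup (Fin 3) K) : Matrix (Fin 3) (Fin 3) K) = !![1, 0, 0; 0, 1, 0; 0, c, 1] := by
    intro c; rw [tv_coe]; ext i j; (revert i j; simp only [Matrix.single, _root_.Fin.forall_fin_succ, Fin.isValue, _root_.Matrix.add_apply, _root_.Matrix.of_apply, _root_.Matrix.cons_val', _root_.Matrix.cons_val_fin_one, _root_.one_ne_zero, _root_.and_false, ↓reduceIte, _root_.add_zero, _root_.Matrix.cons_val_zero, _root_.Matrix.cons_val_succ, _root_.Fin.succ_zero_eq_one, _root_.and_true, _root_.Fin.succ_one_eq_two, Fin.reduceEq, _root_.IsEmpty.forall_iff, _root_.Matrix.one_apply_eq, Nat.reduceAdd, _root_.ne_eq, _root_.zero_ne_one, _root_.not_false_eq_true, _root_.Matrix.one_apply_ne, _root_.and_self, _root_.Fin.succ_ne_zero, _root_.true_and, _root_.zero_add])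
  have e1 : ((hel (show (0 : Fin 3) ≠ 1 by decide) a : Matrix.SpecialLinearGroup (Fin 3) K) : Matrix (Fin 3) (Fin 3) K) =
      !![(a : K), 0, 0; 0, (a : K)⁻¹, 0; 0, 0, 1] := by
    refine (m3 (m3 (m3 (h01 _) (h10 _)) (h01 _)) (m3 (m3 (h01 _) (h10 _)) (h01 _))).trans ?_
    ext i j
    (revert i j; simp only [Matrix.mul_apply, Fin.sum_univ_three, ha, _root_.Fin.forall_fin_succ, _root_.Units.val_inv_eq_inv_val, _root_.Matrix.cons_mul, _root_.Nat.succ_eq_add_one, Nat.reduceAdd, _root_.Matrix.vecMul_cons, _root_.Matrix.head_cons, _root_.one_smul, _root_.Matrix.tail_cons, _root_.Matrix.smul_cons, _root_.smul_eq_mul, _root_.mul_neg, _root_.ne_eq, _root_.not_false_eq_true, _root_.mul_inv_cancel₀, _root_.mul_one, _root_.MulZeroClass.mul_zero, _root_.Matrix.smul_empty, _root_.zero_smul, _root_.Matrix.empty_vecMul, _root_.add_zero, _root_.Matrix.add_cons, _root_.add_neg_cancel, _root_.zero_add, _root_.Matrix.empty_add_empty, _root_.Matrix.empty_mul,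 _root_.Equiv.symm_apply_apply, _root_.neg_smul, _root_.inv_mul_cancel₀, _root_.Matrix.neg_cons, _root_.neg_zero, _root_.Matrix.neg_empty, _root_.neg_add_cancel, _root_.Matrix.of_apply, _root_.Matrix.cons_val', _root_.Matrix.cons_val_fin_one, Fin.isValue, _root_.Matrix.cons_val_zero, _root_.Matrix.cons_val_one, _root_.Matrix.cons_val, _root_.Matrix.cons_val_succ, _root_.implies_true, _root_.and_true, _root_.true_and, _root_.neg_neg, _root_.and_self])
  have e2 : ((hel (show (1 : Fin 3) ≠ 2 by decide) b : Matrix.SpecialLinearGroup (Fin 3) K) : Matrix (Fin 3) (Fin 3) K) =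
      !![1, 0, 0; 0, (b : K), 0; 0, 0, (b : K)⁻¹] := by
    refine (m3 (m3 (m3 (h12 _) (h21 _)) (h12 _)) (m3 (m3 (h12 _) (h21 _)) (h12 _))).trans ?_
    ext i j
    (revert i j; simp only [Matrix.mul_apply, Fin.sum_univ_three, hb, _root_.Fin.forall_fin_succ, _root_.Units.val_inv_eq_inv_val, _root_.Matrix.cons_mul, _root_.Nat.succ_eq_add_one, Nat.reduceAdd, _root_.Matrix.vecMul_cons, _root_.Matrix.head_cons, _root_.one_smul, _root_.Matrix.tail_cons, _root_.zero_smul, _root_.Matrix.empty_vecMul, _root_.add_zero, _root_.Matrix.smul_cons, _root_.smul_eq_mul, _root_.MulZeroClass.mul_zero, _root_.mul_neg, _root_.ne_eq, _root_.not_false_eq_true, _root_.mul_inv_cancel₀, _root_.mul_one, _root_.Matrix.smul_empty, _root_.Matrix.add_cons, _root_.add_neg_cancel, _root_.zero_add, _root_.Matrix.empty_add_empty, _root_.Matrix.empty_mul, _root_.Equiv.symm_apply_apply, _root_.neg_smul, _root_.inv_mul_cancel₀, _root_.Matrix.neg_cons, _root_.neg_zero, _root_.Matrix.neg_empty,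 _root_.neg_add_cancel, _root_.Matrix.of_apply, _root_.Matrix.cons_val', _root_.Matrix.cons_val_fin_one, Fin.isValue, _root_.Matrix.cons_val_zero, _root_.Matrix.cons_val_one, _root_.Matrix.cons_val, _root_.Matrix.cons_val_succ, _root_.forall_const, _root_.true_and, _root_.neg_neg, _root_.implies_true, _root_.and_self])
  apply Subtype.ext
  change _ = (((hel (show (0 : Fin 3) ≠ 1 by decide) a * hel (show (1 : Fin 3) ≠ 2 by decide) b :
    Matrix.SpecialLinearGroup (Fin 3) K)) : Matrix (Fin 3) (Fin 3) K)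
  rw [m3 e1 e2]
  ext i j
  (revert i j; simp only [dg3, Matrix.mul_apply, Fin.sum_univ_three, _root_.Fin.forall_fin_succ, _root_.Units.val_mul, _root_.Units.val_inv_eq_inv_val, _root_.Matrix.of_apply, _root_.Matrix.cons_val', _root_.Matrix.cons_val_fin_one, Fin.isValue, _root_.Matrix.cons_val_zero, _root_.Matrix.cons_val_one, _root_.Matrix.cons_val, _root_.mul_one, _root_.MulZeroClass.mul_zero, _root_.add_zero, _root_.Matrix.cons_val_succ, _root_.Fin.succ_zero_eq_one, _root_.zero_add, _root_.Fin.succ_one_eq_two, _root_.IsEmpty.forall_iff, _root_.and_true, _root_.Matrix.diagonal_apply_eq, _root_.ne_eq, _root_.zero_ne_one, _root_.not_false_eq_true, _root_.Matrix.diagonal_apply_ne, _root_.MulZeroClass.zero_mul, Fin.reduceEq, _root_.and_self, _root_.Fin.succ_ne_zero, _root_.one_mul, _root_.true_and])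

section

variable {D : ChevalleyDatum} {l : ℕ} {M : CoxeterMatrix (Fin l)} (hp : IsType D l M) {K : Type u} [Field K]
  {n : ℕ} {r : Fin n → Fin n → ℕ} {ε : ℤ} (hε : ε * ε = 1) (hr : ∀ a b, a ≠ b → r a b < D.nroots)
  (hneg : ∀ a b, a ≠ b → r b a = D.neg (r a b)) {φ : Matrix.SpecialLinearGroup (Fin n) K →* ↥(D.group K)}
  (hφ : ∀ a b (hab : a ≠ b) c, φ (Matrix.SpecialLinearGroup.transvection hab c) = xc hp (vec D l (r a b)) ((ε : K) * c))

include hε hr hneg hφ

theorem phi_hel {a b : Fin n} (hab : a ≠ b) {i : Fin l} (hi : r a b = D.simple i) (u : Kˣ) :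
    φ (hel hab u) = th hp (Pi.mulSingle i u) := by
  have hεK : (ε : K) * (ε : K) = 1 := by rw [← Int.cast_mul, hε, Int.cast_one]
  rw [th_mulSingle]
  have e1 : ∀ c, φ (Matrix.SpecialLinearGroup.transvection hab c) = sl hp i (uu ((ε : K) * c)) := by
    intro c
    rw [hφ, sl_uu, hi, vec_simple hp i]
  have e2 : ∀ c, φ (Matrix.SpecialLinearGroup.transvection hab.symm c) = sl hp i (vv ((ε : K) * c)) := by
    intro c
    rw [hφ, sl_vv, hneg a b hab, vec_neg hp (hr a b hab), hi, vec_simple hp i]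
  unfold hel
  rw [map_mul, map_mul, map_mul, map_mul, map_mul, e1, e1, e2, e2, ← map_mul, ← map_mul, ← map_mul, ← map_mul,
    ← map_mul]
  congr 1
  have hu : (u : K) ≠ 0 := u.ne_zero
  rw [Units.val_inv_eq_inv_val]
  apply Subtype.ext
  change (!![1, (ε : K) * u; 0, 1] * !![1, 0; (ε : K) * -(u : K)⁻¹, 1] * !![1, (ε : K) * u; 0, 1]) *
    (!![1, (ε : K) * -1; 0, 1] * !![1, 0; (ε : K) * 1, 1] * !![1, (ε : K) * -1; 0, 1]) = !![(u : K), 0; 0, (u : K)⁻¹]
  have g1 : (!![1, (ε : K) * u; 0, 1] * !![1, 0; (ε : K) * -(u : K)⁻¹, 1] * !![1, (ε : K) * u; 0, 1] :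
      Matrix (Fin 2) (Fin 2) K) = !![0, (ε : K) * u; (ε : K) * -(u : K)⁻¹, 0] := by
    have g2 : (ε : K) * u * ((ε : K) * (u : K)⁻¹) = 1 := by
      rw [mul_mul_mul_comm, hεK, mul_inv_cancel₀ hu, one_mul]
    rw [Matrix.mul_fin_two, Matrix.mul_fin_two]
    have g3 : (ε : K) * (u : K)⁻¹ * ((ε : K) * u) = 1 := by
      rw [mul_mul_mul_comm, hεK, inv_mul_cancel₀ hu, one_mul]
    ext a b
    fin_cases a <;> fin_cases b
    · simp only [g2, _root_.mul_one, _root_.mul_neg, _root_.add_neg_cancel, _root_.MulZeroClass.mul_zero, _root_.zero_add, _root_.add_zero, _root_.MulZeroClass.zero_mul, _root_.one_mul, _root_.neg_mul, _root_.Fin.zero_eta, _root_.Fin.isValue, _root_.Matrix.of_apply, _root_.Matrix.cons_val', _root_.Matrix.cons_val_zero, _root_.Matrix.cons_val_fin_one]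
    · simp only [g2, _root_.mul_one, _root_.mul_neg, _root_.add_neg_cancel, _root_.MulZeroClass.mul_zero, _root_.zero_add, _root_.add_zero, _root_.MulZeroClass.zero_mul, _root_.one_mul, _root_.neg_mul, _root_.Fin.zero_eta, _root_.Fin.isValue, _root_.Fin.mk_one, _root_.Matrix.of_apply, _root_.Matrix.cons_val', _root_.Matrix.cons_val_one, _root_.Matrix.cons_val_fin_one, _root_.Matrix.cons_val_zero]
    · simp only [_root_.mul_one, _root_.mul_neg, _root_.MulZeroClass.mul_zero, _root_.zero_add, _root_.add_zero, _root_.one_mul, _root_.neg_mul, _root_.Fin.mk_one, _root_.Fin.isValue, _root_.Fin.zero_eta, _root_.Matrix.of_apply, _root_.Matrix.cons_val', _root_.Matrix.cons_val_zero, _root_.Matrix.cons_val_fin_one, _root_.Matrix.cons_val_one]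
    · simp only [g3, _root_.mul_one, _root_.mul_neg, _root_.MulZeroClass.mul_zero, _root_.zero_add, _root_.add_zero, _root_.one_mul, _root_.neg_mul, _root_.neg_add_cancel, _root_.Fin.mk_one, _root_.Fin.isValue, _root_.Matrix.of_apply, _root_.Matrix.cons_val', _root_.Matrix.cons_val_one, _root_.Matrix.cons_val_fin_one]
  have g1' : (!![1, (ε : K) * -1; 0, 1] * !![1, 0; (ε : K) * 1, 1] * !![1, (ε : K) * -1; 0, 1] :
      Matrix (Fin 2) (Fin 2) K) = !![0, -(ε : K); (ε : K), 0] := by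
    rw [Matrix.mul_fin_two, Matrix.mul_fin_two]
    ext a b
    fin_cases a <;> fin_cases b
    · simp [hεK]
    · simp [hεK]
    · simp
    · simp [hεK]
  rw [g1, g1', Matrix.mul_fin_two]
  ext a b
  fin_cases a <;> fin_cases b
  · simp only [_root_.MulZeroClass.mul_zero, _root_.zero_add, _root_.mul_neg, _root_.MulZeroClass.zero_mul, _root_.neg_zero, _root_.add_zero, _root_.neg_mul, _root_.neg_neg, _root_.Fin.zero_eta, _root_.Fin.isValue, _root_.Matrix.of_apply, _root_.Matrix.cons_val', _root_.Matrix.cons_val_zero, _root_.Matrix.cons_val_fin_one]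
    rw [mul_right_comm, hεK, one_mul]
  · simp
  · simp
  · simp only [_root_.MulZeroClass.mul_zero, _root_.zero_add, _root_.mul_neg, _root_.MulZeroClass.zero_mul, _root_.neg_zero, _root_.add_zero, _root_.neg_mul, _root_.neg_neg, _root_.Fin.mk_one, _root_.Fin.isValue, _root_.Matrix.of_apply, _root_.Matrix.cons_val', _root_.Matrix.cons_val_one, _root_.Matrix.cons_val_fin_one]
    rw [mul_right_comm, hεK, one_mul]

omit hε hneg in
theorem phi_mem {J : Set (Fin l)} (hJ : ∀ a b, a ≠ b → ∀ k, k ∉ J → vec D l (r a b) k = 0)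
    (A : Matrix.SpecialLinearGroup (Fin n) K) :
    φ A ∈ LJ M.toCoxeterSystem hp.isCartan (TT D K) (XX D l K) J := by
  have h1 : (⊤ : Subgroup (Matrix.SpecialLinearGroup (Fin n) K)) ≤
      (LJ M.toCoxeterSystem hp.isCartan (TT D K) (XX D l K) J).comap φ := by
    rw [← Cfsg.Agent.LieClassical.SLGen.closure_transvections, Subgroup.closure_le]
    rintro _ ⟨a, b, hab, c, rfl⟩
    change φ _ ∈ LJ M.toCoxeterSystem hp.isCartan (TT D K) (XX D l K) J
    rw [hφ]
    refine X_le_LJ (J := J) (x := vec D l (r a b)) ⟨isRoot_vec hp _ (hr a b hab), hJ a b hab⟩ ?_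
    exact (mem_XX hp (hr a b hab) _).2 ⟨_, rfl⟩
  exact h1 (Subgroup.mem_top A)

omit hε hneg in
/-- a torus element with trivial values on the roots of the block commutes with it -/
theorem comm_phi {s : ↥(D.group K)} (hs : s ∈ TT D K) (h1 : ∀ a b, a ≠ b → ch hp (vec D l (r a b)) s = 1)
    (A : Matrix.SpecialLinearGroup (Fin n) K) : s * φ A = φ A * s := by
  have h2 : (MulAut.conj s).toMonoidHom.comp φ = φ := by
    refine hom_ext fun a b hab c => ?_
    change s * φ _ * s⁻¹ = φ _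
    rw [hφ, (act hp (hr a b hab) hs).2, h1 a b hab, one_mul]
  have h3 := DFunLike.congr_fun h2 A
  change s * φ A * s⁻¹ = φ A at h3
  calc s * φ A = (s * φ A * s⁻¹) * s := by group
    _ = φ A * s := by rw [h3]

end

section

variable {D : ChevalleyDatum} {l : ℕ} {M : CoxeterMatrix (Fin l)} (hp : IsType D l M) {K : Type u} [Field K]
  {r : Fin 3 → Fin 3 → ℕ} {ε : ℤ} (hε : ε * ε = 1) (hr : ∀ a b, a ≠ b → r a b < D.nroots)
  (hneg : ∀ a b, a ≠ b → r b a = D.neg (r a b)) {φ : Matrix.SpecialLinearGroup (Fin 3) K →* ↥(D.group K)}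
  (hφ : ∀ a b (hab : a ≠ b) c, φ (Matrix.SpecialLinearGroup.transvection hab c) = xc hp (vec D l (r a b)) ((ε : K) * c))

include hε hr hneg hφ

theorem phi_dg3 {i j : Fin l} (hi : r 0 1 = D.simple i) (hj : r 1 2 = D.simple j) (a b : Kˣ) :
    φ (dg3 a b) = th hp (Pi.mulSingle i a * Pi.mulSingle j b) := by
  rw [dg3_eq, map_mul, phi_hel hp hε hr hneg hφ _ hi, phi_hel hp hε hr hneg hφ _ hj, ← map_mul]

/-- **Fixed points of `s₀ φ(x)`.** -/
theorem nf_block [Finite K] {i j : Fin l} (hi : r 0 1 = D.simple i) (hj : r 1 2 = D.simple j) {J : Set (Fin l)}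
    (hJ : ∀ a b, a ≠ b → ∀ k, k ∉ J → vec D l (r a b) k = 0) {σ : Fin l → Kˣ}
    (hσ : ∀ a b, a ≠ b → ∏ k : Fin l, ((σ k : Kˣ) : K) ^ D.cartan k (r a b) = 1) {a b : Kˣ}
    (hne : ∀ s < D.nroots, (∃ k, k ∉ J ∧ vec D l s k ≠ 0) →
      (∏ k : Fin l, ((σ k : Kˣ) : K) ^ D.cartan k s) * ((a : K) ^ D.cartan i s * (b : K) ^ D.cartan j s) ≠ 1)
    {x P : Matrix.SpecialLinearGroup (Fin 3) K} (hx : x = P * dg3 a b * P⁻¹) :
    NF (VJ M.toCoxeterSystem hp.isCartan (XX D l K) J) (th hp σ * φ x) ∧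
      NF (VNJ M.toCoxeterSystem hp.isCartan (XX D l K) J) (th hp σ * φ x) := by
  obtain ⟨p, hpc⟩ := CharP.exists K
  have : Fact p.Prime := ⟨(CharP.char_is_prime_or_zero K p).resolve_right (CharP.char_ne_zero_of_finite K p)⟩
  have := finite_W hp M.toCoxeterSystem
  have hth : ∀ t : Fin l → Kˣ, th hp t ∈ TT D K := fun t => (thT hp t).2
  have hcomm := comm_phi hp hr hφ (hth σ) (fun a b hab => by rw [ch_th hp (hr a b hab), hσ a b hab])
  have e : th hp σ * φ x = φ P * th hp (σ * (Pi.mulSingle i a * Pi.mulSingle j b)) * (φ P)⁻¹ := by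
    rw [hx, map_mul, map_mul, map_inv, phi_dg3 hp hε hr hneg hφ hi hj, map_mul (th hp) σ, ← mul_assoc, ← mul_assoc,
      hcomm P, ← mul_assoc]
  rw [e]
  refine nf_conj (rgd (K := K) hp M.toCoxeterSystem p) (hth _) (noFix_ch hp (hth _) fun s hs hk => ?_)
    (phi_mem hp hr hφ hJ P)
  rw [ch_th hp hs]
  have e2 : ∀ (i : Fin l) (u : Kˣ), ∏ k, (((Pi.mulSingle i u : Fin l → Kˣ) k : Kˣ) : K) ^ D.cartan k s =
      (u : K) ^ D.cartan i s := by
    intro i u
    rw [Finset.prod_eq_single i]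
    · rw [Pi.mulSingle_eq_same]
    · intro k _ hk
      rw [Pi.mulSingle_eq_of_ne hk, Units.val_one, _root_.one_zpow]
    · intro hi; exact absurd (Finset.mem_univ i) hi
  have e3 : ∏ k : Fin l, (((σ * (Pi.mulSingle i a * Pi.mulSingle j b) : Fin l → Kˣ) k : Kˣ) : K) ^ D.cartan k s =
      (∏ k : Fin l, ((σ k : Kˣ) : K) ^ D.cartan k s) * ((a : K) ^ D.cartan i s * (b : K) ^ D.cartan j s) := by
    rw [← e2 i a, ← e2 j b, ← Finset.prod_mul_distrib, ← Finset.prod_mul_distrib]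
    refine Finset.prod_congr rfl fun k _ => ?_
    rw [Pi.mul_apply, Pi.mul_apply, Units.val_mul, Units.val_mul, mul_zpow, mul_zpow]
  rw [e3]
  exact hne s hs hk

end

end Cfsg.Agent.H928.Ore.Block

private theorem dce_f5bafda0e3d8 : _root_.True := by
  try have : _root_.True := by simp only [_root_.Cfsg.Agent.H928.Ore.Block.dg3.eq_1]
  exact _root_.True.intro
end

-- part: H194/Ore/Diag
section
set_option linter.all false
open scoped Cfsg.Agent.FastGrp

/-!
# Diagonalisation of the elements of `SL₃(K)` with irreducible characteristic polynomial (S2443, S4171)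

`exists_dg3` : over a finite extension the matrix is conjugate in `SL₃` to a diagonal matrix with no entry in `K`.
-/

set_option autoImplicit false

namespace Cfsg.Agent.H194.Ore

open Polynomial Matrix
open Cfsg.Agent.H928.Ore.Block (dg3)

universe u

/-- the roots of an irreducible polynomial over a finite field in its splitting field -/
theorem exists_roots {K : Type u} [Field K] [Finite K] {f : K[X]} (hf : Irreducible f) (hm : f.Monic) {n : ℕ}
    (hn : f.natDegree = n) :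
    ∃ (K' : Type u) (_ : Field K') (_ : Finite K') (ι : K →+* K') (lam : Fin n → K'), Function.Injective lam ∧
      f.map ι = ∏ i, (X - C (lam i)) := by
  have hsep : f.Separable := PerfectField.separable_of_irreducible hf
  have hfin : Finite f.SplittingField := Module.finite_of_finite K
  have hsp := SplittingField.splits f
  refine ⟨f.SplittingField, inferInstance, hfin, algebraMap K f.SplittingField, ?_⟩
  have hnd : (f.map (algebraMap K f.SplittingField)).roots.Nodup := nodup_roots hsep.map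
  have hcard : (f.map (algebraMap K f.SplittingField)).roots.card = n := by
    rw [← hn, ← natDegree_map (algebraMap K f.SplittingField)]
    exact (Splits.natDegree_eq_card_roots hsp).symm
  obtain ⟨l, hl⟩ := Quot.exists_rep (f.map (algebraMap K f.SplittingField)).roots
  have hl' : (f.map (algebraMap K f.SplittingField)).roots = (l : Multiset _) := hl.symm
  rw [hl', Multiset.coe_nodup] at hnd
  rw [hl', Multiset.coe_card] at hcard
  subst hcard
  refine ⟨l.get, List.nodup_iff_injective_get.1 hnd, ?_⟩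
  have h1 := Splits.eq_prod_roots_of_monic hsp (hm.map _)
  rw [hl', Multiset.map_coe, Multiset.prod_coe] at h1
  rw [h1, ← List.prod_ofFn]
  congr 1
  conv_lhs => rw [← List.ofFn_get l]
  rw [List.map_ofFn]
  rfl

/-- diagonalisation of a matrix with `n` different eigenvalues -/
theorem exists_diag {F : Type*} [Field F] {n : ℕ} {M : Matrix (Fin n) (Fin n) F} {lam : Fin n → F}
    (hl : Function.Injective lam) (hM : M.charpoly = ∏ i, (X - C (lam i))) (hn : 0 < n) :
    ∃ P : SpecialLinearGroup (Fin n) F, M * (P : Matrix (Fin n) (Fin n) F) =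
      (P : Matrix (Fin n) (Fin n) F) * diagonal lam := by
  have h1 : ∀ i, ∃ v : Fin n → F, Module.End.HasEigenvector (Matrix.toLin' M) (lam i) v := by
    intro i
    have h2 : Module.End.HasEigenvalue (Matrix.toLin' M) (lam i) := by
      rw [Module.End.hasEigenvalue_iff_isRoot_charpoly, Matrix.charpoly_toLin', hM, IsRoot.def, eval_prod]
      exact Finset.prod_eq_zero (Finset.mem_univ i) (by simp)
    exact h2.exists_hasEigenvector
  choose v hv using h1
  have hli := Module.End.eigenvectors_linearIndependent' (Matrix.toLin' M) lam hl v hv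
  have hMv : ∀ i, M *ᵥ v i = lam i • v i := fun i => by
    have := (hv i).apply_eq_smul
    rwa [Matrix.toLin'_apply] at this
  -- the matrix of the eigenvectors
  let P₀ : Matrix (Fin n) (Fin n) F := Matrix.of fun i j => v j i
  have hP₀ : P₀.det ≠ 0 := by
    have h3 : IsUnit P₀ := by
      rw [← Matrix.linearIndependent_cols_iff_isUnit]
      exact hli
    exact ((Matrix.isUnit_iff_isUnit_det _).1 h3).ne_zero
  let d : Fin n → F := fun i => if i = ⟨0, hn⟩ then (P₀.det)⁻¹ else 1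
  have hd : (P₀ * diagonal d).det = 1 := by
    rw [det_mul, det_diagonal, Finset.prod_eq_single (⟨0, hn⟩ : Fin n)]
    · simp only [d, if_true]
      exact mul_inv_cancel₀ hP₀
    · intro i _ hi
      simp only [d, if_neg hi]
    · intro h; exact absurd (Finset.mem_univ _) h
  refine ⟨⟨P₀ * diagonal d, hd⟩, ?_⟩
  change M * (P₀ * diagonal d) = P₀ * diagonal d * diagonal lam
  have h4 : M * P₀ = P₀ * diagonal lam := by
    ext i j
    rw [Matrix.mul_diagonal]
    have h5 := congrFun (hMv j) i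
    rw [Pi.smul_apply, smul_eq_mul] at h5
    change _ = v j i * lam j
    rw [mul_comm, ← h5]
    rfl
  rw [← Matrix.mul_assoc, h4, Matrix.mul_assoc, Matrix.mul_assoc, diagonal_mul_diagonal, diagonal_mul_diagonal]
  congr 2
  funext i
  exact mul_comm _ _

/-- **Diagonalisation in `SL₃`.** -/
theorem exists_dg3 {K : Type u} [Field K] [Finite K] {x : SpecialLinearGroup (Fin 3) K}
    (h : Irreducible (x : Matrix (Fin 3) (Fin 3) K).charpoly) :
    ∃ (K' : Type u) (_ : Field K') (_ : Finite K') (ι : K →+* K') (a b : K'ˣ)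
      (P : SpecialLinearGroup (Fin 3) K'), SpecialLinearGroup.map ι x = P * dg3 a b * P⁻¹ ∧
      (∀ c : K, ι c ≠ (a : K')) ∧ (∀ c : K, ι c ≠ ((a⁻¹ * b : K'ˣ) : K')) ∧ ∀ c : K, ι c ≠ ((b⁻¹ : K'ˣ) : K') := by
  have hdeg : (x : Matrix (Fin 3) (Fin 3) K).charpoly.natDegree = 3 := by
    rw [Matrix.charpoly_natDegree_eq_dim, Fintype.card_fin]
  obtain ⟨K', _, _, ι, lam, hl, hf⟩ := exists_roots h (Matrix.charpoly_monic _) hdeg
  have hM : ((SpecialLinearGroup.map ι x : SpecialLinearGroup (Fin 3) K') : Matrix (Fin 3) (Fin 3) K').charpoly =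
      ∏ i, (X - C (lam i)) := by
    rw [← hf, ← Matrix.charpoly_map]
    rfl
  obtain ⟨P, hP⟩ := exists_diag hl hM (by norm_num)
  have hprod : lam 0 * lam 1 * lam 2 = 1 := by
    have h1 := congrArg Matrix.det hP
    rw [det_mul, det_mul, det_diagonal, Fin.prod_univ_three, Matrix.SpecialLinearGroup.det_coe,
      Matrix.SpecialLinearGroup.det_coe, one_mul, one_mul] at h1
    exact h1.symm
  have h0 : lam 0 ≠ 0 := fun h0 => by rw [h0, zero_mul, zero_mul] at hprod; exact zero_ne_one hprod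
  have h1 : lam 1 ≠ 0 := fun h0 => by rw [h0, mul_zero, zero_mul] at hprod; exact zero_ne_one hprod
  have hr : ∀ (i : Fin 3) (c : K), ι c ≠ lam i := by
    intro i c hc
    have h2 : (x : Matrix (Fin 3) (Fin 3) K).charpoly.IsRoot c := by
      apply ι.injective
      rw [map_zero, ← eval₂_at_apply, ← eval_map, hf, hc, eval_prod]
      exact Finset.prod_eq_zero (Finset.mem_univ i) (by simp)
    have h3 := natDegree_eq_of_degree_eq_some (degree_eq_one_of_irreducible_of_root h h2)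
    rw [hdeg] at h3
    norm_num at h3
  refine ⟨K', inferInstance, inferInstance, ι, Units.mk0 _ h0, Units.mk0 _ h0 * Units.mk0 _ h1, P, ?_, hr 0, ?_, ?_⟩
  · rw [eq_mul_inv_iff_mul_eq]
    apply Subtype.ext
    rw [Matrix.SpecialLinearGroup.coe_mul, hP, Matrix.SpecialLinearGroup.coe_mul]
    congr 1
    change _ = diagonal _
    congr 1
    funext i
    fin_cases i
    · rfl
    · simp
    · simp only [Units.val_inv_eq_inv_val, Units.val_mul, Units.val_mk0]
      change lam 2 = (lam 0 * lam 1)⁻¹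
      exact eq_inv_of_mul_eq_one_right hprod
  · intro c
    rw [inv_mul_cancel_left, Units.val_mk0]
    exact hr 1 c
  · intro c hc
    refine hr 2 c ?_
    rw [hc, Units.val_inv_eq_inv_val, Units.val_mul, Units.val_mk0, Units.val_mk0]
    exact (eq_inv_of_mul_eq_one_right hprod).symm

end Cfsg.Agent.H194.Ore
end

-- part: H150/MF/Big
section
prune_inst 0x240064003180020000000010822004604a0000220003080008a0090205c1a46209c22261aa900402020000050831000000000030400000000a000000011901801000100421000000420098000000000000000000000000000000000000000000000000000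
set_option linter.all false
open scoped Cfsg.Agent.FastGrp

-- part: H150/MF/Pencil
section
/-!
# A pencil without common invariant parts, `|F| ≥ 3` (helper150)

The count of `H158/Pencil.lean` with a sharper inequality.
-/

set_option autoImplicit false

namespace Cfsg.Agent.H150.MF

open Module Polynomial Cfsg.Agent.H166.Cov Cfsg.Agent.H158.Pencil

universe u

variable {F : Type u} [Field F] {V W U : Type u} [AddCommGroup V] [Module F V]
  [AddCommGroup W] [Module F W] [AddCommGroup U] [Module F U]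

theorem prod_step (q : ℝ) (m : ℕ) : ∏ i ∈ Finset.range (m + 1), (q ^ (m + 1) - q ^ i) =
    (q ^ (m + 1) - 1) * (q ^ m * ∏ i ∈ Finset.range m, (q ^ m - q ^ i)) := by
  rw [Finset.prod_range_succ', pow_zero, mul_comm]
  congr 1
  have h1 : ∀ i, q ^ (m + 1) - q ^ (i + 1) = q * (q ^ m - q ^ i) := fun i => by ring
  rw [Finset.prod_congr rfl fun i _ => h1 i, Finset.prod_mul_distrib, Finset.prod_const, Finset.card_range]

/-- `∏ (1 - q^{-j}) ≥ 1 - q^{-1} - q^{-2} + q^{-m-1}` -/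
theorem prod_low {q : ℝ} (hq : 3 ≤ q) (m : ℕ) :
    q ^ ((m + 1) * (m + 1)) * (q ^ (m + 3) - q ^ (m + 2) - q ^ (m + 1) + q) ≤
      q ^ (m + 3) * ∏ i ∈ Finset.range (m + 1), (q ^ (m + 1) - q ^ i) := by
  induction m with
  | zero =>
    simp
    ring_nf
    exact le_refl _
  | succ m ih =>
    rw [prod_step]
    set A := ∏ i ∈ Finset.range (m + 1), (q ^ (m + 1) - q ^ i) with hA
    have h0 : (0 : ℝ) ≤ q := by linarith
    have h1 : (1 : ℝ) ≤ q ^ (m + 2) := one_le_pow₀ (by linarith)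
    have h2 : (0 : ℝ) ≤ q ^ (m + 2) * (q ^ (m + 2) - 1) := mul_nonneg (by linarith) (by linarith)
    have h3 := mul_le_mul_of_nonneg_left ih h2
    have e1 : q ^ (m + 1 + 3) * ((q ^ (m + 1 + 1) - 1) * (q ^ (m + 1) * A)) =
        q ^ (m + 2) * (q ^ (m + 2) - 1) * (q ^ (m + 3) * A) := by ring
    rw [e1]
    refine le_trans ?_ h3
    have h4 : (0 : ℝ) ≤ q ^ ((m + 1) * (m + 1)) * q ^ (m + 2) := by positivity
    have h5 : (0 : ℝ) ≤ q ^ (m + 1) - q := by
      have : q ^ 1 ≤ q ^ (m + 1) := pow_le_pow_right₀ (by linarith) (by omega)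
      linarith
    have e2 : q ^ (m + 2) * (q ^ (m + 2) - 1) *
        (q ^ ((m + 1) * (m + 1)) * (q ^ (m + 3) - q ^ (m + 2) - q ^ (m + 1) + q)) -
        q ^ ((m + 1 + 1) * (m + 1 + 1)) * (q ^ (m + 1 + 3) - q ^ (m + 1 + 2) - q ^ (m + 1 + 1) + q) =
        q ^ ((m + 1) * (m + 1)) * q ^ (m + 2) * (q ^ (m + 1) - q) := by ring
    have h6 := mul_nonneg h4 h5
    linarith

theorem prod_ineq3 {q m : ℕ} (hq : 3 ≤ q) :
    q ^ (m * m) < 2 * ∏ i : Fin m, (q ^ m - q ^ (i : ℕ)) := by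
  rcases m with _ | m
  · simp
  have hq1 : (3 : ℝ) ≤ q := by exact_mod_cast hq
  have h := prod_low hq1 m
  set r : ℝ := ∏ i ∈ Finset.range (m + 1), ((q : ℝ) ^ (m + 1) - q ^ i) with hr
  have hQ : (0 : ℝ) < (q : ℝ) ^ (m + 3) := by positivity
  have hP : (0 : ℝ) < (q : ℝ) ^ ((m + 1) * (m + 1)) := by positivity
  have h9 : (q : ℝ) ^ ((m + 1) * (m + 1)) < 2 * r := by
    have h10 : (q : ℝ) ^ (m + 3) * (q : ℝ) ^ ((m + 1) * (m + 1)) < (q : ℝ) ^ (m + 3) * (2 * r) := by
      have h11 : (q : ℝ) ^ (m + 3) < 2 * ((q : ℝ) ^ (m + 3) - q ^ (m + 2) - q ^ (m + 1) + q) := by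
        have h12 : (0 : ℝ) < (q : ℝ) ^ (m + 1) * ((q : ℝ) ^ 2 - 2 * q - 2) := by
          apply mul_pos (by positivity)
          nlinarith
        have e : 2 * ((q : ℝ) ^ (m + 3) - q ^ (m + 2) - q ^ (m + 1) + q) - (q : ℝ) ^ (m + 3) =
            (q : ℝ) ^ (m + 1) * ((q : ℝ) ^ 2 - 2 * q - 2) + 2 * q := by ring
        linarith
      have h13 := mul_lt_mul_of_pos_left h11 hP
      calc (q : ℝ) ^ (m + 3) * (q : ℝ) ^ ((m + 1) * (m + 1)) =
          (q : ℝ) ^ ((m + 1) * (m + 1)) * (q : ℝ) ^ (m + 3) := by ring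
        _ < (q : ℝ) ^ ((m + 1) * (m + 1)) * (2 * ((q : ℝ) ^ (m + 3) - q ^ (m + 2) - q ^ (m + 1) + q)) := h13
        _ = 2 * ((q : ℝ) ^ ((m + 1) * (m + 1)) * ((q : ℝ) ^ (m + 3) - q ^ (m + 2) - q ^ (m + 1) + q)) := by ring
        _ ≤ 2 * ((q : ℝ) ^ (m + 3) * r) := by linarith
        _ = _ := by ring
    exact lt_of_mul_lt_mul_left h10 hQ.le
  have h10 : ((∏ i : Fin (m + 1), (q ^ (m + 1) - q ^ (i : ℕ)) : ℕ) : ℝ) = r := by
    rw [Nat.cast_prod, hr, Finset.prod_range]
    refine Finset.prod_congr rfl fun i _ => ?_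
    rw [Nat.cast_sub (Nat.pow_le_pow_right (by omega) i.2.le)]
    push_cast
    rfl
  have : ((q ^ ((m + 1) * (m + 1)) : ℕ) : ℝ) < ((2 * ∏ i : Fin (m + 1), (q ^ (m + 1) - q ^ (i : ℕ)) : ℕ) : ℝ) := by
    rw [Nat.cast_mul, h10]
    push_cast
    exact_mod_cast h9
  exact_mod_cast this

theorem card_good3 [Finite F] (hq : 3 ≤ Nat.card F) [FiniteDimensional F W]
    [FiniteDimensional F U] {k : ℕ} (hW : finrank F W = k + 1)
    (hd : finrank F U = finrank F W + 1) (a : W →ₗ[F] U) (ha : Function.Injective a) :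
    Nat.card (W →ₗ[F] U) < 2 * Nat.card (Good a) := by
  classical
  have : Fintype F := Fintype.ofFinite F
  have : Finite W := Module.finite_of_finite F
  have : Finite U := Module.finite_of_finite F
  have : Finite (W →ₗ[F] U) := Finite.of_injective (fun f => (f : W → U)) DFunLike.coe_injective
  obtain ⟨u, hu⟩ : ∃ u, u ∉ LinearMap.range a := by
    by_contra hcon
    push Not at hcon
    have h1 : LinearMap.range a = ⊤ := by
      rw [eq_top_iff]; intro x _; exact hcon x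
    have h2 := LinearMap.finrank_range_of_inj ha
    rw [h1, finrank_top] at h2
    omega
  let e : W ≃ₗ[F] (Fin (k + 1) → F) := LinearEquiv.ofFinrankEq _ _ (by rw [hW]; simp)
  let Φ : GL (Fin (k + 1)) F × (Fin (k + 1) → F) → Good a := fun p =>
    ⟨mk a u (crd e p.1) p.2, mk_good ha hu _ _⟩
  have hΦ : Function.Injective Φ := by
    rintro ⟨M, c⟩ ⟨N, d⟩ h
    have h1 := congrArg Subtype.val h
    obtain ⟨h2, h3⟩ := mk_inj ha hu h1
    exact Prod.ext (crd_inj e h2) h3
  have h1 : Nat.card (GL (Fin (k + 1)) F × (Fin (k + 1) → F)) ≤ Nat.card (Good a) :=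
    Nat.card_le_card_of_injective Φ hΦ
  rw [Nat.card_prod, Matrix.card_GL_field, Nat.card_fun, Nat.card_eq_fintype_card (α := Fin (k+1)),
    Fintype.card_fin, ← Nat.card_eq_fintype_card (α := F)] at h1
  have h2 : Nat.card (W →ₗ[F] U) = Nat.card F ^ ((k + 1) * (k + 2)) := by
    rw [Module.natCard_eq_pow_finrank (K := F), finrank_linearMap, hd, hW]
  have h3 := prod_ineq3 (m := k + 1) hq
  rw [h2]
  have h4 : Nat.card F ^ ((k + 1) * (k + 2)) =
      Nat.card F ^ ((k + 1) * (k + 1)) * Nat.card F ^ (k + 1) := by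
    rw [← pow_add]; ring_nf
  rw [h4]
  have hpos : 0 < Nat.card F ^ (k + 1) := by
    apply pow_pos; omega
  calc _ < (2 * ∏ i : Fin (k + 1), (Nat.card F ^ (k + 1) - Nat.card F ^ (i : ℕ))) *
        Nat.card F ^ (k + 1) := (Nat.mul_lt_mul_right hpos).2 h3
    _ = 2 * ((∏ i : Fin (k + 1), (Nat.card F ^ (k + 1) - Nat.card F ^ (i : ℕ))) *
        Nat.card F ^ (k + 1)) := by ring
    _ ≤ _ := Nat.mul_le_mul_left _ h1

theorem exists_pencil3 [Finite F] (hq : 3 ≤ Nat.card F) [FiniteDimensional F W]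
    [FiniteDimensional F U] (hd : finrank F U = finrank F W + 1) (a b : W →ₗ[F] U)
    (ha : Function.Injective a) (hb : Function.Injective b) :
    ∃ D : W →ₗ[F] U, (∀ S : Submodule F W, (∀ x ∈ S, ∃ y ∈ S, D x = a y) → S = ⊥) ∧
      (∀ S : Submodule F W, (∀ x ∈ S, ∃ y ∈ S, D x = b y) → S = ⊥) := by
  classical
  have : Finite W := Module.finite_of_finite F
  have : Finite U := Module.finite_of_finite F
  have : Finite (W →ₗ[F] U) := Finite.of_injective (fun f => (f : W → U)) DFunLike.coe_injective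
  rcases Nat.eq_zero_or_pos (finrank F W) with h0 | h0
  · have h1 : ∀ x : W, x = 0 := by
      have := finrank_zero_iff.1 h0
      exact fun x => Subsingleton.elim _ _
    refine ⟨0, fun S _ => ?_, fun S _ => ?_⟩ <;>
    · rw [eq_bot_iff]; intro x _; rw [Submodule.mem_bot]; exact h1 x
  · obtain ⟨k, hk⟩ := Nat.exists_eq_succ_of_ne_zero h0.ne'
    have h1 := card_good3 hq hk hd a ha
    have h2 := card_good3 hq hk hd b hb
    by_contra hcon
    have hdis : Disjoint (Good a) (Good b) := by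
      rw [Set.disjoint_left]
      intro D hDa hDb
      exact hcon ⟨D, hDa, hDb⟩
    have h3 : (Good a ∪ Good b).ncard = (Good a).ncard + (Good b).ncard :=
      Set.ncard_union_eq hdis (Set.toFinite _) (Set.toFinite _)
    have h4 : (Good a ∪ Good b).ncard ≤ Nat.card (W →ₗ[F] U) := by
      rw [← Set.ncard_univ]
      exact Set.ncard_le_ncard (Set.subset_univ _) (Set.toFinite _)
    have h5 := Nat.card_coe_set_eq (Good a)
    have h6 := Nat.card_coe_set_eq (Good b)
    omega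

end Cfsg.Agent.H150.MF
end

-- part: H150/MF/ThmH
section
/-!
# The main factorization theorem, `|F| ≥ 3` (helper150, after `H166/Cov/ThmH`)
-/

set_option autoImplicit false

namespace Cfsg.Agent.H150.MF

open Module Polynomial Cfsg.Agent.H166.Cov

universe u

variable {F : Type u} [Field F] {V W U : Type u} [AddCommGroup V] [Module F V]
  [AddCommGroup W] [Module F W] [AddCommGroup U] [Module F U]

/-- **The main factorization theorem.** -/
theorem thmH3 [Finite F] (hq : 3 ≤ Nat.card F) [FiniteDimensional F V] (hn : 2 ≤ finrank F V)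
    {g : End F V} (hg : NS g) (hg0 : LinearMap.det g ≠ 0) {ν : F} {p f : F[X]} (hp : p.Monic)
    (hpd : p.natDegree + 1 = finrank F V) (hp0 : p.coeff 0 ≠ 0) (hpν : p.eval ν ≠ 0) (hf : f.Monic)
    (hfd : f.natDegree = finrank F V)
    (hc : (-1) ^ finrank F V * f.coeff 0 =
      LinearMap.det g * ((-1) ^ finrank F V * ((X - C ν) * p).coeff 0)) :
    ∃ (M Y : End F V) (φ : V →ₗ[F] F), Coc M ∧ LinearMap.charpoly M = (X - C ν) * p ∧
      LinearMap.charpoly Y = f ∧ g * M = Y ∧ Obs φ Y ∧ ∀ x, φ (M x) = ν * φ x := by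
  obtain ⟨φ, hφ⟩ := hg.exists_dual
  let e : V ≃ₗ[F] V := LinearMap.equivOfDetNeZero g hg0
  have he : ∀ x, e x = g x := fun x => rfl
  -- the hyperplane
  let H : Submodule F V := LinearMap.ker φ
  have hφ0 : φ ≠ 0 := by
    rintro rfl
    exact hφ 0 (by ext; simp)
  obtain ⟨v, hv⟩ : ∃ v, φ v = 1 := by
    obtain ⟨w, hw⟩ : ∃ w, φ w ≠ 0 := by
      by_contra h
      push Not at h
      exact hφ0 (LinearMap.ext h)
    exact ⟨(φ w)⁻¹ • w, by rw [map_smul, smul_eq_mul, inv_mul_cancel₀ hw]⟩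
  have hHd : finrank F H + 1 = finrank F V := by
    have h1 := LinearMap.finrank_range_add_finrank_ker φ
    have h2 : LinearMap.range φ = ⊤ := LinearMap.range_eq_top.2 fun c => ⟨c • v, by simp [hv]⟩
    rw [h2, finrank_top, finrank_self] at h1
    change 1 + finrank F H = finrank F V at h1
    omega
  let χ : H →ₗ[F] F := (φ ∘ₗ g) ∘ₗ H.subtype
  have hχ : ∀ h : H, χ h = φ (g h) := fun h => rfl
  have hχ0 : χ ≠ 0 := by
    intro h
    apply hφ (φ (g v))
    ext x
    have h1 : χ ⟨x - φ x • v, by simp [H, hv]⟩ = 0 := by rw [h]; rfl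
    rw [hχ] at h1
    simp only [map_sub, map_smul, smul_eq_mul] at h1
    rw [LinearMap.comp_apply, LinearMap.smul_apply, smul_eq_mul, sub_eq_zero.1 h1, mul_comm]
  let K : Submodule F H := LinearMap.ker χ
  have hKd : finrank F H = finrank F K + 1 := by
    have h1 := LinearMap.finrank_range_add_finrank_ker χ
    have h2 : LinearMap.range χ = ⊤ := by
      rw [LinearMap.range_eq_top]
      exact LinearMap.surjective hχ0
    rw [h2, finrank_top, finrank_self] at h1
    change 1 + finrank F K = finrank F H at h1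
    omega
  let b : K →ₗ[F] H := K.subtype
  let a : K →ₗ[F] H := LinearMap.codRestrict H (g ∘ₗ H.subtype ∘ₗ K.subtype) fun k => k.2
  have ha : ∀ k : K, ((a k : H) : V) = g (k : H) := fun k => rfl
  have hainj : Function.Injective a := by
    intro x y h
    have h1 := congrArg (fun z : H => (z : V)) h
    simp only [ha, ← he] at h1
    exact Subtype.ext (Subtype.ext (e.injective h1))
  obtain ⟨D, hDa, hDb⟩ := exists_pencil3 hq hKd a b hainj Subtype.val_injective
  -- the map on the hyperplane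
  let φ' : H →ₗ[F] F := (φ ∘ₗ (e.symm : V →ₗ[F] V)) ∘ₗ H.subtype
  have hφ' : ∀ h : H, φ' h = φ (e.symm h) := fun h => rfl
  have hker : ∀ x, φ' x = 0 ↔ ∃ w, a w = x := by
    intro x
    constructor
    · intro h
      rw [hφ'] at h
      refine ⟨⟨⟨e.symm x, h⟩, ?_⟩, ?_⟩
      · change φ (g (e.symm x)) = 0
        rw [← he, e.apply_symm_apply]; exact x.2
      · apply Subtype.ext
        rw [ha]
        change g (e.symm x) = x
        rw [← he, e.apply_symm_apply]
    · rintro ⟨w, rfl⟩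
      rw [hφ', ha, ← he, e.symm_apply_apply]
      exact w.1.2
  obtain ⟨Z, hZa, hZO, hZc⟩ := exists_extend (p := p) hainj hker hDa hp (by omega)
  have hZinj : Function.Injective Z := by
    have h1 : LinearMap.det Z ≠ 0 := by
      rw [det_eq_charpoly, hZc]
      exact mul_ne_zero (pow_ne_zero _ (by simp)) hp0
    exact (LinearMap.equivOfDetNeZero Z h1).injective
  -- the projection onto the hyperplane
  let π : V →ₗ[F] H := LinearMap.codRestrict H (LinearMap.id - φ.smulRight v) fun x => by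
    simp [H, hv]
  have hπ : ∀ x, ((π x : H) : V) = x - φ x • v := fun x => rfl
  have hπH : ∀ x : H, π x = x := by
    intro x
    apply Subtype.ext
    rw [hπ, show φ (x : V) = 0 from x.2, zero_smul, sub_zero]
  let Y0 : End F V := g ∘ₗ H.subtype ∘ₗ Z ∘ₗ π
  have hY0 : ∀ x, Y0 x = g (Z (π x) : H) := fun x => rfl
  have hO : Obs φ Y0 := by
    intro S h1 h2
    have h3 := hDb (((S.comap H.subtype).map Z).comap b) (by
      intro w hw
      obtain ⟨h, hh, hw⟩ := hw
      -- `a w ∈ S`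
      have h4 : ((a w : H) : V) ∈ S := by
        rw [ha]
        have h5 := h2 h hh
        rw [hY0, hπH, hw] at h5
        exact h5
      have h5 : χ (D w) = 0 := by
        rw [hχ, ← hZa]
        have h6 := h1 _ (h2 _ h4)
        rw [hY0, hπH] at h6
        exact h6
      refine ⟨⟨D w, h5⟩, ?_, rfl⟩
      exact ⟨a w, h4, hZa w⟩)
    rw [Submodule.eq_bot_iff] at h3 ⊢
    intro x hx
    have hxH : x ∈ H := h1 x hx
    have h4 : χ (Z ⟨x, hxH⟩) = 0 := by
      rw [hχ]
      have h6 := h1 _ (h2 _ hx)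
      rw [hY0] at h6
      have h7 := hπH ⟨x, hxH⟩
      rw [show π x = ⟨x, hxH⟩ from h7] at h6
      exact h6
    have h5 := h3 ⟨Z ⟨x, hxH⟩, h4⟩ ⟨⟨x, hxH⟩, hx, rfl⟩
    have h6 : Z ⟨x, hxH⟩ = 0 := congrArg Subtype.val h5
    rw [← map_zero Z] at h6
    exact congrArg Subtype.val (hZinj h6)
  obtain ⟨c, hYc⟩ := exists_charpoly_add hO hf hfd
  set Y : End F V := Y0 + φ.smulRight c with hYdef
  let M : End F V := (e.symm : V →ₗ[F] V) ∘ₗ Y
  have hgM : g * M = Y := by
    ext x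
    change g (e.symm (Y x)) = Y x
    rw [← he, e.apply_symm_apply]
  have hM : ∀ x, M x = (Z (π x) : H) + φ x • e.symm c := by
    intro x
    change e.symm (Y x) = _
    rw [hYdef, LinearMap.add_apply, map_add, hY0, ← he, e.symm_apply_apply, LinearMap.smulRight_apply,
      map_smul]
  have hφM : ∀ x, φ (M x) = φ (e.symm c) * φ x := by
    intro x
    rw [hM, map_add, show φ ((Z (π x) : H) : V) = 0 from (Z (π x)).2, zero_add, map_smul, smul_eq_mul,
      mul_comm]
  have hOY : Obs φ Y := hO.congr fun x hx => by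
    rw [hYdef, LinearMap.add_apply, LinearMap.smulRight_apply, hx, zero_smul, add_zero]
  -- `M` in block form
  have hsim : ∃ R : F →ₗ[F] H, Sim (up Z R (φ (e.symm c) • (1 : End F F))) M := by
    let E : (H × F) ≃ₗ[F] V :=
      { toFun := fun x => (x.1 : V) + x.2 • v
        map_add' := fun x y => by simp only [Prod.fst_add, Prod.snd_add, Submodule.coe_add]; module
        map_smul' := fun r x => by
          simp only [Prod.smul_fst, Prod.smul_snd, Submodule.coe_smul, RingHom.id_apply, smul_eq_mul]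
          module
        invFun := fun x => (π x, φ x)
        left_inv := fun x => by
          have h1 : φ ((x.1 : V) + x.2 • v) = x.2 := by
            rw [map_add, map_smul, hv, show φ (x.1 : V) = 0 from x.1.2, zero_add, smul_eq_mul, mul_one]
          refine Prod.ext (Subtype.ext ?_) h1
          rw [hπ, h1, add_sub_cancel_right]
        right_inv := fun x => by
          change ((π x : H) : V) + φ x • v = x
          rw [hπ, sub_add_cancel] }
    have hE : ∀ x, E x = (x.1 : V) + x.2 • v := fun x => rfl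
    refine ⟨LinearMap.toSpanSingleton F H (π (e.symm c)), E, fun x => ?_⟩
    have h1 : φ ((x.1 : V) + x.2 • v) = x.2 := by
      rw [map_add, map_smul, hv, show φ (x.1 : V) = 0 from x.1.2, zero_add, smul_eq_mul, mul_one]
    have h2 : π ((x.1 : V) + x.2 • v) = x.1 := by
      apply Subtype.ext
      rw [hπ, h1, add_sub_cancel_right]
    rw [hE, hE, hM, h1, h2, up_apply]
    simp only [Submodule.coe_add, LinearMap.toSpanSingleton_apply, Submodule.coe_smul,
      LinearMap.smul_apply, Module.End.one_apply, hπ, smul_eq_mul]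
    module
  obtain ⟨R, hR⟩ := hsim
  have hMc : LinearMap.charpoly M = (X - C (φ (e.symm c))) * p := by
    rw [← hR.charpoly, charpoly_up, hZc, charpoly_smul_one, mul_comm]
  -- the eigenvalue
  have hνeq : φ (e.symm c) = ν := by
    have h1 : LinearMap.det Y = LinearMap.det g * LinearMap.det M := by rw [← hgM, map_mul]
    rw [det_eq_charpoly Y, det_eq_charpoly M, hYc, hMc, hc] at h1
    have h2 := mul_left_cancel₀ hg0 h1
    have h3 := mul_left_cancel₀ (pow_ne_zero _ (by simp : (-1 : F) ≠ 0)) h2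
    rw [mul_coeff_zero, mul_coeff_zero] at h3
    have h4 := mul_right_cancel₀ hp0 h3
    simpa using h4.symm
  rw [hνeq] at hMc hφM hR
  refine ⟨M, Y, φ, ?_, hMc, hYc, hgM, hOY, hφM⟩
  refine Coc.sim hR (Coc.up R ⟨φ', hZO⟩ (coc_smul_one ν) ?_)
  rw [hZc, charpoly_smul_one]
  have h5 : IsCoprime (X - C ν) p := by
    rw [(Polynomial.irreducible_X_sub_C ν).coprime_iff_not_dvd, Polynomial.dvd_iff_isRoot]
    exact hpν
  exact h5.symm

/-- Theorem H in terms of similarity classes -/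
theorem exists_fac3 [Finite F] (hq : 3 ≤ Nat.card F) [FiniteDimensional F V] (hn : 2 ≤ finrank F V)
    {g : End F V} (hg : NS g) {ν : F} {M₀ X₀ : End F V} (hM : Nice ν M₀) (hX : Coc X₀)
    (hM0 : LinearMap.det M₀ ≠ 0) (hX0 : LinearMap.det X₀ ≠ 0)
    (hdet : LinearMap.det g * LinearMap.det M₀ = LinearMap.det X₀) :
    ∃ (M Y : End F V) (φ : V →ₗ[F] F), Sim M₀ M ∧ Sim X₀ Y ∧ g * M = Y ∧ Obs φ Y ∧
      ∀ x, φ (M x) = ν * φ x := by
  obtain ⟨hMc, p, hp, hpν⟩ := hM
  have hpm : p.Monic := (monic_X_sub_C ν).of_mul_monic_left (hp ▸ M₀.charpoly_monic)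
  have hd : p.natDegree + 1 = finrank F V := by
    rw [← M₀.charpoly_natDegree, hp, (monic_X_sub_C ν).natDegree_mul hpm, natDegree_X_sub_C, add_comm]
  have hg0 : LinearMap.det g ≠ 0 := by
    rintro h
    rw [h, zero_mul] at hdet
    exact hX0 hdet.symm
  have hp0 : p.coeff 0 ≠ 0 := by
    intro h
    apply hM0
    rw [det_eq_charpoly, hp, mul_coeff_zero, h, mul_zero, mul_zero]
  obtain ⟨M, Y, φ, h1, h2, h3, h4, h5, h6⟩ := thmH3 hq hn hg hg0 hpm hd hp0 hpν X₀.charpoly_monic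
    X₀.charpoly_natDegree (by rw [← hp, ← det_eq_charpoly, ← det_eq_charpoly, hdet])
  exact ⟨M, Y, φ, Sim.of_coc hMc h1 (by rw [h2, hp]), Sim.of_coc hX ⟨φ, h5⟩ h3.symm, h4, h5, h6⟩

/-- every nonscalar `g` is a product of a given nice and a given cyclic class -/
theorem exists_fac3' [Finite F] (hq : 3 ≤ Nat.card F) [FiniteDimensional F V] (hn : 2 ≤ finrank F V)
    {g : End F V} (hg : NS g) {ν : F} {M₀ X₀ : End F V} (hM : Nice ν M₀) (hX : Coc X₀)
    (hg0 : LinearMap.det g ≠ 0) (hdet : LinearMap.det g = LinearMap.det M₀ * LinearMap.det X₀) :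
    ∃ (M X : End F V) (φ : V →ₗ[F] F), Sim M₀ M ∧ Sim X₀ X ∧ g = M * X ∧ Obs φ X ∧
      ∀ x, φ (M x) = ν * φ x := by
  have hM0 : LinearMap.det M₀ ≠ 0 := fun h => hg0 (by rw [hdet, h, zero_mul])
  have hX0 : LinearMap.det X₀ ≠ 0 := fun h => hg0 (by rw [hdet, h, mul_zero])
  obtain ⟨g', hg1, hg2⟩ := exists_inv hg0
  obtain ⟨X', hX1, hX2⟩ := exists_inv hX0
  obtain ⟨φ₀, hφ₀⟩ := hX
  have hd1 : LinearMap.det g * LinearMap.det g' = 1 := by rw [← map_mul, hg1, map_one]
  have hd2 : LinearMap.det X₀ * LinearMap.det X' = 1 := by rw [← map_mul, hX1, map_one]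
  obtain ⟨M, Y, φ, h1, h2, h3, h4, h5⟩ := exists_fac3 hq hn (hg.inv hg1) hM (X₀ := X')
    ⟨φ₀, hφ₀.inv hX1⟩ hM0 (fun h => by rw [h, mul_zero] at hd2; exact zero_ne_one hd2) (by
      rw [hdet] at hd1
      have h0 : LinearMap.det X₀ * (LinearMap.det g' * LinearMap.det M₀) =
        LinearMap.det X₀ * LinearMap.det X' := by rw [hd2, ← hd1]; ring
      exact mul_left_cancel₀ hX0 h0)
  have hY0 : LinearMap.det Y ≠ 0 := by
    rw [← h2.det]
    exact fun h => by rw [h, mul_zero] at hd2; exact zero_ne_one hd2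
  obtain ⟨X, hY1, hY2⟩ := exists_inv hY0
  refine ⟨M, X, φ, h1, ?_, ?_, h4.inv hY1, h5⟩
  · exact Sim.inv h2 hX2 hY2
  · have h6 : g * Y = M := by rw [← h3, ← mul_assoc, hg1, one_mul]
    rw [← h6, mul_assoc, hY1, mul_one]


end Cfsg.Agent.H150.MF
end

-- part: H150/MF/Big
section
/-!
# Factorisations in `SL_n(q)`, `q ≥ 3` (helper150)

* `Cls c` : `c` is cyclic and its centralizer has all determinants;
* `cls_of_nice` : charpoly `(X - ν) p`, `p` squarefree, `p ν ≠ 0`;
* `cls_of_irreducible`;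
* `mf_sl` : `|F| ≥ 3`, `c₀` with charpoly `(X - ν) p` as above, `Cls c₁`: every nonscalar `A ∈ SL_n(F)` is a product of
  a conjugate of `c₀` and a conjugate of `c₁` (under `SL_n(F)`);
* `mf_lu` : `L U` (lower times upper unitriangular) is a product of a conjugate of `c₀` and a conjugate of `c₀⁻¹`;
* `mf_poly` : the same for the element `c₀` with a given characteristic polynomial `(X - ν) p`.
-/

set_option autoImplicit false

namespace Cfsg.Agent.H150.MF

open Module Polynomial Cfsg.Agent.H166.Cov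

universe u

variable {F : Type u} [Field F]

theorem coc_of_squarefree {m : ℕ} {T : End F (Fin m → F)} (h : Squarefree (LinearMap.charpoly T)) : Coc T := by
  obtain ⟨L, hL, h1, h2, -⟩ := exists_dec T
  have h3 := charpoly_dec hL
  match L, hL, h1, h2, h3 with
  | [], hL, _, _, _ =>
    refine ⟨0, fun S _ _ => ?_⟩
    change m = 0 at hL
    subst hL
    rw [Submodule.eq_bot_iff]
    exact fun x _ => Subsingleton.elim _ _
  | [f], hL, _, _, _ => exact (dec_single hL).1
  | f :: g :: L, _, _, h2, h3 =>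
    exfalso
    have h4 : ¬ IsCoprime f g := (List.pairwise_cons.1 h2).1 g (by simp)
    apply h4
    rw [h3] at h
    have h5 : f * g ∣ (f :: g :: L).prod := by
      rw [List.prod_cons, List.prod_cons, ← mul_assoc]
      exact dvd_mul_right _ _
    exact (squarefree_mul_iff.1 (h.squarefree_of_dvd h5)).1.isCoprime

/-- `c` is cyclic and its centralizer has all determinants -/
def Cls {n : ℕ} (c : Matrix (Fin n) (Fin n) F) : Prop := Coc (Matrix.toLin' c) ∧ Full (Matrix.toLin' c)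

/-- cyclic, with a simple rational eigenvalue -/
def NiceM {n : ℕ} (c : Matrix (Fin n) (Fin n) F) : Prop := ∃ ν : F, Nice ν (Matrix.toLin' c)

theorem niceM_of {n : ℕ} {c : Matrix (Fin n) (Fin n) F} {ν : F} {p : F[X]} (h : c.charpoly = (X - C ν) * p)
    (hp : Squarefree p) (hν : p.eval ν ≠ 0) : NiceM c := by
  refine ⟨ν, coc_of_squarefree ?_, p, by rw [Matrix.charpoly_toLin', h], hν⟩
  rw [Matrix.charpoly_toLin', h, squarefree_mul_iff]
  refine ⟨?_, (irreducible_X_sub_C ν).squarefree, hp⟩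
  refine (irreducible_X_sub_C ν).isRelPrime_iff_not_dvd.2 ?_
  rw [dvd_iff_isRoot]
  exact hν

theorem NiceM.cls {n : ℕ} {c : Matrix (Fin n) (Fin n) F} (h : NiceM c) : Cls c := by
  obtain ⟨ν, h⟩ := h
  exact ⟨h.coc, Full.of_nice h⟩

theorem cls_of_irreducible [Finite F] {n : ℕ} {c : Matrix (Fin n) (Fin n) F} (h : Irreducible c.charpoly) : Cls c := by
  refine ⟨coc_of_squarefree ?_, Full.of_irreducible ?_⟩
  · rw [Matrix.charpoly_toLin']
    exact h.squarefree
  · rw [Matrix.charpoly_toLin']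
    exact h

theorem ns_toLin {n : ℕ} {A : Matrix (Fin n) (Fin n) F} (h : ∀ a : F, A ≠ a • (1 : Matrix (Fin n) (Fin n) F)) :
    NS (Matrix.toLin' A) := by
  intro a ha
  apply h a
  apply Matrix.toLin'.injective
  rw [ha, map_smul, Matrix.toLin'_one]
  rfl

theorem sl_of_sims {n : ℕ} (c : Matrix.SpecialLinearGroup (Fin n) F) {T : End F (Fin n → F)}
    (h : SimS (Matrix.toLin' (c : Matrix (Fin n) (Fin n) F)) T) :
    ∃ g : Matrix.SpecialLinearGroup (Fin n) F,
      LinearMap.toMatrix' T = ((g * c * g⁻¹ : Matrix.SpecialLinearGroup (Fin n) F) : Matrix (Fin n) (Fin n) F) := by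
  obtain ⟨e, he, h⟩ := h
  have h1 : (LinearMap.toMatrix' (e : (Fin n → F) →ₗ[F] (Fin n → F))).det = 1 := by
    rw [LinearMap.det_toMatrix', he]
  have h2 : LinearMap.toMatrix' (e : (Fin n → F) →ₗ[F] (Fin n → F)) * (c : Matrix (Fin n) (Fin n) F) =
      LinearMap.toMatrix' T * LinearMap.toMatrix' (e : (Fin n → F) →ₗ[F] (Fin n → F)) := by
    apply Matrix.toLin'.injective
    rw [Matrix.toLin'_mul, Matrix.toLin'_mul, Matrix.toLin'_toMatrix', Matrix.toLin'_toMatrix']
    exact LinearMap.ext fun x => h x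
  obtain ⟨g, hg⟩ : ∃ g : Matrix.SpecialLinearGroup (Fin n) F,
      (g : Matrix (Fin n) (Fin n) F) = LinearMap.toMatrix' (e : (Fin n → F) →ₗ[F] (Fin n → F)) := ⟨⟨_, h1⟩, rfl⟩
  rw [← hg] at h2
  refine ⟨g, ?_⟩
  rw [Matrix.SpecialLinearGroup.coe_mul, Matrix.SpecialLinearGroup.coe_mul, h2, mul_assoc,
    ← Matrix.SpecialLinearGroup.coe_mul, mul_inv_cancel, Matrix.SpecialLinearGroup.coe_one, mul_one]

/-- conjugacy in `SL_n(F)` -/
theorem exists_conj {n : ℕ} {c d : Matrix.SpecialLinearGroup (Fin n) F}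
    (hc : Cls (c : Matrix (Fin n) (Fin n) F)) (hd : Cls (d : Matrix (Fin n) (Fin n) F))
    (h : (c : Matrix (Fin n) (Fin n) F).charpoly = (d : Matrix (Fin n) (Fin n) F).charpoly) :
    ∃ g : Matrix.SpecialLinearGroup (Fin n) F, d = g * c * g⁻¹ := by
  have h1 : Sim (Matrix.toLin' (c : Matrix (Fin n) (Fin n) F)) (Matrix.toLin' (d : Matrix (Fin n) (Fin n) F)) :=
    Sim.of_coc hc.1 hd.1 (by rw [Matrix.charpoly_toLin', Matrix.charpoly_toLin', h])
  obtain ⟨g, hg⟩ := sl_of_sims c (hc.2.sims h1)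
  refine ⟨g, Subtype.ext ?_⟩
  rw [← hg, LinearMap.toMatrix'_toLin']

/-- **The factorisation.** -/
theorem mf_sl [Finite F] (hq : 3 ≤ Nat.card F) {n : ℕ} (hn : 2 ≤ n) {c₀ c₁ : Matrix.SpecialLinearGroup (Fin n) F}
    (h0 : NiceM (c₀ : Matrix (Fin n) (Fin n) F)) (h1 : Cls (c₁ : Matrix (Fin n) (Fin n) F))
    (A : Matrix.SpecialLinearGroup (Fin n) F)
    (hA : ∀ a : F, (A : Matrix (Fin n) (Fin n) F) ≠ a • (1 : Matrix (Fin n) (Fin n) F)) :
    ∃ g h : Matrix.SpecialLinearGroup (Fin n) F, A = (g * c₀ * g⁻¹) * (h * c₁ * h⁻¹) := by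
  obtain ⟨ν, h0⟩ := h0
  have hf : finrank F (Fin n → F) = n := finrank_fin_fun F
  obtain ⟨M, X, φ, h2, h3, h4, -, -⟩ := exists_fac3' (V := Fin n → F) hq (by rw [hf]; exact hn) (ns_toLin hA) h0 h1.1
    (by rw [LinearMap.det_toLin', A.2]; exact one_ne_zero)
    (by rw [LinearMap.det_toLin', LinearMap.det_toLin', LinearMap.det_toLin', A.2, c₀.2, c₁.2, one_mul])
  obtain ⟨g, hg⟩ := sl_of_sims c₀ ((Full.of_nice h0).sims h2)
  obtain ⟨h, hh⟩ := sl_of_sims c₁ (h1.2.sims h3)
  refine ⟨g, h, Subtype.ext ?_⟩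
  rw [Matrix.SpecialLinearGroup.coe_mul, ← hg, ← hh, ← LinearMap.toMatrix'_mul, ← h4, LinearMap.toMatrix'_toLin']

theorem Nice.of_inv {V : Type u} [AddCommGroup V] [Module F V] [FiniteDimensional F V] {S T : End F V} {ν : F}
    (hS : Nice ν S) (h1 : S * T = 1) (h2 : T * S = 1) : Cfsg.Agent.H166.Cov.Coc T ∧ Full T := by
  obtain ⟨φ, hφ⟩ := hS.1
  refine ⟨⟨φ, hφ.inv h1⟩, fun c hc => ?_⟩
  obtain ⟨e, he, h3⟩ := Full.of_nice hS c hc
  refine ⟨e, he, fun x => ?_⟩
  have h4 : ∀ y, T (S y) = y := fun y => LinearMap.congr_fun h2 y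
  have h5 : ∀ y, S (T y) = y := fun y => LinearMap.congr_fun h1 y
  have h6 := h3 (T x)
  rw [h5] at h6
  rw [h6, h4]

theorem NiceM.cls_inv {n : ℕ} {c : Matrix.SpecialLinearGroup (Fin n) F} (h : NiceM (c : Matrix (Fin n) (Fin n) F)) :
    Cls ((c⁻¹ : Matrix.SpecialLinearGroup (Fin n) F) : Matrix (Fin n) (Fin n) F) := by
  obtain ⟨ν, h⟩ := h
  refine Nice.of_inv h ?_ ?_
  · rw [Module.End.mul_eq_comp, ← Matrix.toLin'_mul, ← Matrix.SpecialLinearGroup.coe_mul, mul_inv_cancel,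
      Matrix.SpecialLinearGroup.coe_one, Matrix.toLin'_one]
    rfl
  · rw [Module.End.mul_eq_comp, ← Matrix.toLin'_mul, ← Matrix.SpecialLinearGroup.coe_mul, inv_mul_cancel,
      Matrix.SpecialLinearGroup.coe_one, Matrix.toLin'_one]
    rfl

/-- **lower times upper unitriangular** -/
theorem mf_lu [Finite F] (hq : 3 ≤ Nat.card F) {n : ℕ} (hn : 2 ≤ n) {c₀ : Matrix.SpecialLinearGroup (Fin n) F}
    (h0 : NiceM (c₀ : Matrix (Fin n) (Fin n) F)) {L U : Matrix.SpecialLinearGroup (Fin n) F}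
    (hL : L ∈ Cfsg.Agent.H162.GaussSL.LT n F) (hU : U ∈ Cfsg.Agent.H162.GaussSL.UT n F) :
    ∃ g h : Matrix.SpecialLinearGroup (Fin n) F, L * U = (g * c₀ * g⁻¹) * (h * c₀⁻¹ * h⁻¹) := by
  by_cases hc : ∃ c : F, (L * U).1 = c • (1 : Matrix (Fin n) (Fin n) F)
  · obtain ⟨c, hc⟩ := hc
    obtain ⟨rfl, rfl⟩ := Cfsg.Agent.H162.GaussSL.scalar_case (by omega) hL hU hc
    exact ⟨1, 1, by group⟩
  · push Not at hc
    exact mf_sl hq hn h0 h0.cls_inv _ hc

/-- an element of `SL_n(F)` with a given characteristic polynomial `(X - ν) p` -/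
theorem exists_niceM {n : ℕ} {ν : F} {p : F[X]} (hp : p.Monic) (hpd : p.natDegree + 1 = n)
    (h0 : ((X - C ν) * p).coeff 0 = (-1) ^ n) (hν : p.eval ν ≠ 0) :
    ∃ c₀ : Matrix.SpecialLinearGroup (Fin n) F, (c₀ : Matrix (Fin n) (Fin n) F).charpoly = (X - C ν) * p ∧
      NiceM (c₀ : Matrix (Fin n) (Fin n) F) := by
  have hm : ((X - C ν) * p).Monic := (monic_X_sub_C ν).mul hp
  have hd : ((X - C ν) * p).natDegree = n := by
    rw [(monic_X_sub_C ν).natDegree_mul hp, natDegree_X_sub_C, add_comm, hpd]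
  obtain ⟨T, hT, hTc⟩ := exists_coc (V := Fin n → F) hm (by rw [hd, finrank_fin_fun])
  have hdet : (LinearMap.toMatrix' T).det = 1 := by
    rw [LinearMap.det_toMatrix', det_eq_charpoly, hTc, h0, finrank_fin_fun, ← pow_add, ← two_mul, pow_mul]
    simp
  refine ⟨⟨_, hdet⟩, ?_, ν, ?_⟩
  · change (LinearMap.toMatrix' T).charpoly = _
    rw [← Matrix.charpoly_toLin', Matrix.toLin'_toMatrix', hTc]
  · change Nice ν (Matrix.toLin' (LinearMap.toMatrix' T))
    rw [Matrix.toLin'_toMatrix']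
    exact ⟨hT, p, hTc, hν⟩

/-- **the factorisation with a given characteristic polynomial** -/
theorem mf_poly [Finite F] (hq : 3 ≤ Nat.card F) {n : ℕ} (hn : 2 ≤ n) {ν : F} {p : F[X]} (hp : p.Monic)
    (hpd : p.natDegree + 1 = n) (h0 : ((X - C ν) * p).coeff 0 = (-1) ^ n) (hν : p.eval ν ≠ 0) :
    ∃ c₀ : Matrix.SpecialLinearGroup (Fin n) F, (c₀ : Matrix (Fin n) (Fin n) F).charpoly = (X - C ν) * p ∧
      NiceM (c₀ : Matrix (Fin n) (Fin n) F) ∧
      ∀ L ∈ Cfsg.Agent.H162.GaussSL.LT n F, ∀ U ∈ Cfsg.Agent.H162.GaussSL.UT n F,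
        ∃ g h : Matrix.SpecialLinearGroup (Fin n) F, L * U = (g * c₀ * g⁻¹) * (h * c₀⁻¹ * h⁻¹) := by
  obtain ⟨c₀, h1, h2⟩ := exists_niceM hp hpd h0 hν
  exact ⟨c₀, h1, h2, fun L hL U hU => mf_lu hq hn h2 hL hU⟩

end Cfsg.Agent.H150.MF
end
end

-- part: H224/Ore/Row
section
set_option linter.all false
open scoped Cfsg.Agent.FastGrp

/-!
The rows with one block of type `A` (S2443, S4171).

`φ : SL_n(K) →* D.group K` with image in the Levi subgroup `L_J` and `U_J ≤ φ(UT)`, `U_J⁻ ≤ φ(LT)`; `c₀ ∈ SL_n(K)` cyclic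
with a simple rational eigenvalue; `φ c₀` has no fixed points on `V_J`, `V_J⁻`.

* `row_comm` : every element of `D.group K` is a commutator;
* `row_four` : if `φ c₀` is inverted by an element of square one, then every element of `D.group K` is a product of four
  elements of square one.
-/

set_option autoImplicit false
set_option linter.unusedSectionVars false

namespace Cfsg.Agent.H224.Ore.Row

open CoxeterSystem Cfsg.Agent.ChevalleyStructure.CoxeterGeom Cfsg.Agent.Tits.Roots Cfsg.Agent.Tits.Core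
  Cfsg.Agent.Nodes.Reps Cfsg.Agent.Nodes.BNOf Cfsg.Agent.Nodes.StabComb Cfsg.Agent.Nodes.RGDLib
  Cfsg.Agent.Nodes.Bruhat Cfsg.Agent.Nodes.OppDec Cfsg.Agent.Nodes.LeviDec Cfsg.Agent.Nodes.KindChev
  Cfsg.Agent.Nodes.ChevCls Cfsg.Agent.OddHalf.NI.Mult Cfsg.Agent.OddHalf.NI.ModelChev
  Cfsg.Agent.H162.GaussDec Cfsg.Agent.H162.GaussLevi Cfsg.Agent.H162.GaussSL Cfsg.Agent.H162.GaussMain
  Cfsg.Agent.H162.GaussExc
open Cfsg.Lie Cfsg.Agent.ChevalleyStructure Cfsg.Agent.ChevalleyStructure.Elts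
  Cfsg.Agent.ChevalleyStructure.RootVec Cfsg.Agent.ChevalleyStructure.NPerm
  Cfsg.Agent.ChevalleyStructure.CoxeterGeomTypes Cfsg.Agent.Nodes.RGDChev Cfsg.Agent.KFacts.RgdChevCoord
open Cfsg.Agent.H928.Ore.Frame Cfsg.Agent.H150.MF Cfsg.Agent.H777.Ore

universe u

section NF

variable {Y : Type*} [Group Y] {V : Subgroup Y}

theorem NF.inv {c : Y} (h : NF V c) : NF V c⁻¹ := by
  intro x hx e
  refine h x hx ?_
  calc c * x * c⁻¹ = c * (c⁻¹ * x * c⁻¹⁻¹) * c⁻¹ := by rw [e]
    _ = x := by group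

theorem NF.conj {c y : Y} (hy : y ∈ Subgroup.normalizer (V : Set Y)) (h : NF V c) : NF V (y * c * y⁻¹) := by
  intro x hx e
  have h1 : y⁻¹ * x * y ∈ V := by
    have := (Subgroup.mem_normalizer_iff.1 (inv_mem hy) x).1 hx
    rwa [inv_inv] at this
  have h2 := h _ h1 (by
    calc c * (y⁻¹ * x * y) * c⁻¹ = y⁻¹ * (y * c * y⁻¹ * x * (y * c * y⁻¹)⁻¹) * y := by group
      _ = y⁻¹ * x * y := by rw [e])
  calc x = y * (y⁻¹ * x * y) * y⁻¹ := by group
    _ = 1 := by rw [h2]; group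

end NF

/-- the product of two elements of square one -/
theorem two_of_inv {Y : Type*} [Group Y] {t c : Y} (ht : t * t = 1) (h : t * c * t⁻¹ = c⁻¹) :
    ∃ a b : Y, a ^ 2 = 1 ∧ b ^ 2 = 1 ∧ c = a * b := by
  have ht' : t⁻¹ = t := inv_eq_of_mul_eq_one_left ht
  refine ⟨t, t * c, by rw [pow_two, ht], ?_, by rw [← mul_assoc, ht, one_mul]⟩
  rw [ht'] at h
  rw [pow_two]
  calc t * c * (t * c) = (t * c * t) * c := by group
    _ = 1 := by rw [h, inv_mul_cancel]

theorem two_conj {Y : Type*} [Group Y] {c : Y} (y : Y) (h : ∃ a b : Y, a ^ 2 = 1 ∧ b ^ 2 = 1 ∧ c = a * b) :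
    ∃ a b : Y, a ^ 2 = 1 ∧ b ^ 2 = 1 ∧ y * c * y⁻¹ = a * b := by
  obtain ⟨a, b, ha, hb, rfl⟩ := h
  refine ⟨y * a * y⁻¹, y * b * y⁻¹, by rw [conj_pow, ha, mul_one, mul_inv_cancel],
    by rw [conj_pow, hb, mul_one, mul_inv_cancel], by group⟩

theorem two_inv {Y : Type*} [Group Y] {c : Y} (h : ∃ a b : Y, a ^ 2 = 1 ∧ b ^ 2 = 1 ∧ c = a * b) :
    ∃ a b : Y, a ^ 2 = 1 ∧ b ^ 2 = 1 ∧ c⁻¹ = a * b := by
  obtain ⟨a, b, ha, hb, rfl⟩ := h
  exact ⟨b⁻¹, a⁻¹, by rw [inv_pow, hb, inv_one], by rw [inv_pow, ha, inv_one], by rw [mul_inv_rev]⟩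

section

variable {D : ChevalleyDatum} {l : ℕ} {M : CoxeterMatrix (Fin l)} (hp : IsType D l M) {K : Type u} [Field K]

/-- the data of the block -/
structure BlkA (J : Set (Fin l)) {n : ℕ} (φ : Matrix.SpecialLinearGroup (Fin n) K →* ↥(D.group K))
    (c₀ : Matrix.SpecialLinearGroup (Fin n) K) : Prop where
  range : ∀ A, φ A ∈ LJ M.toCoxeterSystem hp.isCartan (TT D K) (XX D l K) J
  up : UJ M.toCoxeterSystem hp.isCartan (XX D l K) J ≤ (UT n K).map φ
  lo : UNJ M.toCoxeterSystem hp.isCartan (XX D l K) J ≤ (LT n K).map φ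
  nice : NiceM (c₀ : Matrix (Fin n) (Fin n) K)
  fixN : NF (VNJ M.toCoxeterSystem hp.isCartan (XX D l K) J) (φ c₀)
  fix : NF (VJ M.toCoxeterSystem hp.isCartan (XX D l K) J) (φ c₀)

variable {hp}

theorem BlkA.hb [Finite K] (hq : 3 ≤ Nat.card K) {J : Set (Fin l)} {n : ℕ} (hn : 2 ≤ n)
    {φ : Matrix.SpecialLinearGroup (Fin n) K →* ↥(D.group K)} {c₀ : Matrix.SpecialLinearGroup (Fin n) K}
    (H : BlkA hp J φ c₀) (p : ℕ) [Fact p.Prime] [CharP K p] :
    ∀ v ∈ UNJ M.toCoxeterSystem hp.isCartan (XX D l K) J, ∀ u ∈ UJ M.toCoxeterSystem hp.isCartan (XX D l K) J,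
      ∃ g h : Matrix.SpecialLinearGroup (Fin n) K, v * u = φ (g * c₀ * g⁻¹) * φ (h * c₀⁻¹ * h⁻¹) ∧
        LP M.toCoxeterSystem hp.isCartan (TT D K) (XX D l K) J (φ (g * c₀ * g⁻¹)) (φ (h * c₀⁻¹ * h⁻¹)) := by
  have R := rgd (K := K) hp M.toCoxeterSystem p
  have := finite_W hp M.toCoxeterSystem
  intro v hv u hu
  obtain ⟨L, hL, rfl⟩ := H.lo hv
  obtain ⟨U, hU, rfl⟩ := H.up hu
  obtain ⟨g, h, e⟩ := mf_lu hq hn H.nice hL hU
  refine ⟨g, h, by rw [← map_mul, e, map_mul], H.range _, H.range _, ?_, ?_⟩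
  · rw [map_mul, map_mul, map_inv]
    exact NF.conj (LJ_le_normalizer_VNJ R J (H.range g)) H.fixN
  · rw [map_mul, map_mul, map_inv, map_inv]
    exact NF.conj (LJ_le_normalizer_VJ R J (H.range h)) (NF.inv H.fix)

/-- the core of `B` is trivial -/
theorem not_mem_core [Finite K] (hl : 0 < l) (hS : IsSimpleGroup ↥(D.group K)) (p : ℕ) [Fact p.Prime] [CharP K p]
    (hp : IsType D l M) {g : ↥(D.group K)} (hg : g ≠ 1) :
    g ∉ (RGD.B M.toCoxeterSystem hp.isCartan (TT D K) (XX D l K)).normalCore := by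
  intro h
  have := finite_W hp M.toCoxeterSystem
  have : Nonempty (Fin l) := ⟨⟨0, hl⟩⟩
  have h1 := core_le_ker (rgd (K := K) hp M.toCoxeterSystem p) (MonoidHom.id _) Function.surjective_id (fun x hx => by
    rw [MonoidHom.mem_ker] at hx
    change x = 1 at hx
    rw [hx]
    exact one_mem _) h
  exact hg h1

end

end Cfsg.Agent.H224.Ore.Row
end

-- part: H335/Sr/Chev
section
prune_inst 0x15034440140020000180586d3203c06cc000422002b80008800090001408f6209822f6104a0100a821a2c110001004000000060407000000e00000000050501100a000001400104a40098800084000000000000000000000000000000000004200000000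
set_option linter.all false
open scoped Cfsg.Agent.FastGrp

-- part: H335/Sr/NZero
section
/-!
# Lifts of Weyl group elements with signs (helper335, Ore / four involutions)

* `exists_lift` : every `w` has a representative `z` with `z x_r(a) z⁻¹ = x_{w r}(± a)`, the signs of `r` and `-r` agree;
* `exists_neg` : if `w` acts as `-1` then `z² = 1`.
-/

set_option autoImplicit false
set_option linter.unusedSectionVars false

namespace Cfsg.Agent.H335.Sr

open CoxeterSystem Cfsg Cfsg.Lie Cfsg.Lie.ChevalleyDatum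
open Cfsg.Agent.ChevalleyStructure Cfsg.Agent.ChevalleyStructure.Elts Cfsg.Agent.ChevalleyStructure.CoxeterGeom
  Cfsg.Agent.ChevalleyStructure.CoxeterGeomTypes Cfsg.Agent.ChevalleyStructure.NPerm
open Cfsg.Agent.Tits.Roots Cfsg.Agent.Tits.Core Cfsg.Agent.Nodes Cfsg.Agent.Nodes.Reps Cfsg.Agent.Nodes.BNOf
  Cfsg.Agent.Nodes.RGDChev Cfsg.Agent.Nodes.Bruhat
open Cfsg.Agent.KFacts.RgdField Cfsg.Agent.KFacts.RgdChevCoord Cfsg.Agent.BpExc.TorCent Cfsg.Agent.BpExc.TorChev
open Cfsg.Agent.H129.TorusChar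

universe u

variable {D : ChevalleyDatum} {l : ℕ} {M : CoxeterMatrix (Fin l)} (hp : IsType D l M) {K : Type u} [Field K]

/-- the signs of the simple reflections -/
theorem nc_conj (i : Fin l) {r : ℕ} (hr : r < D.nroots) (a : K) :
    nc hp K i * xc hp (vec D l r) a * (nc hp K i)⁻¹ =
      xc hp (vec D l (D.reflectRoot i r)) (((NSimple.eta D i r : ℤ) : K) * a) := by
  apply Subtype.ext
  rw [Subgroup.coe_mul, Subgroup.coe_mul, Subgroup.coe_inv, coe_xc hp hr,
    coe_xc hp (reflectRoot_lt hp.inList (lt_rank hp i) hr)]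
  show nG hp.inList (D.simple i) 1 * _ * (nG hp.inList (D.simple i) 1)⁻¹ = _
  rw [mul_inv_eq_iff_eq_mul]
  apply Units.ext
  rw [Units.val_mul, Units.val_mul, coe_nG, coe_xG, coe_xG]
  exact ConjSimpleAll.nMat_mul_x hp.inList (lt_rank hp i) hr a

include hp in
theorem eta_or (i : Fin l) {r : ℕ} (hr : r < D.nroots) : NSimple.eta D i r = 1 ∨ NSimple.eta D i r = -1 :=
  (NSimpleAll.facts hp.inList (lt_rank hp i)).eta_one r hr

include hp in
theorem eta_neg (i : Fin l) {r : ℕ} (hr : r < D.nroots) : NSimple.eta D i (D.neg r) = NSimple.eta D i r := by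
  have h := (NSimpleAll.facts hp.inList (lt_rank hp i)).eta_mul_neg r hr
  rcases eta_or hp i hr with h1 | h1 <;> rw [h1] at h ⊢ <;> linarith

variable {W : Type*} [Group W] (cs : CoxeterSystem M W)

/-- **Representatives with signs.** -/
theorem exists_lift (hN : NSys M (TT D K) (nc hp K)) (w : W) : ∃ z : ↥(D.group K), Rp cs hN w z ∧
    ∀ a, IsRoot cs hp.isCartan a → ∃ e : ℤ, (e = 1 ∨ e = -1) ∧
      (∀ t : K, z * xc hp a t * z⁻¹ = xc hp (rep cs hp.isCartan w a) ((e : K) * t)) ∧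
      (∀ t : K, z * xc hp (-a) t * z⁻¹ = xc hp (-rep cs hp.isCartan w a) ((e : K) * t)) := by
  induction w using cs.simple_induction_left with
  | one =>
    refine ⟨1, rp_one, fun a _ => ⟨1, .inl rfl, fun t => ?_, fun t => ?_⟩⟩
    · rw [map_one]
      simp
    · rw [map_one]
      simp
  | mul_simple_left w i ih =>
    obtain ⟨z, hz, h⟩ := ih
    refine ⟨nc hp K i * z, (rp_simple cs hN i).mul hz, fun a ha => ?_⟩
    obtain ⟨e, he, h1, h2⟩ := h a ha
    obtain ⟨r, hr, hra⟩ := (isRoot_iff hp cs _).1 (ha.act w)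
    have hnr : D.neg r < D.nroots := neg_lt hp.inList hr
    refine ⟨NSimple.eta D i r * e, ?_, fun t => ?_, fun t => ?_⟩
    · rcases eta_or hp i hr with h3 | h3 <;> rcases he with h4 | h4 <;> rw [h3, h4] <;> simp
    · have e1 : nc hp K i * z * xc hp a t * (nc hp K i * z)⁻¹ = nc hp K i * (z * xc hp a t * z⁻¹) * (nc hp K i)⁻¹ := by
        group
      rw [e1, h1, ← hra, nc_conj hp i hr, map_mul, Module.End.mul_apply, ← hra, rep_vec hp cs i hr]
      push_cast
      rw [mul_assoc]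
    · have e1 : nc hp K i * z * xc hp (-a) t * (nc hp K i * z)⁻¹ =
          nc hp K i * (z * xc hp (-a) t * z⁻¹) * (nc hp K i)⁻¹ := by
        group
      rw [e1, h2, ← hra, ← vec_neg hp hr, nc_conj hp i hnr, map_mul, Module.End.mul_apply, ← hra,
        ← rep_vec hp cs i hnr, vec_neg hp hr, map_neg, eta_neg hp i hr]
      push_cast
      rw [mul_assoc]

end Cfsg.Agent.H335.Sr
end

-- part: H335/Sr/Transp
section
/-!
# Elements inducing inverse transposition on an image of `SL_n(K)` (helper335)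

* `tau d` : `A ↦ D A⁻ᵀ D`, `D = diag(d)`, `d² = 1`;
* `exists_tau` : an involution `z` of `Y` mapping `φ(t_ab(c))` to `φ(t_ba(± c))` acts on `φ(SL_n(K))` as some `tau d`;
* `exists_S` : if `H = Hᵀ`, `Xᵀ H = H X`, `det H = det D` then `S = D H` satisfies `tau S = S⁻¹`, `tau (S X S⁻¹) = X⁻¹`;
* `invol` : then `z φ(S)` is an involution inverting `φ(X)`.
-/

set_option autoImplicit false
set_option linter.unusedSectionVars false

namespace Cfsg.Agent.H335.Sr

open Matrix
open scoped commutatorElement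

variable {ι : Type*} [DecidableEq ι] [Fintype ι] {K : Type*} [Field K]

theorem diag_sq {d : ι → K} (hd : ∀ a, d a * d a = 1) : (diagonal d : Matrix ι ι K) * diagonal d = 1 := by
  rw [diagonal_mul_diagonal]
  simp only [hd]
  exact diagonal_one

/-- `A ↦ D A⁻ᵀ D` -/
noncomputable def tau (d : ι → K) (hd : ∀ a, d a * d a = 1) :
    SpecialLinearGroup ι K →* SpecialLinearGroup ι K where
  toFun A := ⟨diagonal d * (A⁻¹ : SpecialLinearGroup ι K).1ᵀ * diagonal d, by
    have h1 : ((A⁻¹ : SpecialLinearGroup ι K).1).det = 1 := (A⁻¹ : SpecialLinearGroup ι K).2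
    rw [det_mul, det_mul, det_transpose, h1, mul_one, ← det_mul, diag_sq hd, det_one]⟩
  map_one' := by
    apply Subtype.ext
    show diagonal d * ((1 : SpecialLinearGroup ι K)⁻¹).1ᵀ * diagonal d = 1
    rw [inv_one]
    show diagonal d * (1 : Matrix ι ι K)ᵀ * diagonal d = 1
    rw [transpose_one, mul_one, diag_sq hd]
  map_mul' A B := by
    apply Subtype.ext
    show diagonal d * ((A * B)⁻¹ : SpecialLinearGroup ι K).1ᵀ * diagonal d =
      diagonal d * (A⁻¹ : SpecialLinearGroup ι K).1ᵀ * diagonal d *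
        (diagonal d * (B⁻¹ : SpecialLinearGroup ι K).1ᵀ * diagonal d)
    rw [_root_.mul_inv_rev]
    show diagonal d * ((B⁻¹ : SpecialLinearGroup ι K).1 * (A⁻¹ : SpecialLinearGroup ι K).1)ᵀ * diagonal d = _
    rw [transpose_mul]
    calc diagonal d * ((A⁻¹ : SpecialLinearGroup ι K).1ᵀ * (B⁻¹ : SpecialLinearGroup ι K).1ᵀ) * diagonal d
        = diagonal d * (A⁻¹ : SpecialLinearGroup ι K).1ᵀ * 1 * (B⁻¹ : SpecialLinearGroup ι K).1ᵀ * diagonal d := by
          rw [mul_one]; simp only [Matrix.mul_assoc]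
      _ = _ := by
          rw [← diag_sq hd]; simp only [Matrix.mul_assoc]

theorem coe_tau (d : ι → K) (hd : ∀ a, d a * d a = 1) (A : SpecialLinearGroup ι K) :
    (tau d hd A).1 = diagonal d * (A⁻¹ : SpecialLinearGroup ι K).1ᵀ * diagonal d := rfl

theorem tau_transvection (d : ι → K) (hd : ∀ a, d a * d a = 1) {a b : ι} (hab : a ≠ b) (c : K) :
    tau d hd (SpecialLinearGroup.transvection hab c) =
      SpecialLinearGroup.transvection hab.symm (-(d b * d a) * c) := by
  apply Subtype.ext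
  rw [coe_tau, SpecialLinearGroup.transvection_inv, SpecialLinearGroup.transvection_coe,
    SpecialLinearGroup.transvection_coe, transpose_add, transpose_one, transpose_single, Matrix.mul_add, Matrix.add_mul,
    mul_one, diag_sq hd]
  congr 1
  ext i j
  rw [mul_diagonal, diagonal_mul, single_apply, single_apply]
  by_cases h : b = i ∧ a = j
  · obtain ⟨rfl, rfl⟩ := h
    simp only [and_self, if_true]
    ring
  · rw [if_neg h, if_neg h]
    ring

section Exists

variable {Y : Type*} [Group Y] [Nontrivial ι]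

/-- **the signs come from a diagonal matrix** -/
theorem exists_tau {φ : SpecialLinearGroup ι K →* Y} {z : Y} (hz2 : z * z = 1) {η : ι → ι → K}
    (hη : ∀ a b, η a b * η a b = 1)
    (hz : ∀ a b (hab : a ≠ b) (c : K), z * φ (SpecialLinearGroup.transvection hab c) * z⁻¹ =
      φ (SpecialLinearGroup.transvection hab.symm (η a b * c)))
    (hinj : ∀ a b (hab : a ≠ b) (c c' : K), φ (SpecialLinearGroup.transvection hab c) =
      φ (SpecialLinearGroup.transvection hab c') → c = c') :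
    ∃ (d : ι → K) (hd : ∀ a, d a * d a = 1), ∀ A, z * φ A * z⁻¹ = φ (tau d hd A) := by
  have hsym : ∀ a b, a ≠ b → η b a = η a b := by
    intro a b hab
    have h1 : z * (z * φ (SpecialLinearGroup.transvection hab 1) * z⁻¹) * z⁻¹ =
        φ (SpecialLinearGroup.transvection hab 1) := by
      have : z * (z * φ (SpecialLinearGroup.transvection hab 1) * z⁻¹) * z⁻¹ =
        (z * z) * φ (SpecialLinearGroup.transvection hab 1) * (z * z)⁻¹ := by group
      rw [this, hz2, one_mul, inv_one, mul_one]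
    rw [hz a b hab, hz b a hab.symm] at h1
    have h2 := hinj a b hab _ _ h1
    rw [mul_one] at h2
    calc η b a = η b a * (η a b * η a b) := by rw [hη, mul_one]
      _ = (η b a * η a b) * η a b := by ring
      _ = η a b := by rw [h2, one_mul]
  have hmul : ∀ a b c, a ≠ b → b ≠ c → a ≠ c → η a c = -(η a b * η b c) := by
    intro a b c hab hbc hac
    have h1 : z * φ ⁅(SpecialLinearGroup.transvection hab (1 : K) : SpecialLinearGroup ι K),
        SpecialLinearGroup.transvection hbc 1⁆ * z⁻¹ = z * φ (SpecialLinearGroup.transvection hac (1 * 1)) * z⁻¹ := by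
      rw [Cfsg.Agent.LieClassical.SLGen.commutator_transvection hac hab hbc]
    have h2 : z * φ ⁅(SpecialLinearGroup.transvection hab (1 : K) : SpecialLinearGroup ι K),
        SpecialLinearGroup.transvection hbc 1⁆ * z⁻¹ =
        ⁅z * φ (SpecialLinearGroup.transvection hab (1 : K)) * z⁻¹,
          z * φ (SpecialLinearGroup.transvection hbc (1 : K)) * z⁻¹⁆ := by
      rw [map_commutatorElement, commutatorElement_def, commutatorElement_def]
      group
    rw [h2, hz a b hab, hz b c hbc, hz a c hac, ← map_commutatorElement, ← commutatorElement_inv,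
      Cfsg.Agent.LieClassical.SLGen.commutator_transvection hac.symm hbc.symm hab.symm,
      SpecialLinearGroup.transvection_inv] at h1
    have h3 := hinj c a hac.symm _ _ h1
    rw [mul_one, mul_one, mul_one, mul_one] at h3
    rw [← h3]
    ring
  obtain ⟨o⟩ : Nonempty ι := ⟨(exists_pair_ne ι).choose⟩
  refine ⟨fun a => if a = o then 1 else -η a o, fun a => ?_, fun A => ?_⟩
  · by_cases h : a = o
    · simp [h]
    · simp only [h, if_false]
      rw [neg_mul_neg, hη]
  refine Cfsg.Agent.LieClassical.SLGen.transvection_induction (fun A => z * φ A * z⁻¹ = φ (tau _ _ A)) ?_ ?_ A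
  · intro a b hab c
    rw [hz a b hab, tau_transvection]
    congr 2
    have key : η a b = -((if b = o then (1 : K) else -η b o) * (if a = o then (1 : K) else -η a o)) := by
      by_cases ha : a = o
      · subst ha
        rw [if_neg hab.symm, if_pos rfl, mul_one, neg_neg]
        exact (hsym a b hab).symm
      · by_cases hb : b = o
        · subst hb
          rw [if_pos rfl, if_neg ha, one_mul, neg_neg]
        · rw [if_neg hb, if_neg ha, neg_mul_neg, hmul a o b ha (fun h => hb h.symm) hab, hsym b o hb]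
          ring
    rw [key]
  · intro A B hA hB
    rw [map_mul, map_mul, map_mul, ← hA, ← hB]
    group

end Exists

/-- the matrix `S = D H` -/
theorem exists_S {d : ι → K} (hd : ∀ a, d a * d a = 1) (X : SpecialLinearGroup ι K) {H : Matrix ι ι K} (hH : Hᵀ = H)
    (hX : X.1ᵀ * H = H * X.1) (hdet : H.det = ∏ a, d a) :
    ∃ S : SpecialLinearGroup ι K, tau d hd S = S⁻¹ ∧ tau d hd (S * X * S⁻¹) = X⁻¹ := by
  have hD := diag_sq hd
  have hdd : (diagonal d * H).det = 1 := by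
    rw [det_mul, det_diagonal, hdet, ← Finset.prod_mul_distrib]
    exact Finset.prod_eq_one fun a _ => hd a
  have hHu : IsUnit H.det := by
    rw [hdet]
    refine IsUnit.of_mul_eq_one (∏ a, d a) ?_
    rw [← Finset.prod_mul_distrib]
    exact Finset.prod_eq_one fun a _ => hd a
  set S : SpecialLinearGroup ι K := ⟨diagonal d * H, hdd⟩ with hS
  have hSinv : (S⁻¹ : SpecialLinearGroup ι K).1 = H⁻¹ * diagonal d := by
    have h1 : (H⁻¹ * diagonal d) * S.1 = 1 := by
      show (H⁻¹ * diagonal d) * (diagonal d * H) = 1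
      rw [Matrix.mul_assoc, ← Matrix.mul_assoc (diagonal d), hD, Matrix.one_mul, nonsing_inv_mul H hHu]
    have h2 : S.1 * (S⁻¹ : SpecialLinearGroup ι K).1 = 1 := by
      have := congrArg Subtype.val (mul_inv_cancel S)
      exact this
    calc (S⁻¹ : SpecialLinearGroup ι K).1 = ((H⁻¹ * diagonal d) * S.1) * (S⁻¹ : SpecialLinearGroup ι K).1 := by
          rw [h1, Matrix.one_mul]
      _ = (H⁻¹ * diagonal d) * (S.1 * (S⁻¹ : SpecialLinearGroup ι K).1) := Matrix.mul_assoc _ _ _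
      _ = _ := by rw [h2, Matrix.mul_one]
  have hHi : (H⁻¹)ᵀ = H⁻¹ := by rw [transpose_nonsing_inv, hH]
  have hT1 : tau d hd S = S⁻¹ := by
    apply Subtype.ext
    rw [coe_tau, hSinv, transpose_mul, diagonal_transpose, hHi]
    calc diagonal d * (diagonal d * H⁻¹) * diagonal d = (diagonal d * diagonal d) * H⁻¹ * diagonal d := by
          simp only [Matrix.mul_assoc]
      _ = H⁻¹ * diagonal d := by rw [hD, Matrix.one_mul]
  refine ⟨S, hT1, ?_⟩
  rw [map_mul, map_mul, map_inv, hT1, inv_inv]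
  -- `S⁻¹ tau(X) S = X⁻¹`
  have h1 : (S⁻¹ * tau d hd X * S : SpecialLinearGroup ι K) * X = 1 := by
    apply Subtype.ext
    show (S⁻¹ : SpecialLinearGroup ι K).1 * (tau d hd X).1 * (diagonal d * H) * X.1 = 1
    rw [hSinv, coe_tau]
    have e1 : H⁻¹ * diagonal d * (diagonal d * (X⁻¹ : SpecialLinearGroup ι K).1ᵀ * diagonal d) * (diagonal d * H) *
        X.1 = H⁻¹ * (diagonal d * diagonal d) * (X⁻¹ : SpecialLinearGroup ι K).1ᵀ * (diagonal d * diagonal d) *
          (H * X.1) := by simp only [Matrix.mul_assoc]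
    rw [e1, hD, Matrix.mul_one, Matrix.mul_one, ← hX]
    have e2 : (X⁻¹ : SpecialLinearGroup ι K).1ᵀ * X.1ᵀ = 1 := by
      rw [← transpose_mul]
      have : X.1 * (X⁻¹ : SpecialLinearGroup ι K).1 = 1 := congrArg Subtype.val (mul_inv_cancel X)
      rw [this, transpose_one]
    calc H⁻¹ * (X⁻¹ : SpecialLinearGroup ι K).1ᵀ * (X.1ᵀ * H)
        = H⁻¹ * ((X⁻¹ : SpecialLinearGroup ι K).1ᵀ * X.1ᵀ) * H := by simp only [Matrix.mul_assoc]
      _ = 1 := by rw [e2, Matrix.mul_one, nonsing_inv_mul H hHu]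
  exact eq_inv_of_mul_eq_one_left h1

/-- abstract: `z Φ(S)` is an involution inverting `Φ(X)` -/
theorem invol {L Y : Type*} [Group L] [Group Y] {Φ : L →* Y} {z : Y} (hz2 : z * z = 1) {τ : L → L}
    (hz : ∀ A, z * Φ A * z⁻¹ = Φ (τ A)) {S X : L} (h1 : τ S = S⁻¹) (h2 : τ (S * X * S⁻¹) = X⁻¹) :
    (z * Φ S) * (z * Φ S) = 1 ∧ (z * Φ S) * Φ X * (z * Φ S)⁻¹ = (Φ X)⁻¹ := by
  constructor
  · have h3 := hz S
    rw [h1, map_inv] at h3
    have h4 : z * Φ S = (Φ S)⁻¹ * z := by rw [← h3]; group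
    calc (z * Φ S) * (z * Φ S) = ((Φ S)⁻¹ * z) * (z * Φ S) := by rw [h4]
      _ = (Φ S)⁻¹ * (z * z) * Φ S := by group
      _ = 1 := by rw [hz2]; group
  · have h3 := hz (S * X * S⁻¹)
    rw [h2, map_inv, map_mul, map_mul, map_inv] at h3
    rw [← h3]
    group

end Cfsg.Agent.H335.Sr
end

-- part: H335/Sr/Chev
section
/-!
# Involutions inverting the torus and inducing inverse transposition on blocks (helper335)

* `ZD hp cs w γ ε z` : `z² = 1`, `z` normalises the torus, `z x_{±α_i}(t) z⁻¹ = x_{∓α_{γ i}}(ε_i t)`, and `z` acts on all root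
  groups with signs;
* `exists_ZD_neg` : `w = -1`;  `exists_ZD` : `w = -γ`, `det` of the Cartan matrix odd: all signs `ε` (with `ε γ = ε`) occur;
* `ZD.tor` : `z` inverts the `γ`-invariant elements of the torus;
* `ZD.block` : `z φ(A) z⁻¹ = φ(D A⁻ᵀ D)` for a block `φ` of type `A` whose roots are negated by `w`;
* `ZD.inv_block` : `s₀ φ(X)` is inverted by an element of square one, if `X` has symmetric intertwiners.
-/

set_option autoImplicit false
set_option linter.unusedSectionVars false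

namespace Cfsg.Agent.H335.Sr

open CoxeterSystem Cfsg Cfsg.Lie Cfsg.Lie.ChevalleyDatum
open Cfsg.Agent.ChevalleyStructure Cfsg.Agent.ChevalleyStructure.Elts Cfsg.Agent.ChevalleyStructure.CoxeterGeom
  Cfsg.Agent.ChevalleyStructure.CoxeterGeomTypes Cfsg.Agent.ChevalleyStructure.NPerm
open Cfsg.Agent.Tits.Roots Cfsg.Agent.Tits.Core Cfsg.Agent.Nodes Cfsg.Agent.Nodes.Reps Cfsg.Agent.Nodes.BNOf
  Cfsg.Agent.Nodes.RGDChev Cfsg.Agent.Nodes.Bruhat
open Cfsg.Agent.KFacts.RgdField Cfsg.Agent.KFacts.RgdChevCoord Cfsg.Agent.BpExc.TorCent Cfsg.Agent.BpExc.TorChev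
open Cfsg.Agent.H129.TorusChar

universe u

variable {D : ChevalleyDatum} {l : ℕ} {M : CoxeterMatrix (Fin l)} (hp : IsType D l M) {K : Type u} [Field K]
  {W : Type*} [Group W] (cs : CoxeterSystem M W)

/-- the data of an involution `z` over `w = -γ` -/
structure ZD (w : W) (γ : Fin l → Fin l) (ε : Fin l → ℤ) (z : ↥(D.group K)) : Prop where
  sq : z * z = 1
  norm : z ∈ Subgroup.normalizer (TT D K : Set ↥(D.group K))
  pos : ∀ i (t : K), z * xc hp (sr i) t * z⁻¹ = xc hp (-sr (γ i)) ((ε i : K) * t)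
  neg : ∀ i (t : K), z * xc hp (-sr i) t * z⁻¹ = xc hp (sr (γ i)) ((ε i : K) * t)
  sgn : ∀ i, ε i = 1 ∨ ε i = -1
  root : ∀ a, IsRoot cs hp.isCartan a → ∃ e : ℤ, (e = 1 ∨ e = -1) ∧
    (∀ t : K, z * xc hp a t * z⁻¹ = xc hp (rep cs hp.isCartan w a) ((e : K) * t)) ∧
    (∀ t : K, z * xc hp (-a) t * z⁻¹ = xc hp (-rep cs hp.isCartan w a) ((e : K) * t))

theorem exists_ZD_neg (hN : NSys M (TT D K) (nc hp K)) {w : W} (hw : ∀ x, rep cs hp.isCartan w x = -x) :
    ∃ (ε : Fin l → ℤ) (z : ↥(D.group K)), ZD hp cs w id ε z := by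
  obtain ⟨z, hz, h⟩ := exists_lift hp cs hN w
  choose e he using fun i => h (sr i) (isRoot_sr cs hp.isCartan i)
  have hpos : ∀ i (t : K), z * xc hp (sr i) t * z⁻¹ = xc hp (-sr i) ((e i : K) * t) := fun i t => by
    rw [(he i).2.1 t, hw]
  have hneg : ∀ i (t : K), z * xc hp (-sr i) t * z⁻¹ = xc hp (sr i) ((e i : K) * t) := fun i t => by
    rw [(he i).2.2 t, hw, neg_neg]
  refine ⟨e, z, ?_, hz.mem_normalizer, hpos, hneg, fun i => (he i).1, h⟩
  have hww : w * w = 1 := by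
    refine ChevalleyStructure.CoxeterGeom.eq_one_of_fix cs hp.isCartan (w * w) fun i => ?_
    rw [map_mul, Module.End.mul_apply, hw, hw, neg_neg]
  have hzT : z * z ∈ TT D K := by
    have h1 := hz.mul hz
    rw [hww] at h1
    exact h1.mem_of_one
  refine cX_inj hp hzT (one_mem _) fun i => ?_
  rw [cX_one, cX_sr]
  have hi := simple_lt hp.inList (lt_rank hp i)
  rw [← vec_simple hp i]
  refine ch_eq hp hi hzT ?_
  rw [vec_simple hp i]
  have e1 : z * z * xc hp (sr i) (1 : K) * (z * z)⁻¹ = z * (z * xc hp (sr i) 1 * z⁻¹) * z⁻¹ := by group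
  rw [e1, hpos, hneg]
  congr 1
  rcases (he i).1 with h3 | h3 <;> rw [h3] <;> simp

theorem exists_ZD (hN : NSys M (TT D K) (nc hp K)) {w : W} {γ : Fin l → Fin l} (hγ : ∀ i, γ (γ i) = i)
    (hw : ∀ i, rep cs hp.isCartan w (sr i) = -sr (γ i)) {d : ℕ} {B : Fin l → Fin l → ℤ} (hB : InvC D l d B)
    (hd : Odd d) (ε : Fin l → ℤ) (hε : ∀ i, ε i = 1 ∨ ε i = -1) (hεγ : ∀ i, ε (γ i) = ε i) :
    ∃ z : ↥(D.group K), ZD hp cs w γ ε z := by
  obtain ⟨z, hz, h⟩ := exists_lift hp cs hN w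
  choose e he using fun i => h (sr i) (isRoot_sr cs hp.isCartan i)
  have hpos : ∀ i (t : K), z * xc hp (sr i) t * z⁻¹ = xc hp (-sr (γ i)) ((e i : K) * t) := fun i t => by
    rw [(he i).2.1 t, hw]
  have hneg : ∀ i (t : K), z * xc hp (-sr i) t * z⁻¹ = xc hp (sr (γ i)) ((e i : K) * t) := fun i t => by
    rw [(he i).2.2 t, hw, neg_neg]
  have hpm : ∀ i, ((e i * ε i : ℤ) : K) = 1 ∨ ((e i * ε i : ℤ) : K) = -1 := by
    intro i
    rcases (he i).1 with h1 | h1 <;> rcases hε i with h2 | h2 <;> rw [h1, h2] <;> simp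
  have hne : ∀ i, ((e i * ε i : ℤ) : K) ≠ 0 := fun i => by
    rcases hpm i with h1 | h1 <;> rw [h1]
    · exact one_ne_zero
    · exact neg_ne_zero.2 one_ne_zero
  obtain ⟨t, ht, htc⟩ := exists_cX hp (k := K) hB hd.pos.ne' (IsMC.of_prod (fun i => ((e i * ε i : ℤ) : K)) hne)
    (fun i => ⟨((e i * ε i : ℤ) : K), by
      rw [Finset.prod_eq_single i (fun j _ hj => by rw [sr_ne hj, zpow_zero])
        (fun h => absurd (Finset.mem_univ i) h), sr_self, zpow_one]
      rcases hpm i with h1 | h1 <;> rw [h1]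
      · exact one_pow _
      · exact hd.neg_one_pow⟩)
  have htsr : ∀ i, cX hp t (sr i) = ((e i * ε i : ℤ) : K) := by
    intro i
    rw [htc, Finset.prod_eq_single i (fun j _ hj => by rw [sr_ne hj, zpow_zero])
        (fun h => absurd (Finset.mem_univ i) h), sr_self, zpow_one]
  have hmc := isMC_cX hp ht
  have hact : ∀ a, IsRoot cs hp.isCartan a → ∀ c : K, t * xc hp a c * t⁻¹ = xc hp a (cX hp t a * c) := by
    intro a ha c
    rw [cX_root hp cs ht ha]
    obtain ⟨r, hr, rfl⟩ := (isRoot_iff hp cs a).1 ha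
    exact (act hp hr ht).2 c
  have hcpm : ∀ a : Fin l → ℤ, ∃ f : ℤ, (f = 1 ∨ f = -1) ∧ cX hp t a = (f : K) ∧ cX hp t (-a) = (f : K) := by
    have key : ∀ a : Fin l → ℤ, cX hp t a = 1 ∨ cX hp t a = -1 := by
      intro a
      rw [hmc.eq_prod]
      refine Finset.prod_induction _ (fun x : K => x = 1 ∨ x = -1) ?_ (.inl rfl) ?_
      · rintro x y (rfl | rfl) (rfl | rfl) <;> simp
      · intro i _
        rw [htsr]
        rcases hpm i with h1 | h1 <;> rw [h1]
        · rw [one_zpow]; exact .inl rfl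
        · rcases Int.even_or_odd (a i) with h2 | h2
          · rw [h2.neg_one_zpow]; exact .inl rfl
          · rw [h2.neg_one_zpow]; exact .inr rfl
    intro a
    rcases key a with h1 | h1
    · refine ⟨1, .inl rfl, by rw [h1]; simp, ?_⟩
      rw [hmc.neg, h1]; simp
    · refine ⟨-1, .inr rfl, by rw [h1]; simp, ?_⟩
      rw [hmc.neg, h1]; simp
  have hroot : ∀ a, IsRoot cs hp.isCartan a → ∃ e' : ℤ, (e' = 1 ∨ e' = -1) ∧
      (∀ c : K, z * t * xc hp a c * (z * t)⁻¹ = xc hp (rep cs hp.isCartan w a) ((e' : K) * c)) ∧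
      (∀ c : K, z * t * xc hp (-a) c * (z * t)⁻¹ = xc hp (-rep cs hp.isCartan w a) ((e' : K) * c)) := by
    intro a ha
    obtain ⟨e', he', h1, h2⟩ := h a ha
    obtain ⟨f, hf, h3, h4⟩ := hcpm a
    refine ⟨e' * f, ?_, fun c => ?_, fun c => ?_⟩
    · rcases he' with h5 | h5 <;> rcases hf with h6 | h6 <;> rw [h5, h6] <;> simp
    · have e1 : z * t * xc hp a c * (z * t)⁻¹ = z * (t * xc hp a c * t⁻¹) * z⁻¹ := by group
      rw [e1, hact a ha, h1, h3]
      push_cast
      rw [mul_assoc]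
    · have e1 : z * t * xc hp (-a) c * (z * t)⁻¹ = z * (t * xc hp (-a) c * t⁻¹) * z⁻¹ := by group
      rw [e1, hact (-a) ha.neg, h2, h4]
      push_cast
      rw [mul_assoc]
  have hee : ∀ i, (e i : K) * ((e i * ε i : ℤ) : K) = (ε i : K) := by
    intro i
    rcases (he i).1 with h1 | h1 <;> rw [h1] <;> simp
  have hpos' : ∀ i (c : K), z * t * xc hp (sr i) c * (z * t)⁻¹ = xc hp (-sr (γ i)) ((ε i : K) * c) := by
    intro i c
    have e1 : z * t * xc hp (sr i) c * (z * t)⁻¹ = z * (t * xc hp (sr i) c * t⁻¹) * z⁻¹ := by group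
    rw [e1, hact _ (isRoot_sr cs hp.isCartan i), hpos, htsr, ← mul_assoc, hee]
  have hneg' : ∀ i (c : K), z * t * xc hp (-sr i) c * (z * t)⁻¹ = xc hp (sr (γ i)) ((ε i : K) * c) := by
    intro i c
    have e1 : z * t * xc hp (-sr i) c * (z * t)⁻¹ = z * (t * xc hp (-sr i) c * t⁻¹) * z⁻¹ := by group
    have e2 : (((e i * ε i : ℤ) : K))⁻¹ = ((e i * ε i : ℤ) : K) := by
      rcases hpm i with h1 | h1 <;> rw [h1] <;> simp
    rw [e1, hact _ (isRoot_sr cs hp.isCartan i).neg, hneg, hmc.neg, htsr, e2, ← mul_assoc, hee]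
  have hzt : Rp cs hN w (z * t) := hz.mul_mem_right ht
  refine ⟨z * t, ?_, hzt.mem_normalizer, hpos', hneg', hε, hroot⟩
  have hww : w * w = 1 := by
    refine ChevalleyStructure.CoxeterGeom.eq_one_of_fix cs hp.isCartan (w * w) fun i => ?_
    change rep cs hp.isCartan (w * w) (sr i) = sr i
    rw [map_mul, Module.End.mul_apply, hw, map_neg, hw, neg_neg, hγ]
  have hzT : (z * t) * (z * t) ∈ TT D K := by
    have h1 := hzt.mul hzt
    rw [hww] at h1
    exact h1.mem_of_one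
  refine cX_inj hp hzT (one_mem _) fun i => ?_
  rw [cX_one, cX_sr]
  have hi := simple_lt hp.inList (lt_rank hp i)
  rw [← vec_simple hp i]
  refine ch_eq hp hi hzT ?_
  rw [vec_simple hp i]
  have e1 : (z * t) * (z * t) * xc hp (sr i) (1 : K) * ((z * t) * (z * t))⁻¹ =
      (z * t) * ((z * t) * xc hp (sr i) 1 * (z * t)⁻¹) * (z * t)⁻¹ := by group
  rw [e1, hpos', hneg', hγ, hεγ]
  congr 1
  rcases hε i with h3 | h3 <;> rw [h3] <;> simp


/-! ### Consequences -/

/-- `X` has symmetric intertwiners of all determinants -/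
def Sy {n : ℕ} {K : Type*} [Field K] (X : Matrix (Fin n) (Fin n) K) : Prop :=
  ∀ δ : K, δ ≠ 0 → ∃ H : Matrix (Fin n) (Fin n) K, H.transpose = H ∧ X.transpose * H = H * X ∧ H.det = δ

namespace ZD

variable {hp cs} {w : W} {γ : Fin l → Fin l} {ε : Fin l → ℤ} {z : ↥(D.group K)} (Z : ZD hp cs w γ ε z)

include Z

theorem tor {s : ↥(D.group K)} (hs : s ∈ TT D K) (hγ : ∀ i, γ (γ i) = i)
    (hsγ : ∀ i, ch hp (sr (γ i)) s = ch hp (sr i) s) : z * s * z⁻¹ = s⁻¹ := by
  have hu : z * s * z⁻¹ ∈ TT D K := (Subgroup.mem_normalizer_iff.1 Z.norm s).1 hs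
  refine cX_inj hp hu (inv_mem hs) fun j => ?_
  have key : ∀ i, cX hp (z * s * z⁻¹) (-sr (γ i)) = ch hp (sr i) s := by
    intro i
    have hr : D.neg (D.simple (γ i)) < D.nroots := neg_lt hp.inList (simple_lt hp.inList (lt_rank hp (γ i)))
    have hv : vec D l (D.neg (D.simple (γ i))) = -sr (γ i) := by
      rw [vec_neg hp (simple_lt hp.inList (lt_rank hp (γ i))), vec_simple hp]
    have h1 := (act hp hr hu).2 ((ε i : K) * 1)
    rw [← cX_vec hp hu hr, hv] at h1
    have h2 : z * s * z⁻¹ * xc hp (-sr (γ i)) ((ε i : K) * 1) * (z * s * z⁻¹)⁻¹ =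
        z * (s * xc hp (sr i) 1 * s⁻¹) * z⁻¹ := by
      rw [← Z.pos i 1]; group
    rw [h2, (ch_sr_act hp hs i).2, Z.pos] at h1
    rw [← hv] at h1
    have h3 := xc_inj hp hr h1
    rw [hv] at h3
    have hε : (ε i : K) * (ε i : K) = 1 := by
      rcases Z.sgn i with h | h <;> rw [h] <;> simp
    have h4 : (ε i : K) ≠ 0 := left_ne_zero_of_mul_eq_one hε
    have h5 : (ε i : K) * ch hp (sr i) s = (ε i : K) * cX hp (z * s * z⁻¹) (-sr (γ i)) := by
      rw [mul_one] at h3
      rw [h3]; ring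
    exact (mul_left_cancel₀ h4 h5).symm
  have h1 := key (γ j)
  rw [hγ, (isMC_cX hp hu).neg] at h1
  have h6 : cX hp s⁻¹ (sr j) = (cX hp s (sr j))⁻¹ := by
    have h7 := cX_mul hp (inv_mem hs) hs (sr j)
    rw [inv_mul_cancel, cX_one] at h7
    exact (eq_inv_of_mul_eq_one_left h7.symm)
  rw [h6, cX_sr hp s, ← hsγ j, ← h1, inv_inv]

theorem block {n : ℕ} {r : Fin (n + 2) → Fin (n + 2) → ℕ} {s : Fin (n + 2) → Fin (n + 2) → K}
    {φ : Matrix.SpecialLinearGroup (Fin (n + 2)) K →* ↥(D.group K)} (hr : ∀ a b, a ≠ b → r a b < D.nroots)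
    (hneg : ∀ a b, a ≠ b → r b a = D.neg (r a b))
    (hw : ∀ a b, a ≠ b → rep cs hp.isCartan w (vec D l (r a b)) = -vec D l (r a b))
    (hs : ∀ a b, a ≠ b → s a b * s a b = 1)
    (hφ : ∀ a b (hab : a ≠ b) c, φ (Matrix.SpecialLinearGroup.transvection hab c) =
      xc hp (vec D l (r a b)) (s a b * c)) :
    ∃ (d : Fin (n + 2) → K) (hd : ∀ a, d a * d a = 1), ∀ A, z * φ A * z⁻¹ = φ (tau d hd A) := by
  have h0 : ∀ a b, ∃ e : ℤ, (e = 1 ∨ e = -1) ∧ (a ≠ b → ∀ t : K,
      z * xc hp (vec D l (r a b)) t * z⁻¹ = xc hp (vec D l (r b a)) ((e : K) * t)) := by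
    intro a b
    by_cases hab : a = b
    · exact ⟨1, .inl rfl, fun h => absurd hab h⟩
    · obtain ⟨e, he, h1, -⟩ := Z.root (vec D l (r a b)) (isRoot_vec hp cs (hr a b hab))
      refine ⟨e, he, fun _ t => ?_⟩
      rw [h1, hw a b hab, hneg a b hab, vec_neg hp (hr a b hab)]
  choose e he h1 using h0
  refine exists_tau Z.sq (η := fun a b => if a = b then 1 else s b a * (e a b : K) * s a b) (fun a b => ?_)
    (fun a b hab c => ?_) (fun a b hab c c' h => ?_)
  · by_cases hab : a = b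
    · simp [hab]
    · simp only [hab, if_false]
      have e1 : (e a b : K) * (e a b : K) = 1 := by
        rcases he a b with h | h <;> rw [h] <;> simp
      calc s b a * (e a b : K) * s a b * (s b a * (e a b : K) * s a b)
          = (s b a * s b a) * ((e a b : K) * (e a b : K)) * (s a b * s a b) := by ring
        _ = 1 := by rw [hs a b hab, hs b a (Ne.symm hab), e1]; ring
  · rw [hφ, hφ, h1 a b hab]
    congr 1
    simp only [hab, if_false]
    calc (e a b : K) * (s a b * c) = (s b a * s b a) * ((e a b : K) * (s a b * c)) := by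
          rw [hs b a hab.symm, one_mul]
      _ = _ := by ring
  · rw [hφ, hφ] at h
    have h2 := xc_inj hp (hr a b hab) h
    have h3 : s a b ≠ 0 := left_ne_zero_of_mul_eq_one (hs a b hab)
    exact mul_left_cancel₀ h3 h2

theorem inv_block {n : ℕ} {r : Fin (n + 2) → Fin (n + 2) → ℕ} {s : Fin (n + 2) → Fin (n + 2) → K}
    {φ : Matrix.SpecialLinearGroup (Fin (n + 2)) K →* ↥(D.group K)} (hr : ∀ a b, a ≠ b → r a b < D.nroots)
    (hneg : ∀ a b, a ≠ b → r b a = D.neg (r a b))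
    (hw : ∀ a b, a ≠ b → rep cs hp.isCartan w (vec D l (r a b)) = -vec D l (r a b))
    (hs : ∀ a b, a ≠ b → s a b * s a b = 1)
    (hφ : ∀ a b (hab : a ≠ b) c, φ (Matrix.SpecialLinearGroup.transvection hab c) =
      xc hp (vec D l (r a b)) (s a b * c)) (hγ : ∀ i, γ (γ i) = i) {s₀ : ↥(D.group K)} (hs₀ : s₀ ∈ TT D K)
    (hsγ : ∀ i, ch hp (sr (γ i)) s₀ = ch hp (sr i) s₀) (hcomm : ∀ A, s₀ * φ A = φ A * s₀)
    {X : Matrix.SpecialLinearGroup (Fin (n + 2)) K} (hX : Sy X.1) :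
    ∃ S, (z * φ S) * (z * φ S) = 1 ∧ (z * φ S) * (s₀ * φ X) * (z * φ S)⁻¹ = (s₀ * φ X)⁻¹ := by
  obtain ⟨d, hd, hτ⟩ := Z.block hr hneg hw hs hφ
  have hprod : (∏ a, d a) ≠ 0 := Finset.prod_ne_zero_iff.2 fun a _ => left_ne_zero_of_mul_eq_one (hd a)
  obtain ⟨H, hH, hXH, hdet⟩ := hX _ hprod
  obtain ⟨S, h1, h2⟩ := exists_S hd X hH hXH hdet
  obtain ⟨h3, h4⟩ := invol Z.sq hτ h1 h2
  refine ⟨S, h3, ?_⟩
  have h5 := Z.tor hs₀ hγ hsγ
  have h6 : (z * φ S) * s₀ * (z * φ S)⁻¹ = s₀⁻¹ := by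
    calc (z * φ S) * s₀ * (z * φ S)⁻¹ = z * (φ S * s₀) * (φ S)⁻¹ * z⁻¹ := by group
      _ = z * s₀ * z⁻¹ := by rw [← hcomm]; group
      _ = s₀⁻¹ := h5
  calc (z * φ S) * (s₀ * φ X) * (z * φ S)⁻¹
      = ((z * φ S) * s₀ * (z * φ S)⁻¹) * ((z * φ S) * φ X * (z * φ S)⁻¹) := by group
    _ = s₀⁻¹ * (φ X)⁻¹ := by rw [h6, h4]
    _ = (φ X * s₀)⁻¹ := by group
    _ = (s₀ * φ X)⁻¹ := by rw [← hcomm]

end ZD

/-- adding a commuting part -/
theorem combine {Y : Type*} [Group Y] {z S m c v : Y} (hz : z * z = 1) (hS : (z * S) * (z * S) = 1)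
    (hm : (z * m) * (z * m) = 1) (hSm : Commute S m) (hmc : Commute m c) (hSv : Commute S v) (hcv : Commute c v)
    (h1 : (z * S) * c * (z * S)⁻¹ = c⁻¹) (h2 : (z * m) * v * (z * m)⁻¹ = v⁻¹) :
    (z * S * m) * (z * S * m) = 1 ∧ (z * S * m) * (c * v) * (z * S * m)⁻¹ = (c * v)⁻¹ := by
  have hzi : z⁻¹ = z := inv_eq_of_mul_eq_one_left hz
  have e1 : z * S * z = S⁻¹ := eq_inv_of_mul_eq_one_left (by rw [← hS]; group)
  have e2 : z * m * z = m⁻¹ := eq_inv_of_mul_eq_one_left (by rw [← hm]; group)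
  constructor
  · calc (z * S * m) * (z * S * m) = (z * S * z) * (z⁻¹ * m * z) * (S * m) := by group
      _ = S⁻¹ * m⁻¹ * (S * m) := by rw [hzi, e1, e2]
      _ = S⁻¹ * m⁻¹ * (m * S) := by rw [hSm.eq]
      _ = 1 := by group
  · have e3 : m * c * m⁻¹ = c := by rw [hmc.eq]; group
    have e4 : S * v * S⁻¹ = v := by rw [hSv.eq]; group
    calc (z * S * m) * (c * v) * (z * S * m)⁻¹
        = (z * S * (m * c * m⁻¹) * S⁻¹ * z⁻¹) * (z * (S * m) * v * (S * m)⁻¹ * z⁻¹) := by group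
      _ = ((z * S) * c * (z * S)⁻¹) * (z * (m * S) * v * (m * S)⁻¹ * z⁻¹) := by rw [e3, hSm.eq]; group
      _ = c⁻¹ * (z * m * (S * v * S⁻¹) * m⁻¹ * z⁻¹) := by rw [h1]; group
      _ = c⁻¹ * ((z * m) * v * (z * m)⁻¹) := by rw [e4]; group
      _ = c⁻¹ * v⁻¹ := by rw [h2]
      _ = (v * c)⁻¹ := by group
      _ = (c * v)⁻¹ := by rw [hcv.eq]

end Cfsg.Agent.H335.Sr
end
end

-- part: H335/Sr/Symm
section
prune_inst 0x2430740431c0020008180516c2003c62ca000022000bc80061a005020dc1ac63a9c32e21ba30070a82903cd46838404811000120424800000e000c00411f05811080000405400308ca008e000080000000000000000000000000000000000000200000000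
set_option linter.all false
open scoped Cfsg.Agent.FastGrp

/-!
# Symmetric intertwiners (helper335)

`exists_symm` : `X` with irreducible characteristic polynomial over a finite field: for every `δ ≠ 0` there is
`H = Hᵀ` with `Xᵀ H = H X` and `det H = δ`.
-/

set_option autoImplicit false
set_option linter.unusedSectionVars false

namespace Cfsg.Agent.H335.Sr

open Module Polynomial Matrix Cfsg.Agent.H71.CovScal Cfsg.Agent.H71.CovFull

universe u

theorem exists_symm {n : ℕ} {F : Type u} [Field F] [Finite F] (X : Matrix (Fin n) (Fin n) F)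
    (hirr : Irreducible X.charpoly) (δ : F) :
    ∃ H : Matrix (Fin n) (Fin n) F, Hᵀ = H ∧ Xᵀ * H = H * X ∧ H.det = δ := by
  classical
  set T : Module.End F (Fin n → F) := Matrix.toLin' X with hTdef
  have hcp : LinearMap.charpoly T = X.charpoly := Matrix.charpoly_toLin' X
  have hirr' : Irreducible (LinearMap.charpoly T) := hcp ▸ hirr
  have hf : Fact (Irreducible (LinearMap.charpoly T)) := ⟨hirr'⟩
  have hT : aeval T (LinearMap.charpoly T) = 0 := LinearMap.aeval_self_charpoly T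
  let m1 : Module (AdjoinRoot (LinearMap.charpoly T)) (Fin n → F) := Module.compHom (Fin n → F) (act hT).toRingHom
  have s1 : ∀ (k : AdjoinRoot (LinearMap.charpoly T)) (v : Fin n → F), k • v = act hT k v := fun _ _ => rfl
  have t1 : IsScalarTower F (AdjoinRoot (LinearMap.charpoly T)) (Fin n → F) := ⟨fun c k v => by
    rw [s1, s1, map_smul, LinearMap.smul_apply]⟩
  have f1 : FiniteDimensional (AdjoinRoot (LinearMap.charpoly T)) (Fin n → F) :=
    FiniteDimensional.right F (AdjoinRoot (LinearMap.charpoly T)) (Fin n → F)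
  have f0 : FiniteDimensional F (AdjoinRoot (LinearMap.charpoly T)) := (AdjoinRoot.powerBasis hirr'.ne_zero).finite
  have h1 := Module.finrank_mul_finrank F (AdjoinRoot (LinearMap.charpoly T)) (Fin n → F)
  have h2 : finrank F (AdjoinRoot (LinearMap.charpoly T)) = finrank F (Fin n → F) := by
    rw [finrank_adjoinRoot hirr'.ne_zero, LinearMap.charpoly_natDegree]
  have h4 : 0 < finrank F (AdjoinRoot (LinearMap.charpoly T)) := Module.finrank_pos
  have h3 : finrank (AdjoinRoot (LinearMap.charpoly T)) (Fin n → F) = 1 := by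
    apply Nat.eq_of_mul_eq_mul_left h4
    rw [h1, h2, mul_one]
  obtain ⟨e⟩ := FiniteDimensional.nonempty_linearEquiv_of_finrank_eq
    (R := AdjoinRoot (LinearMap.charpoly T)) (M := Fin n → F) (M' := AdjoinRoot (LinearMap.charpoly T))
    (by rw [Module.finrank_self, h3])
  set E := AdjoinRoot (LinearMap.charpoly T) with hE
  have heT : ∀ v : Fin n → F, e (X *ᵥ v) = AdjoinRoot.root (LinearMap.charpoly T) * e v := by
    intro v
    have : X *ᵥ v = (AdjoinRoot.root (LinearMap.charpoly T)) • v := by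
      rw [s1, act_root hT, hTdef, Matrix.toLin'_apply]
    rw [this, map_smul, smul_eq_mul]
  -- a nonzero functional
  obtain ⟨lam, hlam⟩ : ∃ lam : E →ₗ[F] F, lam ≠ 0 := by
    have hpos : 0 < finrank F (Module.Dual F E) := by rw [Subspace.dual_finrank_eq]; exact h4
    obtain ⟨lam, h⟩ := Module.finrank_pos_iff_exists_ne_zero.1 hpos
    exact ⟨lam, h⟩
  -- the Gram matrices
  let G : E → Matrix (Fin n) (Fin n) F := fun c => Matrix.of fun i j =>
    lam (c * (e (Pi.single i 1) * e (Pi.single j 1)))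
  have hsum : ∀ v : Fin n → F, e v = ∑ j, v j • e (Pi.single j 1) := by
    intro v
    have hv : v = ∑ j, v j • (Pi.single j 1 : Fin n → F) := by
      funext i
      rw [Finset.sum_apply, Finset.sum_eq_single i]
      · simp
      · intro b _ hb
        simp [Pi.single_eq_of_ne hb.symm]
      · intro h
        exact absurd (Finset.mem_univ i) h
    conv_lhs => rw [hv]
    rw [map_sum]
    refine Finset.sum_congr rfl fun j _ => ?_
    have : (v j • (Pi.single j 1 : Fin n → F)) = (algebraMap F E (v j)) • (Pi.single j 1 : Fin n → F) := by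
      rw [algebraMap_smul]
    rw [this, map_smul, algebraMap_smul]
  have hGmul : ∀ (c : E) (i : Fin n) (v : Fin n → F),
      ∑ j, G c i j * v j = lam (c * (e (Pi.single i 1) * e v)) := by
    intro c i v
    rw [hsum v, Finset.mul_sum, Finset.mul_sum, map_sum]
    refine Finset.sum_congr rfl fun j _ => ?_
    show lam (c * (e (Pi.single i 1) * e (Pi.single j 1))) * v j = _
    rw [mul_smul_comm, mul_smul_comm, map_smul, smul_eq_mul, mul_comm]
  have hGsym : ∀ c, (G c)ᵀ = G c := by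
    intro c
    ext i j
    show lam (c * (e (Pi.single j 1) * e (Pi.single i 1))) = lam (c * (e (Pi.single i 1) * e (Pi.single j 1)))
    rw [mul_comm (e (Pi.single j 1))]
  have hGX : ∀ c, Xᵀ * G c = G c * X := by
    intro c
    have key : ∀ i j, (G c * X) i j =
        lam (c * (AdjoinRoot.root (LinearMap.charpoly T) * (e (Pi.single i 1) * e (Pi.single j 1)))) := by
      intro i j
      rw [mul_apply]
      have h5 := hGmul c i (X *ᵥ Pi.single j 1)
      rw [heT] at h5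
      have h6 : ∀ k, (X *ᵥ Pi.single j 1) k = X k j := fun k => by rw [mulVec_single_one]; rfl
      simp only [h6] at h5
      rw [h5]
      congr 2
      ring
    have h7 : Xᵀ * G c = (G c * X)ᵀ := by rw [transpose_mul, hGsym]
    rw [h7]
    ext i j
    rw [transpose_apply, key, key]
    congr 3
    ring
  have hdet : ∀ c : E, (G c).det = Algebra.norm F c * (G 1).det := by
    intro c
    -- `G c = (matrix of c)ᵀ * G 1`
    let C : Matrix (Fin n) (Fin n) F := LinearMap.toMatrix' (act hT c)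
    have hC : ∀ v, C *ᵥ v = c • v := fun v => by
      rw [s1]
      exact LinearMap.toMatrix'_mulVec (act hT c) v
    have h5 : G c = G 1 * C := by
      ext i j
      rw [mul_apply]
      have h6 := hGmul 1 i (C *ᵥ Pi.single j 1)
      have h7 : ∀ k, (C *ᵥ Pi.single j 1) k = C k j := fun k => by rw [mulVec_single_one]; rfl
      simp only [h7] at h6
      rw [h6, hC, map_smul, smul_eq_mul]
      show lam (c * (e (Pi.single i 1) * e (Pi.single j 1))) = _
      congr 1
      ring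
    rw [h5, det_mul, mul_comm]
    congr 1
    rw [← det_act hirr' c]
    exact LinearMap.det_toMatrix' (act hT c)
  have h1ne : (G 1).det ≠ 0 := by
    intro h0
    obtain ⟨v, hv0, hv⟩ := Matrix.exists_mulVec_eq_zero_iff.2 h0
    have hev : e v ≠ 0 := fun h => hv0 (e.map_eq_zero_iff.1 h)
    apply hlam
    -- `lam` vanishes on all `a * e v`
    have h5 : ∀ w : Fin n → F, lam (e w * e v) = 0 := by
      intro w
      rw [hsum w, Finset.sum_mul, map_sum]
      refine Finset.sum_eq_zero fun i _ => ?_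
      rw [smul_mul_assoc, map_smul]
      have h6 := hGmul 1 i v
      rw [one_mul] at h6
      rw [← h6]
      have h7 := congrFun hv i
      rw [mulVec, dotProduct] at h7
      rw [h7]
      simp
    ext a
    obtain ⟨w, hw⟩ := e.surjective (a * (e v)⁻¹)
    have h6 := h5 w
    rw [hw, mul_assoc, inv_mul_cancel₀ hev, mul_one] at h6
    rw [h6]
    rfl
  have f2 : Finite E := Module.finite_of_finite F
  obtain ⟨c, hc⟩ := FiniteField.norm_surjective F E (δ * (G 1).det⁻¹)
  refine ⟨G c, hGsym c, hGX c, ?_⟩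
  rw [hdet, hc, mul_assoc, inv_mul_cancel₀ h1ne, mul_one]

end Cfsg.Agent.H335.Sr
end

-- part: H85/Ore/Blk_mg
section
prune_inst 0x55030440040000000180584d1203c46ce0005b2002b8001c940084004c0af4320810f61b4e0130a031aae7520390048110000690260000004000e00411d05811088020030400000800090009084000000000000000000000000000000000004200000000
set_option linter.all false
open scoped Cfsg.Agent.FastGrp

-- part: H85/Ore/Blk
section
/-!
# The frame for one block of type `A` (S2443, S4171)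

* `UJ_le`, `UNJ_le` : `U_J` and `U_J⁻` are in the images of the unitriangular groups;
* `allC_of_blk`, `inv4_of_blk` : commutators and products of four elements of square one from one class of the block.
-/

set_option autoImplicit false
set_option linter.unusedSectionVars false

namespace Cfsg.Agent.H85.Ore

open CoxeterSystem Cfsg.Agent.ChevalleyStructure.CoxeterGeom Cfsg.Agent.Tits.Roots Cfsg.Agent.Tits.Core
  Cfsg.Agent.Nodes.Reps Cfsg.Agent.Nodes.BNOf Cfsg.Agent.Nodes.RGDLib Cfsg.Agent.Nodes.Bruhat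
  Cfsg.Agent.Nodes.OppDec Cfsg.Agent.Nodes.LeviDec Cfsg.Agent.Nodes.KindChev Cfsg.Agent.Nodes.ChevCls
  Cfsg.Agent.OddHalf.NI.ModelChev
  Cfsg.Agent.H162.GaussDec Cfsg.Agent.H162.GaussLevi Cfsg.Agent.H162.GaussSL
  Cfsg.Agent.H162.GaussMain Cfsg.Agent.H162.GaussPQ Cfsg.Agent.H162.GaussExc
open Cfsg.Lie Cfsg.Agent.ChevalleyStructure Cfsg.Agent.ChevalleyStructure.Elts
  Cfsg.Agent.ChevalleyStructure.RootVec Cfsg.Agent.ChevalleyStructure.NPerm
  Cfsg.Agent.ChevalleyStructure.CoxeterGeomTypes Cfsg.Agent.Nodes.RGDChev Cfsg.Agent.KFacts.RgdChevCoord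
open Cfsg.Agent.TitsThree.KExcRT Cfsg.Agent.AGraded
open Cfsg.Agent.H162.GaussExcMain (ChkB ChkSub w7 w8 exists_hom_D)
open Cfsg.Agent.H928.Ore.Frame (NF LP)
open Cfsg.Agent.H777.Ore (IsC AllC I4 Inv4)
open scoped MatrixGroups

universe u

/-! ### The frame for one block of type `A` -/

section

variable {D : ChevalleyDatum} {l : ℕ} {M : CoxeterMatrix (Fin l)} (hp : IsType D l M) {K : Type u} [Field K]
  {J : List (Fin l)} {e : Fin l → ℤ} {ω : List (Fin l)} {n : ℕ} {r : Fin (n + 2) → Fin (n + 2) → ℕ}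
  (TB : TabB D l J e ω n r)
  {φ : Matrix.SpecialLinearGroup (Fin (n + 2)) K →* ↥(D.group K)} {s : Fin (n + 2) → Fin (n + 2) → K}
  (hs : ∀ a b, s a b ≠ 0)
  (hφ : ∀ a b (hab : a ≠ b) c, φ (Matrix.SpecialLinearGroup.transvection hab c) = xc hp (vec D l (r a b)) (s a b * c))

include TB hs hφ

theorem UJ_le : UJ M.toCoxeterSystem hp.isCartan (XX D l K) {k | k ∈ J} ≤ (UT (n + 2) K).map φ :=
  RGD.Sup_le fun x hx => up_phi hp TB hs hφ x hx

theorem UNJ_le : UNJ M.toCoxeterSystem hp.isCartan (XX D l K) {k | k ∈ J} ≤ (_root_.Cfsg.Agent.H162.GaussSL.LT (n + 2) K).map φ :=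
  RGD.Sup_le fun x hx => by
    have := lo_phi hp TB hs hφ (-x) hx
    rwa [_root_.neg_neg] at this

end

theorem nf_inv {Y : Type*} [Group Y] {V : Subgroup Y} {c : Y} (h : NF V c) : NF V c⁻¹ := by
  intro x hx h1
  refine h x hx ?_
  rw [inv_inv] at h1
  calc c * x * c⁻¹ = c * (c⁻¹ * x * c) * c⁻¹ := by rw [h1]
    _ = x := by group

/-- one class in the block -/
structure OneClass {D : ChevalleyDatum} {l : ℕ} {M : CoxeterMatrix (Fin l)} (hp : IsType D l M) (K : Type u) [Field K]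
    (J : List (Fin l)) {N : ℕ} (φ : Matrix.SpecialLinearGroup (Fin N) K →* ↥(D.group K))
    (c₀ : Matrix.SpecialLinearGroup (Fin N) K) : Prop where
  mf : ∀ L ∈ _root_.Cfsg.Agent.H162.GaussSL.LT N K, ∀ U ∈ UT N K, ∃ g h : Matrix.SpecialLinearGroup (Fin N) K,
    L * U = (g * c₀ * g⁻¹) * (h * c₀⁻¹ * h⁻¹)
  nf : ∀ g : Matrix.SpecialLinearGroup (Fin N) K,
    NF (VJ M.toCoxeterSystem hp.isCartan (XX D l K) {k | k ∈ J}) (φ (g * c₀ * g⁻¹))
  nfN : ∀ g : Matrix.SpecialLinearGroup (Fin N) K,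
    NF (VNJ M.toCoxeterSystem hp.isCartan (XX D l K) {k | k ∈ J}) (φ (g * c₀ * g⁻¹))

section

variable {D : ChevalleyDatum} {l : ℕ} {M : CoxeterMatrix (Fin l)} (hp : IsType D l M) {K : Type u} [Field K] [Finite K]
  (hl : 0 < l) (hG : IsSimpleGroup ↥(D.group K) ∧ ¬ IsMulCommutative ↥(D.group K))
  (hM : ∀ J : Finset (Fin l), J = ∅ ∨ J = Finset.univ ∨ ∃ a ∈ J, ∃ b, b ∉ J ∧ M a b ≠ 2)
  {J : List (Fin l)} {e : Fin l → ℤ} {ω : List (Fin l)} {n : ℕ} {r : Fin (n + 2) → Fin (n + 2) → ℕ}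
  (TB : TabB D l J e ω n r)
  {φ : Matrix.SpecialLinearGroup (Fin (n + 2)) K →* ↥(D.group K)} {s : Fin (n + 2) → Fin (n + 2) → K}
  (hs : ∀ a b, s a b ≠ 0)
  (hφ : ∀ a b (hab : a ≠ b) c, φ (Matrix.SpecialLinearGroup.transvection hab c) = xc hp (vec D l (r a b)) (s a b * c))
  {c₀ : Matrix.SpecialLinearGroup (Fin (n + 2)) K} (hc : OneClass hp K J φ c₀)

include TB hs hφ hc in
/-- the pairs of the Levi subgroup -/
theorem levi_pairs {v : ↥(D.group K)} (hv : v ∈ UNJ M.toCoxeterSystem hp.isCartan (XX D l K) {k | k ∈ J})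
    {w : ↥(D.group K)} (hw : w ∈ UJ M.toCoxeterSystem hp.isCartan (XX D l K) {k | k ∈ J}) :
    ∃ g h : Matrix.SpecialLinearGroup (Fin (n + 2)) K,
      v * w = φ (g * c₀ * g⁻¹) * φ (h * c₀⁻¹ * h⁻¹) ∧
      LP M.toCoxeterSystem hp.isCartan (TT D K) (XX D l K) {k | k ∈ J} (φ (g * c₀ * g⁻¹)) (φ (h * c₀⁻¹ * h⁻¹)) := by
  obtain ⟨L, hL, rfl⟩ := UNJ_le hp TB hs hφ hv
  obtain ⟨U, hU, rfl⟩ := UJ_le hp TB hs hφ hw
  obtain ⟨g, h, e1⟩ := hc.mf L hL U hU
  refine ⟨g, h, by rw [← map_mul, ← map_mul, e1], phi_mem hp TB hφ _, phi_mem hp TB hφ _, hc.nfN g, ?_⟩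
  have h1 : h * c₀⁻¹ * h⁻¹ = (h * c₀ * h⁻¹)⁻¹ := by group
  rw [h1, map_inv]
  exact nf_inv (hc.nf h)

include hp in
theorem one_of_core (hl : 0 < l) (hG : IsSimpleGroup ↥(D.group K)) {g : ↥(D.group K)}
    (hg : g ∈ (RGD.B M.toCoxeterSystem hp.isCartan (TT D K) (XX D l K)).normalCore) : g = 1 := by
  obtain ⟨p, hpc⟩ := CharP.exists K
  have := Fintype.ofFinite K
  have : Fact p.Prime := ⟨(CharP.char_is_prime_or_zero K p).resolve_right (CharP.char_ne_zero_of_finite K p)⟩
  have := finite_W hp M.toCoxeterSystem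
  have : Nonempty (Fin l) := ⟨⟨0, hl⟩⟩
  have R := rgd (K := K) hp M.toCoxeterSystem p
  have h1 := core_le_ker R (MonoidHom.id ↥(D.group K)) Function.surjective_id (fun x hx => by
    rw [MonoidHom.mem_ker] at hx
    change x = 1 at hx
    rw [hx]
    exact one_mem _) hg
  rw [MonoidHom.mem_ker] at h1
  exact h1

include hl hG hM TB hs hφ hc in
/-- **Every element is a commutator.** -/
theorem allC_of_blk : AllC ↥(D.group K) := by
  intro g
  obtain ⟨p, hpc⟩ := CharP.exists K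
  have := Fintype.ofFinite K
  have : Fact p.Prime := ⟨(CharP.char_is_prime_or_zero K p).resolve_right (CharP.char_ne_zero_of_finite K p)⟩
  have := finite_W hp M.toCoxeterSystem
  have : Nonempty (Fin l) := ⟨⟨0, hl⟩⟩
  by_cases hg : g ∈ (RGD.B M.toCoxeterSystem hp.isCartan (TT D K) (XX D l K)).normalCore
  · rw [one_of_core hp hl hG.1 hg]
    exact Cfsg.Agent.H777.Ore.isC_one
  · refine Cfsg.Agent.H928.Ore.Frame.comm (rgd (K := K) hp M.toCoxeterSystem p) (G1_eq_top hp _) (coord hp)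
      (Cfsg.Agent.Nodes.ChevChart.irr_of hM) (J := {k | k ∈ J}) (fun v hv w hw => ?_) hg
    obtain ⟨x, y, h1, h2⟩ := levi_pairs hp TB hs hφ hc hv hw
    refine ⟨_, _, h1, h2, φ (y * x⁻¹), ?_⟩
    rw [← map_inv, ← map_mul, ← map_inv, ← map_mul]
    congr 1
    group

include hl hG hM TB hs hφ hc in
/-- **Every element is a product of four elements of square one.** -/
theorem inv4_of_blk (hr : ∃ t : ↥(D.group K), t * t = 1 ∧ t * φ c₀ * t⁻¹ = (φ c₀)⁻¹) : Inv4 ↥(D.group K) := by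
  intro g
  obtain ⟨p, hpc⟩ := CharP.exists K
  have := Fintype.ofFinite K
  have : Fact p.Prime := ⟨(CharP.char_is_prime_or_zero K p).resolve_right (CharP.char_ne_zero_of_finite K p)⟩
  have := finite_W hp M.toCoxeterSystem
  have : Nonempty (Fin l) := ⟨⟨0, hl⟩⟩
  by_cases hg : g ∈ (RGD.B M.toCoxeterSystem hp.isCartan (TT D K) (XX D l K)).normalCore
  · rw [one_of_core hp hl hG.1 hg]
    exact ⟨1, 1, 1, 1, by simp⟩
  · obtain ⟨t, ht, htc⟩ := hr
    have key : ∀ c x : ↥(D.group K), t * c * t⁻¹ = c⁻¹ →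
        ∃ a b : ↥(D.group K), a ^ 2 = 1 ∧ b ^ 2 = 1 ∧ x * c * x⁻¹ = a * b := by
      intro c x hc'
      have h0 : t⁻¹ = t := inv_eq_of_mul_eq_one_left ht
      rw [h0] at hc'
      have h1 : (t * c) * (t * c) = 1 := by
        calc (t * c) * (t * c) = (t * c * t) * c := by group
          _ = 1 := by rw [hc', inv_mul_cancel]
      refine ⟨x * t * x⁻¹, x * (t * c) * x⁻¹, ?_, ?_, ?_⟩
      · rw [conj_pow, pow_two, ht, mul_one, mul_inv_cancel]
      · rw [conj_pow, pow_two, h1, mul_one, mul_inv_cancel]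
      · calc x * c * x⁻¹ = x * 1 * c * x⁻¹ := by group
          _ = _ := by rw [← ht]; group
    obtain ⟨a, b, c, d, h1, h2, h3, h4, h5⟩ := Cfsg.Agent.H928.Ore.Frame.four (rgd (K := K) hp M.toCoxeterSystem p)
      (G1_eq_top hp _) (coord hp) (Cfsg.Agent.Nodes.ChevChart.irr_of hM) (J := {k | k ∈ J}) (fun v hv w hw => by
        obtain ⟨x, y, h1, h2⟩ := levi_pairs hp TB hs hφ hc hv hw
        refine ⟨_, _, h1, h2, ?_, ?_⟩
        · have h3 := key (φ c₀) (φ x) htc
          rwa [← map_inv, ← map_mul, ← map_mul] at h3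
        · have h3 := key (φ c₀)⁻¹ (φ y) (by rw [inv_inv]; calc
            t * (φ c₀)⁻¹ * t⁻¹ = (t * φ c₀ * t⁻¹)⁻¹ := by group
            _ = φ c₀ := by rw [htc, inv_inv])
          rwa [← map_inv, ← map_inv, ← map_mul, ← map_mul] at h3) hg
    exact ⟨a, b, c, d, by rw [← pow_two, h1], by rw [← pow_two, h2], by rw [← pow_two, h3], by rw [← pow_two, h4], h5⟩

end

end Cfsg.Agent.H85.Ore
end

-- part: H482/Ore/Block
section
/-!
# Fixed points of `s₀ φ(X)` on the unipotent radicals (S2443, S4171)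

* `nf_gen` : an element of `D.group K` conjugate by an element of the Levi subgroup over `K'` to an element of the torus
  with nontrivial characters outside `J`;
* `Bk` : the data of a block of type `A_{n+1}` over `K` and `K'`;
* `Bk.conj` : `φ(X)` becomes an element of the torus over `K'`;
* `Dz` : products of commuting blocks and elements of the torus (`Dz.torus`, `Bk.dz`, `Dz.mul`, `Dz.nf`);
* `nf_block`, `nf_block'` : the fixed points of `s₀ φ(X)` and `φ(X)`.
-/

set_option autoImplicit false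
set_option linter.unusedSectionVars false

namespace Cfsg.Agent.H482.Ore.Fix

open CoxeterSystem Cfsg.Agent.ChevalleyStructure.CoxeterGeom Cfsg.Agent.Tits.Roots Cfsg.Agent.Tits.Core
  Cfsg.Agent.Nodes.Reps Cfsg.Agent.Nodes.BNOf Cfsg.Agent.Nodes.RGDLib Cfsg.Agent.Nodes.Bruhat
  Cfsg.Agent.Nodes.OppDec Cfsg.Agent.Nodes.LeviDec Cfsg.Agent.Nodes.KindChev Cfsg.Agent.Nodes.ChevCls
  Cfsg.Agent.OddHalf.NI.Mult Cfsg.Agent.OddHalf.NI.ModelChev
  Cfsg.Agent.H162.GaussDec Cfsg.Agent.H162.GaussLevi Cfsg.Agent.H162.GaussSL Cfsg.Agent.H162.GaussReg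
  Cfsg.Agent.H162.GaussMain Cfsg.Agent.H162.GaussPQ Cfsg.Agent.H162.GaussExc
open Cfsg.Lie Cfsg.Agent.ChevalleyStructure Cfsg.Agent.ChevalleyStructure.Elts
  Cfsg.Agent.ChevalleyStructure.RootVec Cfsg.Agent.ChevalleyStructure.NPerm
  Cfsg.Agent.ChevalleyStructure.CoxeterGeomTypes Cfsg.Agent.Nodes.RGDChev Cfsg.Agent.KFacts.RgdChevCoord
open Cfsg.Agent.H928.Ore.Frame Matrix

universe u v

variable {D : ChevalleyDatum} {l : ℕ} {M : CoxeterMatrix (Fin l)} (hp : IsType D l M)

section gen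

variable {K : Type u} {K' : Type v} [Field K] [Field K']

/-- **Fixed points by base change.** -/
theorem nf_gen [Finite K'] (p : ℕ) [Fact p.Prime] [CharP K' p] (f : K →+* K') {J : Set (Fin l)}
    {c : ↥(D.group K)} {y t : ↥(D.group K')} (hy : y ∈ LJ M.toCoxeterSystem hp.isCartan (TT D K') (XX D l K') J)
    (hyt : y * bc D f c * y⁻¹ = t) (ht : t ∈ TT D K')
    (hout : ∀ q < D.nroots, (∃ k, k ∉ J ∧ _root_.Cfsg.Agent.Nodes.RGDChev.vec D l q k ≠ 0) → ch hp (_root_.Cfsg.Agent.Nodes.RGDChev.vec D l q) t ≠ 1) :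
    NF (VJ M.toCoxeterSystem hp.isCartan (XX D l K) J) c ∧ NF (VNJ M.toCoxeterSystem hp.isCartan (XX D l K) J) c := by
  obtain ⟨h1, h2⟩ := nf_torus hp p ht hout
  have := finite_W hp M.toCoxeterSystem
  have R := rgd (K := K') hp M.toCoxeterSystem p
  rw [← hyt] at h1 h2
  exact ⟨nf_of_bc hp f (NF.of_conj (LJ_le_normalizer_VJ R J hy) h1),
    nfn_of_bc hp f (NF.of_conj (LJ_le_normalizer_VNJ R J hy) h2)⟩

theorem ch_mul {q : ℕ} (hq : q < D.nroots) {a b : ↥(D.group K)} (ha : a ∈ TT D K) (hb : b ∈ TT D K) :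
    ch hp (_root_.Cfsg.Agent.Nodes.RGDChev.vec D l q) (a * b) = ch hp (_root_.Cfsg.Agent.Nodes.RGDChev.vec D l q) a * ch hp (_root_.Cfsg.Agent.Nodes.RGDChev.vec D l q) b := by
  have h5 := map_mul (chH hp (K := K) hq) ⟨_, ha⟩ ⟨_, hb⟩
  exact h5

end gen

/-- a block of type `A_{n+1}` with its simple roots and the homomorphisms over `K` and `K'` -/
structure Bk {D : ChevalleyDatum} {l : ℕ} {M : CoxeterMatrix (Fin l)} (hp : IsType D l M) {K : Type u} {K' : Type v}
    [Field K] [Field K'] (f : K →+* K') (J : Set (Fin l)) (n : ℕ) (r : Fin (n + 2) → Fin (n + 2) → ℕ)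
    (j : Fin (n + 1) → Fin l) (φ : _root_.Matrix.SpecialLinearGroup (Fin (n + 2)) K →* ↥(D.group K))
    (φ' : _root_.Matrix.SpecialLinearGroup (Fin (n + 2)) K' →* ↥(D.group K')) (s : Fin (n + 2) → Fin (n + 2) → K) : Prop where
  simp : SimpB D l n r j
  rlt : ∀ a b, a ≠ b → r a b < D.nroots
  rJ : ∀ a b, a ≠ b → ∀ k, k ∉ J → _root_.Cfsg.Agent.Nodes.RGDChev.vec D l (r a b) k = 0
  hφ : ∀ a b (hab : a ≠ b) c, φ (SpecialLinearGroup.transvection hab c) = xc hp (_root_.Cfsg.Agent.Nodes.RGDChev.vec D l (r a b)) (s a b * c)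
  hφ' : ∀ a b (hab : a ≠ b) c, φ' (SpecialLinearGroup.transvection hab c) = xc hp (_root_.Cfsg.Agent.Nodes.RGDChev.vec D l (r a b)) (f (s a b) * c)
  ss : ∀ a : Fin (n + 1), s a.castSucc a.succ * s a.succ a.castSucc = 1

section blk

variable {K : Type u} {K' : Type v} [Field K] [Field K'] {f : K →+* K'} {J : Set (Fin l)} {n : ℕ}
  {r : Fin (n + 2) → Fin (n + 2) → ℕ} {j : Fin (n + 1) → Fin l}
  {φ : _root_.Matrix.SpecialLinearGroup (Fin (n + 2)) K →* ↥(D.group K)}
  {φ' : _root_.Matrix.SpecialLinearGroup (Fin (n + 2)) K' →* ↥(D.group K')} {s : Fin (n + 2) → Fin (n + 2) → K}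
  (B : Bk hp f J n r j φ φ' s)

include B

theorem Bk.bc_phi (X : _root_.Matrix.SpecialLinearGroup (Fin (n + 2)) K) :
    bc D f (φ X) = φ' (SpecialLinearGroup.map f X) := by
  have h1 : (bc D f).comp φ = φ'.comp (SpecialLinearGroup.map f) := by
    refine hom_ext fun a b hab c => ?_
    change bc D f (φ _) = φ' (SpecialLinearGroup.map f _)
    have h2 : SpecialLinearGroup.map f (SpecialLinearGroup.transvection hab c) =
        SpecialLinearGroup.transvection hab (f c) := by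
      apply Subtype.ext
      change ((1 : Matrix (Fin (n + 2)) (Fin (n + 2)) K) + single a b c).map f = 1 + single a b (f c)
      rw [Matrix.map_add f (map_add f), Matrix.map_one f (map_zero f) (map_one f), Matrix.map_single]
    rw [h2, B.hφ, B.hφ', bc_xc hp f (B.rlt a b hab), map_mul]
  exact DFunLike.congr_fun h1 X

theorem Bk.comm {t : ↥(D.group K')} (ht : t ∈ TT D K') (h1 : ∀ a b, a ≠ b → ch hp (_root_.Cfsg.Agent.Nodes.RGDChev.vec D l (r a b)) t = 1)
    (A : _root_.Matrix.SpecialLinearGroup (Fin (n + 2)) K') : t * φ' A = φ' A * t := by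
  have h2 : (MulAut.conj t).toMonoidHom.comp φ' = φ' := by
    refine hom_ext fun a b hab c => ?_
    change t * φ' _ * t⁻¹ = φ' _
    rw [B.hφ', (act hp (B.rlt a b hab) ht).2, h1 a b hab, one_mul]
  have h3 := DFunLike.congr_fun h2 A
  change t * φ' A * t⁻¹ = φ' A at h3
  calc t * φ' A = (t * φ' A * t⁻¹) * t := by group
    _ = φ' A * t := by rw [h3]

theorem Bk.mem (A : _root_.Matrix.SpecialLinearGroup (Fin (n + 2)) K') :
    φ' A ∈ LJ M.toCoxeterSystem hp.isCartan (TT D K') (XX D l K') J := by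
  have h1 : (⊤ : Subgroup (_root_.Matrix.SpecialLinearGroup (Fin (n + 2)) K')) ≤
      (LJ M.toCoxeterSystem hp.isCartan (TT D K') (XX D l K') J).comap φ' := by
    rw [← Cfsg.Agent.LieClassical.SLGen.closure_transvections, Subgroup.closure_le]
    rintro _ ⟨a, b, hab, c, rfl⟩
    change φ' _ ∈ LJ M.toCoxeterSystem hp.isCartan (TT D K') (XX D l K') J
    rw [B.hφ']
    refine X_le_LJ (J := J) (x := _root_.Cfsg.Agent.Nodes.RGDChev.vec D l (r a b)) ⟨isRoot_vec hp _ (B.rlt a b hab), B.rJ a b hab⟩ ?_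
    exact (mem_XX hp (B.rlt a b hab) _).2 ⟨_, rfl⟩
  exact h1 (Subgroup.mem_top A)

/-- the diagonal matrix -/
theorem Bk.diag {lam : Fin (n + 2) → K'} (hl : ∏ b, lam b = 1) :
    φ' (dgl lam hl) ∈ TT D K' ∧ ∀ q, (hq : q < D.nroots) → ch hp (_root_.Cfsg.Agent.Nodes.RGDChev.vec D l q) (φ' (dgl lam hl)) =
      ∏ b, lam b ^ wt D j q b := by
  have h0 : ∀ b, lam b ≠ 0 := by
    intro b hb
    rw [Finset.prod_eq_zero (Finset.mem_univ b) hb] at hl
    exact zero_ne_one hl
  have h1 : ∏ b, (Units.mk0 (lam b) (h0 b)) = 1 := by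
    apply Units.ext
    rw [Units.coe_prod, Units.val_one, ← hl]
    rfl
  have h2 := phi_diag hp B.simp (φ := φ') (s := fun a b => f (s a b)) B.hφ'
    (fun a => by rw [← map_mul, B.ss a, map_one]) (fun b => Units.mk0 (lam b) (h0 b)) h1
  exact h2

/-- `φ(X)` becomes an element of the torus over `K'` -/
theorem Bk.conj {X : _root_.Matrix.SpecialLinearGroup (Fin (n + 2)) K} {lam : Fin (n + 2) → K'} {g : GL (Fin (n + 2)) K'}
    (hX : (X : Matrix (Fin (n + 2)) (Fin (n + 2)) K).map f = (g : Matrix (Fin (n + 2)) (Fin (n + 2)) K') *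
      diagonal lam * ((g⁻¹ : GL (Fin (n + 2)) K') : Matrix (Fin (n + 2)) (Fin (n + 2)) K')) :
    ∃ (hl : ∏ b, lam b = 1) (A : _root_.Matrix.SpecialLinearGroup (Fin (n + 2)) K'),
      φ' A * bc D f (φ X) * (φ' A)⁻¹ = φ' (dgl lam hl) := by
  have hl : ∏ b, lam b = 1 := by
    have h1 := congrArg Matrix.det hX
    have h2 : ((X : Matrix (Fin (n + 2)) (Fin (n + 2)) K).map f).det = 1 := (SpecialLinearGroup.map f X).2
    have h3 : (g : Matrix (Fin (n + 2)) (Fin (n + 2)) K').det *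
        ((g⁻¹ : GL (Fin (n + 2)) K') : Matrix (Fin (n + 2)) (Fin (n + 2)) K').det = 1 := by
      rw [← det_mul, ← Units.val_mul, mul_inv_cancel, Units.val_one, det_one]
    rw [h2, det_mul, det_mul, det_diagonal, mul_right_comm, h3, one_mul] at h1
    exact h1.symm
  obtain ⟨d, A, hA⟩ := exists_dd g⁻¹
  refine ⟨hl, A, ?_⟩
  rw [B.bc_phi, ← map_inv, ← map_mul, ← map_mul]
  congr 1
  -- the conjugate
  have h1 : (A : GL (Fin (n + 2)) K') = (dd (n + 1) d)⁻¹ * g⁻¹ := by rw [hA]; group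
  have h2 : ((A : GL (Fin (n + 2)) K'))⁻¹ = g * dd (n + 1) d := by rw [h1]; group
  have h3 : (A : GL (Fin (n + 2)) K').1 = ((dd (n + 1) d)⁻¹ : GL (Fin (n + 2)) K').1 * (g⁻¹ : GL (Fin (n + 2)) K').1 := by
    rw [h1]; rfl
  have h4 : (((A : GL (Fin (n + 2)) K'))⁻¹ : GL (Fin (n + 2)) K').1 = g.1 * (dd (n + 1) d).1 := by
    rw [h2]; rfl
  have h5 : (g⁻¹ : GL (Fin (n + 2)) K').1 * g.1 = 1 := by rw [← Units.val_mul, inv_mul_cancel, Units.val_one]
  have h6 : ((dd (n + 1) d)⁻¹ : GL (Fin (n + 2)) K').1 * (diagonal lam * (dd (n + 1) d).1) = diagonal lam := by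
    change diagonal _ * (diagonal _ * diagonal _) = _
    rw [diagonal_mul_diagonal, diagonal_mul_diagonal]
    congr 1
    funext i
    by_cases h : i = 0 <;> simp only [h, ↓ _root_.reduceIte, _root_.Units.val_inv_eq_inv_val, _root_.mul_one, _root_.one_mul]
    field_simp
  apply Subtype.ext
  change A.1 * (X : Matrix (Fin (n + 2)) (Fin (n + 2)) K).map f * (A⁻¹).1 = diagonal lam
  rw [hX]
  have h7 : (A⁻¹).1 = (((A : GL (Fin (n + 2)) K'))⁻¹ : GL (Fin (n + 2)) K').1 := rfl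
  have h8 : A.1 = (A : GL (Fin (n + 2)) K').1 := rfl
  rw [h7, h8, h3, h4]
  calc _ = ((dd (n + 1) d)⁻¹ : GL (Fin (n + 2)) K').1 * ((g⁻¹ : GL (Fin (n + 2)) K').1 * g.1) *
        diagonal lam * ((g⁻¹ : GL (Fin (n + 2)) K').1 * g.1) * (dd (n + 1) d).1 := by
          simp only [Matrix.mul_assoc]
    _ = diagonal lam := by rw [h5, Matrix.mul_one, Matrix.mul_one, Matrix.mul_assoc, h6]

end blk

/-! ### Products of commuting blocks -/

section dz

variable {K : Type u} {K' : Type v} [Field K] [Field K']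

/-- `c` becomes an element of the torus over `K'`, with characters `χ`; everything in the subgroup `R` -/
structure Dz {D : ChevalleyDatum} {l : ℕ} {M : CoxeterMatrix (Fin l)} (hp : IsType D l M) {K : Type u} {K' : Type v}
    [Field K] [Field K'] (f : K →+* K') (J : Set (Fin l)) (R : Subgroup ↥(D.group K')) (c : ↥(D.group K))
    (χ : ℕ → K') : Prop where
  mem : bc D f c ∈ R
  ex : ∃ y ∈ R, y ∈ LJ M.toCoxeterSystem hp.isCartan (TT D K') (XX D l K') J ∧ y * bc D f c * y⁻¹ ∈ TT D K' ∧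
    ∀ q < D.nroots, ch hp (_root_.Cfsg.Agent.Nodes.RGDChev.vec D l q) (y * bc D f c * y⁻¹) = χ q

variable {f : K →+* K'} {J : Set (Fin l)}

theorem Dz.nf [Finite K'] (p : ℕ) [Fact p.Prime] [CharP K' p] {R : Subgroup ↥(D.group K')} {c : ↥(D.group K)}
    {χ : ℕ → K'} (h : Dz hp f J R c χ) (hout : ∀ q < D.nroots, (∃ k, k ∉ J ∧ _root_.Cfsg.Agent.Nodes.RGDChev.vec D l q k ≠ 0) → χ q ≠ 1) :
    NF (VJ M.toCoxeterSystem hp.isCartan (XX D l K) J) c ∧ NF (VNJ M.toCoxeterSystem hp.isCartan (XX D l K) J) c := by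
  obtain ⟨y, -, hy, ht, hch⟩ := h.ex
  refine nf_gen hp p f hy rfl ht fun q hq hk => ?_
  rw [hch q hq]
  exact hout q hq hk

theorem Dz.mul {R₁ R₂ : Subgroup ↥(D.group K')} {c₁ c₂ : ↥(D.group K)} {χ₁ χ₂ : ℕ → K'} (h₁ : Dz hp f J R₁ c₁ χ₁)
    (h₂ : Dz hp f J R₂ c₂ χ₂) (hc : ∀ x ∈ R₁, ∀ y ∈ R₂, x * y = y * x) :
    Dz hp f J (R₁ ⊔ R₂) (c₁ * c₂) (fun q => χ₁ q * χ₂ q) where
  mem := by
    rw [map_mul]
    exact mul_mem (Subgroup.mem_sup_left h₁.mem) (Subgroup.mem_sup_right h₂.mem)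
  ex := by
    obtain ⟨y₁, hy₁, hL₁, ht₁, hch₁⟩ := h₁.ex
    obtain ⟨y₂, hy₂, hL₂, ht₂, hch₂⟩ := h₂.ex
    have e : y₁ * y₂ * bc D f (c₁ * c₂) * (y₁ * y₂)⁻¹ = (y₁ * bc D f c₁ * y₁⁻¹) * (y₂ * bc D f c₂ * y₂⁻¹) := by
      have e1 := hc _ h₁.mem _ hy₂
      have e2 := hc _ hy₁ _ (mul_mem (mul_mem hy₂ h₂.mem) (inv_mem hy₂))
      rw [map_mul]
      calc y₁ * y₂ * (bc D f c₁ * bc D f c₂) * (y₁ * y₂)⁻¹
          = y₁ * (y₂ * bc D f c₁) * bc D f c₂ * y₂⁻¹ * y₁⁻¹ := by group
        _ = y₁ * bc D f c₁ * y₁⁻¹ * (y₁ * (y₂ * bc D f c₂ * y₂⁻¹)) * y₁⁻¹ := by rw [← e1]; group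
        _ = _ := by rw [e2]; group
    refine ⟨y₁ * y₂, mul_mem (Subgroup.mem_sup_left hy₁) (Subgroup.mem_sup_right hy₂), mul_mem hL₁ hL₂, ?_, ?_⟩
    · rw [e]
      exact mul_mem ht₁ ht₂
    · intro q hq
      rw [e, ch_mul hp hq ht₁ ht₂, hch₁ q hq, hch₂ q hq]

/-- an element of the torus -/
theorem Dz.torus {s₀ : ↥(D.group K)} (h0 : s₀ ∈ TT D K) :
    Dz hp f J (Subgroup.zpowers (bc D f s₀)) s₀ (fun q => f (ch hp (_root_.Cfsg.Agent.Nodes.RGDChev.vec D l q) s₀)) where
  mem := Subgroup.mem_zpowers _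
  ex := by
    refine ⟨1, one_mem _, one_mem _, ?_, fun q hq => ?_⟩
    · rw [one_mul, inv_one, mul_one]
      exact bc_TT hp f h0
    · rw [one_mul, inv_one, mul_one]
      exact ch_bc hp f hq h0

/-- one block -/
theorem Bk.dz {n : ℕ} {r : Fin (n + 2) → Fin (n + 2) → ℕ} {j : Fin (n + 1) → Fin l}
    {φ : _root_.Matrix.SpecialLinearGroup (Fin (n + 2)) K →* ↥(D.group K)}
    {φ' : _root_.Matrix.SpecialLinearGroup (Fin (n + 2)) K' →* ↥(D.group K')} {s : Fin (n + 2) → Fin (n + 2) → K}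
    (B : Bk hp f J n r j φ φ' s) {X : _root_.Matrix.SpecialLinearGroup (Fin (n + 2)) K} {lam : Fin (n + 2) → K'}
    {g : GL (Fin (n + 2)) K'}
    (hX : (X : Matrix (Fin (n + 2)) (Fin (n + 2)) K).map f = (g : Matrix (Fin (n + 2)) (Fin (n + 2)) K') *
      diagonal lam * ((g⁻¹ : GL (Fin (n + 2)) K') : Matrix (Fin (n + 2)) (Fin (n + 2)) K')) :
    Dz hp f J φ'.range (φ X) (fun q => ∏ b, lam b ^ wt D j q b) where
  mem := by
    rw [B.bc_phi]
    exact ⟨_, rfl⟩
  ex := by
    obtain ⟨hl, A, hA⟩ := B.conj hp hX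
    obtain ⟨h1, h2⟩ := B.diag hp hl
    refine ⟨φ' A, ⟨A, rfl⟩, B.mem hp A, ?_, ?_⟩
    · rw [hA]; exact h1
    · rw [hA]; exact h2

/-- the torus commutes with a block -/
theorem Bk.comm_range {n : ℕ} {r : Fin (n + 2) → Fin (n + 2) → ℕ} {j : Fin (n + 1) → Fin l}
    {φ : _root_.Matrix.SpecialLinearGroup (Fin (n + 2)) K →* ↥(D.group K)}
    {φ' : _root_.Matrix.SpecialLinearGroup (Fin (n + 2)) K' →* ↥(D.group K')} {s : Fin (n + 2) → Fin (n + 2) → K}
    (B : Bk hp f J n r j φ φ' s) {s₀ : ↥(D.group K)} (h0 : s₀ ∈ TT D K)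
    (h1 : ∀ a b, a ≠ b → ch hp (_root_.Cfsg.Agent.Nodes.RGDChev.vec D l (r a b)) s₀ = 1) :
    ∀ x ∈ Subgroup.zpowers (bc D f s₀), ∀ y ∈ φ'.range, x * y = y * x := by
  rintro _ ⟨k, rfl⟩ _ ⟨A, rfl⟩
  have h2 := B.comm hp (bc_TT hp f h0) (fun a b hab => by rw [ch_bc hp f (B.rlt a b hab) h0, h1 a b hab, map_one]) A
  exact (Commute.zpow_left (show Commute _ _ from h2) k)

/-- two blocks with commuting root subgroups -/
theorem Bk.comm_range₂ {n : ℕ} {r : Fin (n + 2) → Fin (n + 2) → ℕ} {j : Fin (n + 1) → Fin l}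
    {φ : _root_.Matrix.SpecialLinearGroup (Fin (n + 2)) K →* ↥(D.group K)}
    {φ' : _root_.Matrix.SpecialLinearGroup (Fin (n + 2)) K' →* ↥(D.group K')} {s : Fin (n + 2) → Fin (n + 2) → K}
    (B : Bk hp f J n r j φ φ' s)
    {n₂ : ℕ} {r₂ : Fin (n₂ + 2) → Fin (n₂ + 2) → ℕ} {j₂ : Fin (n₂ + 1) → Fin l}
    {φ₂ : _root_.Matrix.SpecialLinearGroup (Fin (n₂ + 2)) K →* ↥(D.group K)}
    {φ₂' : _root_.Matrix.SpecialLinearGroup (Fin (n₂ + 2)) K' →* ↥(D.group K')} {s₂ : Fin (n₂ + 2) → Fin (n₂ + 2) → K}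
    (B₂ : Bk hp f J n₂ r₂ j₂ φ₂ φ₂' s₂)
    (hc : ∀ a b, a ≠ b → ∀ c d, c ≠ d → ∀ x y : K',
      xc hp (_root_.Cfsg.Agent.Nodes.RGDChev.vec D l (r a b)) x * xc hp (_root_.Cfsg.Agent.Nodes.RGDChev.vec D l (r₂ c d)) y = xc hp (_root_.Cfsg.Agent.Nodes.RGDChev.vec D l (r₂ c d)) y * xc hp (_root_.Cfsg.Agent.Nodes.RGDChev.vec D l (r a b)) x) :
    ∀ x ∈ φ'.range, ∀ y ∈ φ₂'.range, x * y = y * x := by
  have h1 : ∀ a b (hab : a ≠ b) (x : K') (A : _root_.Matrix.SpecialLinearGroup (Fin (n₂ + 2)) K'),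
      xc hp (_root_.Cfsg.Agent.Nodes.RGDChev.vec D l (r a b)) x * φ₂' A = φ₂' A * xc hp (_root_.Cfsg.Agent.Nodes.RGDChev.vec D l (r a b)) x := by
    intro a b hab x A
    have h2 : (MulAut.conj (xc hp (_root_.Cfsg.Agent.Nodes.RGDChev.vec D l (r a b)) x)).toMonoidHom.comp φ₂' = φ₂' := by
      refine hom_ext fun c d hcd y => ?_
      change xc hp (_root_.Cfsg.Agent.Nodes.RGDChev.vec D l (r a b)) x * φ₂' _ * (xc hp (_root_.Cfsg.Agent.Nodes.RGDChev.vec D l (r a b)) x)⁻¹ = φ₂' _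
      rw [B₂.hφ', hc a b hab c d hcd, mul_inv_cancel_right]
    have h3 := DFunLike.congr_fun h2 A
    change xc hp (_root_.Cfsg.Agent.Nodes.RGDChev.vec D l (r a b)) x * φ₂' A * (xc hp (_root_.Cfsg.Agent.Nodes.RGDChev.vec D l (r a b)) x)⁻¹ = φ₂' A at h3
    rw [← h3]
    rw [h3]
    exact mul_inv_eq_iff_eq_mul.1 h3
  rintro _ ⟨A₁, rfl⟩ _ ⟨A, rfl⟩
  have h2 : (MulAut.conj (φ₂' A)).toMonoidHom.comp φ' = φ' := by
    refine hom_ext fun a b hab y => ?_
    change φ₂' A * φ' _ * (φ₂' A)⁻¹ = φ' _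
    rw [B.hφ', ← h1 a b hab, mul_inv_cancel_right]
  have h3 := DFunLike.congr_fun h2 A₁
  change φ₂' A * φ' A₁ * (φ₂' A)⁻¹ = φ' A₁ at h3
  exact (mul_inv_eq_iff_eq_mul.1 h3).symm

omit hp in
theorem comm_sup {Y : Type*} [Group Y] {R₁ R₂ R₃ : Subgroup Y} (h₁ : ∀ x ∈ R₁, ∀ y ∈ R₃, x * y = y * x)
    (h₂ : ∀ x ∈ R₂, ∀ y ∈ R₃, x * y = y * x) : ∀ x ∈ R₁ ⊔ R₂, ∀ y ∈ R₃, x * y = y * x := by
  have h3 : R₁ ⊔ R₂ ≤ Subgroup.centralizer (R₃ : Set Y) := by
    refine sup_le (fun x hx => ?_) fun x hx => ?_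
    · rw [Subgroup.mem_centralizer_iff]
      exact fun y hy => (h₁ x hx y hy).symm
    · rw [Subgroup.mem_centralizer_iff]
      exact fun y hy => (h₂ x hx y hy).symm
  intro x hx y hy
  exact (Subgroup.mem_centralizer_iff.1 (h3 hx) y hy).symm

/-- **Fixed points of `s₀ φ(X)`.** -/
theorem nf_block [Finite K'] (p : ℕ) [Fact p.Prime] [CharP K' p] {n : ℕ} {r : Fin (n + 2) → Fin (n + 2) → ℕ}
    {j : Fin (n + 1) → Fin l} {φ : _root_.Matrix.SpecialLinearGroup (Fin (n + 2)) K →* ↥(D.group K)}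
    {φ' : _root_.Matrix.SpecialLinearGroup (Fin (n + 2)) K' →* ↥(D.group K')} {s : Fin (n + 2) → Fin (n + 2) → K}
    (B : Bk hp f J n r j φ φ' s) {s₀ : ↥(D.group K)} (h0 : s₀ ∈ TT D K)
    (h1 : ∀ a b, a ≠ b → ch hp (_root_.Cfsg.Agent.Nodes.RGDChev.vec D l (r a b)) s₀ = 1)
    {X : _root_.Matrix.SpecialLinearGroup (Fin (n + 2)) K} {lam : Fin (n + 2) → K'} {g : GL (Fin (n + 2)) K'}
    (hX : (X : Matrix (Fin (n + 2)) (Fin (n + 2)) K).map f = (g : Matrix (Fin (n + 2)) (Fin (n + 2)) K') *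
      diagonal lam * ((g⁻¹ : GL (Fin (n + 2)) K') : Matrix (Fin (n + 2)) (Fin (n + 2)) K'))
    (hout : ∀ q < D.nroots, (∃ k, k ∉ J ∧ _root_.Cfsg.Agent.Nodes.RGDChev.vec D l q k ≠ 0) →
      f (ch hp (_root_.Cfsg.Agent.Nodes.RGDChev.vec D l q) s₀) * ∏ b, lam b ^ wt D j q b ≠ 1) :
    NF (VJ M.toCoxeterSystem hp.isCartan (XX D l K) J) (s₀ * φ X) ∧
      NF (VNJ M.toCoxeterSystem hp.isCartan (XX D l K) J) (s₀ * φ X) :=
  ((Dz.torus hp h0).mul hp (B.dz hp hX) (B.comm_range hp h0 h1)).nf hp p hout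

/-- **Fixed points of `φ(X)`.** -/
theorem nf_block' [Finite K'] (p : ℕ) [Fact p.Prime] [CharP K' p] {n : ℕ} {r : Fin (n + 2) → Fin (n + 2) → ℕ}
    {j : Fin (n + 1) → Fin l} {φ : _root_.Matrix.SpecialLinearGroup (Fin (n + 2)) K →* ↥(D.group K)}
    {φ' : _root_.Matrix.SpecialLinearGroup (Fin (n + 2)) K' →* ↥(D.group K')} {s : Fin (n + 2) → Fin (n + 2) → K}
    (B : Bk hp f J n r j φ φ' s)
    {X : _root_.Matrix.SpecialLinearGroup (Fin (n + 2)) K} {lam : Fin (n + 2) → K'} {g : GL (Fin (n + 2)) K'}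
    (hX : (X : Matrix (Fin (n + 2)) (Fin (n + 2)) K).map f = (g : Matrix (Fin (n + 2)) (Fin (n + 2)) K') *
      diagonal lam * ((g⁻¹ : GL (Fin (n + 2)) K') : Matrix (Fin (n + 2)) (Fin (n + 2)) K'))
    (hout : ∀ q < D.nroots, (∃ k, k ∉ J ∧ _root_.Cfsg.Agent.Nodes.RGDChev.vec D l q k ≠ 0) → ∏ b, lam b ^ wt D j q b ≠ 1) :
    NF (VJ M.toCoxeterSystem hp.isCartan (XX D l K) J) (φ X) ∧
      NF (VNJ M.toCoxeterSystem hp.isCartan (XX D l K) J) (φ X) :=
  (B.dz hp hX).nf hp p hout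

end dz

end Cfsg.Agent.H482.Ore.Fix
end
end

-- part: H126/M3/Mat
section
prune_inst 0x2150740431c0020000180594d3203c62860000b200088800a0e0014205c1cc40a0c60861ba30150a02881c456839004811000020424000000e000400011e05811080000030000208ca009e000000000000000000000000000000000000000004200000000
set_option linter.all false
open scoped Cfsg.Agent.FastGrp

/-!
# Products of two irreducible elements of `SL_3(K)` : the unipotent cases (helper126, for S2443, S4171)

`Good l` : `l = X * Y` with `X`, `Y` of determinant one and irreducible characteristic polynomials, the characteristic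
polynomial of `Y` is that of `X` or of `X⁻¹`.
-/

set_option autoImplicit false

namespace Cfsg.Agent.H126.M3

open Matrix Polynomial

variable {K : Type*} [Field K]

/-- `l` is a product of two irreducible elements with the same or inverse characteristic polynomials -/
def Good (l : Matrix (Fin 3) (Fin 3) K) : Prop :=
  ∃ X Y : Matrix (Fin 3) (Fin 3) K, X.det = 1 ∧ Y.det = 1 ∧ l = X * Y ∧ Irreducible X.charpoly ∧
    Irreducible Y.charpoly ∧ (Y.charpoly = X.charpoly ∨ Y.charpoly = (X⁻¹).charpoly)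

theorem Good.conj {l l' R : Matrix (Fin 3) (Fin 3) K} (h : Good l') (hR : R.det ≠ 0) (hl : l * R = R * l') : Good l := by
  obtain ⟨X, Y, hX, hY, rfl, hXi, hYi, hXY⟩ := h
  have hu : IsUnit R.det := isUnit_iff_ne_zero.2 hR
  have h1 : R * R⁻¹ = 1 := Matrix.mul_nonsing_inv _ hu
  have h2 : R⁻¹ * R = 1 := Matrix.nonsing_inv_mul _ hu
  let U : (Matrix (Fin 3) (Fin 3) K)ˣ := ⟨R, R⁻¹, h1, h2⟩
  have hc : ∀ M : Matrix (Fin 3) (Fin 3) K, (R * M * R⁻¹).charpoly = M.charpoly := fun M =>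
    Matrix.charpoly_units_conj U M
  have hd : ∀ M : Matrix (Fin 3) (Fin 3) K, (R * M * R⁻¹).det = M.det := fun M => Matrix.det_units_conj U M
  have hi : (R * X * R⁻¹)⁻¹ = R * X⁻¹ * R⁻¹ := by
    rw [Matrix.mul_inv_rev, Matrix.mul_inv_rev, Matrix.nonsing_inv_nonsing_inv _ hu, mul_assoc]
  refine ⟨R * X * R⁻¹, R * Y * R⁻¹, by rw [hd, hX], by rw [hd, hY], ?_, by rw [hc]; exact hXi, by rw [hc]; exact hYi, ?_⟩
  · calc l = l * R * R⁻¹ := by rw [mul_assoc, h1, mul_one]
      _ = R * X * (R⁻¹ * R) * Y * R⁻¹ := by rw [hl, h2]; simp only [mul_assoc, one_mul]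
      _ = _ := by simp only [mul_assoc]
  · rw [hc, hc, hi, hc]
    exact hXY

/-! ### the characteristic polynomial -/

theorem charpoly_three (M : Matrix (Fin 3) (Fin 3) K) : M.charpoly = X ^ 3 - C (M 0 0 + M 1 1 + M 2 2) * X ^ 2 +
    C (M 0 0 * M 1 1 - M 0 1 * M 1 0 + (M 0 0 * M 2 2 - M 0 2 * M 2 0) + (M 1 1 * M 2 2 - M 1 2 * M 2 1)) * X -
    C M.det := by
  rw [Matrix.charpoly, Matrix.det_fin_three, Matrix.det_fin_three]
  simp only [_root_.Fin.isValue, _root_.Matrix.charmatrix_apply_eq, _root_.ne_eq, _root_.Fin.reduceEq, _root_.not_false_eq_true, _root_.Matrix.charmatrix_apply_ne, _root_.mul_neg, _root_.neg_mul, _root_.neg_neg, _root_.zero_ne_one, _root_.one_ne_zero, _root_.map_add, _root_.map_sub, _root_.map_mul]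
  ring

/-- a root is an eigenvalue -/
theorem eval_eq_zero_iff {n : ℕ} (M : Matrix (Fin n) (Fin n) K) (x : K) :
    M.charpoly.eval x = 0 ↔ ∃ v : Fin n → K, v ≠ 0 ∧ M *ᵥ v = x • v := by
  rw [Matrix.eval_charpoly, ← Matrix.exists_mulVec_eq_zero_iff]
  refine exists_congr fun v => and_congr_right fun _ => ?_
  rw [Matrix.sub_mulVec, sub_eq_zero, eq_comm, Matrix.scalar_apply, ← Matrix.smul_one_eq_diagonal, Matrix.smul_mulVec,
    Matrix.one_mulVec]

theorem irr_iff (M : Matrix (Fin 3) (Fin 3) K) : Irreducible M.charpoly ↔ ∀ x : K, M.charpoly.eval x ≠ 0 := by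
  have hd : M.charpoly.natDegree = 3 := by rw [Matrix.charpoly_natDegree_eq_dim, Fintype.card_fin]
  rw [M.charpoly_monic.irreducible_iff_roots_eq_zero_of_degree_le_three (by omega) (by omega)]
  constructor
  · intro h x hx
    have h1 : x ∈ M.charpoly.roots := (mem_roots M.charpoly_monic.ne_zero).2 hx
    rw [h] at h1
    exact absurd h1 (Multiset.notMem_zero x)
  · intro h
    refine Multiset.eq_zero_of_forall_notMem fun x hx => h x ?_
    exact (mem_roots M.charpoly_monic.ne_zero).1 hx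

theorem irr_of_poly {p : K[X]} (hp : p.Monic) (hd : p.natDegree = 3) (h : ∀ x, p.eval x ≠ 0) : Irreducible p := by
  rw [hp.irreducible_iff_roots_eq_zero_of_degree_le_three (by omega) (by omega)]
  refine Multiset.eq_zero_of_forall_notMem fun x hx => h x ?_
  exact (mem_roots hp.ne_zero).1 hx

theorem irr_inv {M M' : Matrix (Fin 3) (Fin 3) K} (h : Irreducible M.charpoly) (h1 : M * M' = 1) :
    Irreducible M'.charpoly := by
  rw [irr_iff] at h ⊢
  intro x hx
  obtain ⟨v, hv, hv'⟩ := (eval_eq_zero_iff M' x).1 hx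
  have h2 : v = x • (M *ᵥ v) := by
    rw [← Matrix.mulVec_smul, ← hv', Matrix.mulVec_mulVec, h1, Matrix.one_mulVec]
  have hx0 : x ≠ 0 := by
    rintro rfl
    rw [zero_smul] at h2
    exact hv h2
  refine h x⁻¹ ((eval_eq_zero_iff M x⁻¹).2 ⟨v, hv, ?_⟩)
  nth_rw 2 [h2]
  rw [smul_smul, inv_mul_cancel₀ hx0, one_smul]

/-! ### companion matrices -/

/-- the companion matrix -/
def Zm (r s : K) : Matrix (Fin 3) (Fin 3) K := !![0, 0, 1; 1, 0, -s; 0, 1, r]

/-- its inverse -/
def Zi (r s : K) : Matrix (Fin 3) (Fin 3) K := !![s, 1, 0; -r, 0, 1; 1, 0, 0]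

/-- unipotent matrices -/
def Um (a b w : K) : Matrix (Fin 3) (Fin 3) K := !![1, a, w; 0, 1, b; 0, 0, 1]

/-- the cubic -/
noncomputable def cu (s r : K) : K[X] := X ^ 3 - C s * X ^ 2 + C r * X - C 1

theorem Zi_mul (r s : K) : Zi r s * Zm r s = 1 := by
  ext i j
  (revert i j; simp only [Zi, Zm, Matrix.mul_apply, Fin.sum_univ_three, _root_.Fin.forall_fin_succ, _root_.Matrix.of_apply, _root_.Matrix.cons_val', _root_.Matrix.cons_val_fin_one, Fin.isValue, _root_.Matrix.cons_val_zero, _root_.Matrix.cons_val_one, _root_.Matrix.cons_val, _root_.MulZeroClass.mul_zero, _root_.mul_one, _root_.zero_add, _root_.add_zero, _root_.Matrix.cons_val_succ, _root_.mul_neg, _root_.IsEmpty.forall_iff, _root_.and_true, _root_.Matrix.one_apply_eq, Nat.reduceAdd, _root_.Fin.succ_zero_eq_one, _root_.ne_eq, _root_.zero_ne_one, _root_.not_false_eq_true, _root_.Matrix.one_apply_ne, _root_.one_mul, _root_.add_neg_cancel, _root_.MulZeroClass.zero_mul, _root_.Fin.succ_one_eq_two,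 Fin.reduceEq, _root_.and_self, _root_.Fin.succ_ne_zero, _root_.neg_zero, _root_.neg_add_cancel, _root_.true_and])

theorem Zm_mul (r s : K) : Zm r s * Zi r s = 1 := by
  ext i j
  (revert i j; simp only [Zi, Zm, Matrix.mul_apply, Fin.sum_univ_three, _root_.Fin.forall_fin_succ, _root_.Matrix.of_apply, _root_.Matrix.cons_val', _root_.Matrix.cons_val_fin_one, Fin.isValue, _root_.Matrix.cons_val_zero, _root_.Matrix.cons_val_one, _root_.Matrix.cons_val, _root_.mul_neg, _root_.mul_one, _root_.Matrix.cons_val_succ, _root_.MulZeroClass.mul_zero, _root_.add_zero, _root_.zero_add, _root_.IsEmpty.forall_iff, _root_.and_true, _root_.MulZeroClass.zero_mul, _root_.neg_zero, _root_.Matrix.one_apply_eq, Nat.reduceAdd, _root_.Fin.succ_zero_eq_one, _root_.ne_eq, _root_.zero_ne_one, _root_.not_false_eq_true, _root_.Matrix.one_apply_ne, _root_.Fin.succ_one_eq_two, Fin.reduceEq, _root_.and_self, _root_.Fin.succ_ne_zero, _root_.one_mul, _root_.add_neg_cancel, _root_.neg_add_cancel,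 _root_.true_and])

theorem det_Zi (r s : K) : (Zi r s).det = 1 := by
  simp [Zi, Matrix.det_fin_three]

theorem det_Zm (r s : K) : (Zm r s).det = 1 := by
  simp [Zm, Matrix.det_fin_three]

theorem charpoly_Zi (r s : K) : (Zi r s).charpoly = cu s r := by
  rw [charpoly_three, det_Zi]
  simp only [Zi, cu, _root_.Fin.isValue, _root_.Matrix.of_apply, _root_.Matrix.cons_val', _root_.Matrix.cons_val_zero, _root_.Matrix.cons_val_fin_one, _root_.Matrix.cons_val_one, _root_.add_zero, _root_.Matrix.cons_val, _root_.MulZeroClass.mul_zero, _root_.mul_neg, _root_.one_mul, _root_.sub_neg_eq_add, _root_.zero_add, _root_.mul_one, _root_.sub_self, _root_.map_one]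

theorem inv_Zi (r s : K) : (Zi r s)⁻¹ = Zm r s := Matrix.inv_eq_right_inv (Zi_mul r s)

theorem mul_Um (r s a b w : K) : Zm r s * Um a b w = !![0, 0, 1; 1, a, w - s; 0, 1, b + r] := by
  ext i j
  (revert i j; simp only [Zm, Um, Matrix.mul_apply, Fin.sum_univ_three, _root_.Fin.forall_fin_succ, _root_.Matrix.of_apply, _root_.Matrix.cons_val', _root_.Matrix.cons_val_fin_one, Fin.isValue, _root_.Matrix.cons_val_zero, _root_.Matrix.cons_val_one, _root_.Matrix.cons_val, _root_.mul_one, _root_.MulZeroClass.mul_zero, _root_.add_zero, _root_.Matrix.cons_val_succ, _root_.forall_const, _root_.true_and, _root_.MulZeroClass.zero_mul, _root_.zero_add, _root_.and_self, _root_.one_mul, _root_.implies_true, _root_.and_true]) <;> (repeat' with_reducible apply And.intro) <;> ring_nf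

theorem det_Y {c : K} (hc : c ^ 3 = 1) (r s a b w : K) : (c • (Zm r s * Um a b w)).det = 1 := by
  rw [mul_Um, Matrix.det_smul, Fintype.card_fin, hc, one_mul]
  simp [Matrix.det_fin_three]

theorem smul_Y (c r s a b w : K) : c • (Zm r s * Um a b w) =
    !![0, 0, c; c, c * a, c * (w - s); 0, c, c * (b + r)] := by
  rw [mul_Um]
  ext i j
  (revert i j; simp only [_root_.Fin.forall_fin_succ, _root_.Matrix.smul_apply, _root_.Matrix.of_apply, _root_.Matrix.cons_val', _root_.Matrix.cons_val_fin_one, _root_.smul_eq_mul, Fin.isValue, _root_.Matrix.cons_val_zero, _root_.Matrix.cons_val_succ, _root_.forall_const, _root_.MulZeroClass.mul_zero, _root_.mul_one, _root_.and_self, _root_.implies_true])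

theorem charpoly_lit (a b c d e f g h i : K) : (!![a, b, c; d, e, f; g, h, i] : Matrix (Fin 3) (Fin 3) K).charpoly =
    X ^ 3 - C (a + e + i) * X ^ 2 + C (a * e - b * d + (a * i - c * g) + (e * i - f * h)) * X -
      C (!![a, b, c; d, e, f; g, h, i] : Matrix (Fin 3) (Fin 3) K).det :=
  charpoly_three _

theorem charpoly_Y {c : K} (hc : c ^ 3 = 1) {r s a b w : K} (h1 : a + b = c ^ 2 * s - r)
    (hw : w = a * (b + r) + s - c * r) : (c • (Zm r s * Um a b w)).charpoly = cu s r := by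
  have h0 := det_Y hc r s a b w
  rw [smul_Y] at h0 ⊢
  have e1 : 0 + c * a + c * (b + r) = s := by
    have h2 : c * (a + b) = c ^ 3 * s - c * r := by
      rw [h1]
      ring
    linear_combination h2 + s * hc
  have e2 : 0 * (c * a) - 0 * c + (0 * (c * (b + r)) - c * 0) + (c * a * (c * (b + r)) - c * (w - s) * c) = r := by
    rw [hw]
    linear_combination r * hc
  rw [charpoly_lit, h0, e1, e2, cu]

/-- the product -/
theorem good_cU {c : K} (hc : c ^ 3 = 1) {r s a b w : K} (hirr : Irreducible (cu s r)) (h1 : a + b = c ^ 2 * s - r)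
    (hw : w = a * (b + r) + s - c * r) : Good (c • Um a b w) := by
  refine ⟨Zi r s, c • (Zm r s * Um a b w), det_Zi r s, det_Y hc r s a b w, ?_, by rw [charpoly_Zi]; exact hirr,
    by rw [charpoly_Y hc h1 hw]; exact hirr, Or.inl ?_⟩
  · rw [Matrix.mul_smul, ← mul_assoc, Zi_mul, one_mul]
  · rw [charpoly_Y hc h1 hw, charpoly_Zi]

theorem cu_eval (s r x : K) : (cu s r).eval x = x ^ 3 - s * x ^ 2 + r * x - 1 := by
  simp only [cu, _root_.map_one, _root_.Polynomial.eval_sub, _root_.Polynomial.eval_add, _root_.Polynomial.eval_pow, _root_.Polynomial.eval_X, _root_.Polynomial.eval_mul, _root_.Polynomial.eval_C, _root_.Polynomial.eval_one]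

theorem sigma_ne {c : K} (hc : c ^ 3 = 1) {r s : K} (hirr : ∀ x, (cu s r).eval x ≠ 0) : c ^ 2 * s - r ≠ 0 := by
  intro h
  apply hirr (c ^ 2)
  rw [cu_eval]
  have h1 : r = c ^ 2 * s := by rw [eq_comm, ← sub_eq_zero, h]
  have h2 : c ^ 6 = 1 := by rw [show 6 = 3 * 2 by norm_num, pow_mul, hc, one_pow]
  have h3 : c ^ 4 = c := by rw [show 4 = 3 + 1 by norm_num, pow_add, hc, one_mul, pow_one]
  rw [h1]
  linear_combination h2 + (c ^ 4 * 0) * h3

/-! ### similarity of nilpotent matrices -/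

/-- the regular nilpotent matrix -/
def Jr : Matrix (Fin 3) (Fin 3) K := !![0, 1, 0; 0, 0, 1; 0, 0, 0]

/-- the nilpotent matrix of rank one -/
def Jt : Matrix (Fin 3) (Fin 3) K := !![0, 1, 0; 0, 0, 0; 0, 0, 0]

/-- the matrix with given columns -/
def colm (u v w : Fin 3 → K) : Matrix (Fin 3) (Fin 3) K := Matrix.of fun i j => ![u i, v i, w i] j

theorem colm_mulVec (u v w x : Fin 3 → K) : colm u v w *ᵥ x = x 0 • u + x 1 • v + x 2 • w := by
  ext i
  simp only [colm, Matrix.mulVec, dotProduct, Fin.sum_univ_three, _root_.Nat.succ_eq_add_one, _root_.Nat.reduceAdd, _root_.Matrix.of_apply, _root_.Fin.isValue, _root_.Matrix.cons_val_zero, _root_.Matrix.cons_val_one, _root_.Matrix.cons_val, _root_.Pi.add_apply, _root_.Pi.smul_apply, _root_.smul_eq_mul]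
  ring

theorem mul_colm (N : Matrix (Fin 3) (Fin 3) K) (u v w : Fin 3 → K) :
    N * colm u v w = colm (N *ᵥ u) (N *ᵥ v) (N *ᵥ w) := by
  ext i j
  (revert j; simp only [colm, Matrix.mul_apply, Matrix.mulVec, dotProduct, _root_.Fin.forall_fin_succ, _root_.Nat.succ_eq_add_one, Nat.reduceAdd, _root_.Matrix.of_apply, Fin.isValue, _root_.Matrix.cons_val_zero, _root_.Matrix.cons_val_succ, _root_.Matrix.cons_val_fin_one, _root_.implies_true, _root_.and_self])

theorem colm_Jr (u v w : Fin 3 → K) : colm u v w * Jr = colm 0 u v := by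
  ext i j
  (revert j; simp only [colm, Jr, Matrix.mul_apply, Fin.sum_univ_three, _root_.Fin.forall_fin_succ, _root_.Nat.succ_eq_add_one, Nat.reduceAdd, _root_.Matrix.of_apply, _root_.Matrix.cons_val', _root_.Matrix.cons_val_fin_one, Fin.isValue, _root_.Matrix.cons_val_zero, _root_.Matrix.cons_val_one, _root_.Matrix.cons_val, _root_.Pi.zero_apply, _root_.MulZeroClass.mul_zero, _root_.add_zero, _root_.Matrix.cons_val_succ, _root_.mul_one, _root_.zero_add, _root_.implies_true, _root_.and_self])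

theorem colm_Jt (u v w : Fin 3 → K) : colm u v w * Jt = colm 0 u 0 := by
  ext i j
  (revert j; simp only [colm, Jt, Matrix.mul_apply, Fin.sum_univ_three, _root_.Fin.forall_fin_succ, _root_.Nat.succ_eq_add_one, Nat.reduceAdd, _root_.Matrix.of_apply, _root_.Matrix.cons_val', _root_.Matrix.cons_val_fin_one, Fin.isValue, _root_.Matrix.cons_val_zero, _root_.Matrix.cons_val_one, _root_.Matrix.cons_val, _root_.Pi.zero_apply, _root_.MulZeroClass.mul_zero, _root_.add_zero, _root_.Matrix.cons_val_succ, _root_.mul_one, _root_.implies_true, _root_.and_self])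

theorem det_colm_ne {u v w : Fin 3 → K} (h : ∀ a b c : K, a • u + b • v + c • w = 0 → a = 0 ∧ b = 0 ∧ c = 0) :
    (colm u v w).det ≠ 0 := by
  intro h0
  obtain ⟨x, hx, hx0⟩ := Matrix.exists_mulVec_eq_zero_iff.2 h0
  rw [colm_mulVec] at hx0
  obtain ⟨h1, h2, h3⟩ := h _ _ _ hx0
  apply hx
  ext i
  fin_cases i
  · exact h1
  · exact h2
  · exact h3

theorem exists_vec {N : Matrix (Fin 3) (Fin 3) K} (h : N ≠ 0) : ∃ v, N *ᵥ v ≠ 0 := by
  by_contra hcon
  push Not at hcon
  apply h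
  ext i j
  have h1 := congrFun (hcon (Pi.single j 1)) i
  rw [Matrix.mulVec_single_one] at h1
  exact h1

theorem sim_reg {N : Matrix (Fin 3) (Fin 3) K} (h3 : N ^ 3 = 0) (h2 : N ^ 2 ≠ 0) :
    ∃ P : Matrix (Fin 3) (Fin 3) K, P.det ≠ 0 ∧ N * P = P * Jr := by
  obtain ⟨v, hv⟩ := exists_vec h2
  have e2 : N ^ 2 *ᵥ v = N *ᵥ (N *ᵥ v) := by rw [Matrix.mulVec_mulVec, pow_two]
  have e3 : N *ᵥ (N *ᵥ (N *ᵥ v)) = 0 := by
    rw [Matrix.mulVec_mulVec, Matrix.mulVec_mulVec, ← pow_three', h3, Matrix.zero_mulVec]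
  rw [e2] at hv
  refine ⟨colm (N *ᵥ (N *ᵥ v)) (N *ᵥ v) v, det_colm_ne ?_, ?_⟩
  · intro a b c h
    have f1 := congrArg (fun x => N *ᵥ x) h
    simp only [Matrix.mulVec_add, Matrix.mulVec_smul, e3, Matrix.mulVec_zero, smul_zero, zero_add] at f1
    have f2 := congrArg (fun x => N *ᵥ x) f1
    simp only [Matrix.mulVec_add, Matrix.mulVec_smul, e3, Matrix.mulVec_zero, smul_zero, zero_add] at f2
    have hc : c = 0 := (smul_eq_zero.1 f2).resolve_right hv
    rw [hc, zero_smul, add_zero] at f1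
    have hb : b = 0 := (smul_eq_zero.1 f1).resolve_right hv
    rw [hc, hb, zero_smul, zero_smul, add_zero, add_zero] at h
    exact ⟨(smul_eq_zero.1 h).resolve_right hv, hb, hc⟩
  · rw [mul_colm, colm_Jr, e3]

theorem sim_tr {N : Matrix (Fin 3) (Fin 3) K} (h2 : N ^ 2 = 0) (h1 : N ≠ 0) :
    ∃ P : Matrix (Fin 3) (Fin 3) K, P.det ≠ 0 ∧ N * P = P * Jt := by
  obtain ⟨v, hv⟩ := exists_vec h1
  have e2 : ∀ x, N *ᵥ (N *ᵥ x) = 0 := fun x => by rw [Matrix.mulVec_mulVec, ← pow_two, h2, Matrix.zero_mulVec]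
  -- the kernel
  obtain ⟨k, hk, hk'⟩ : ∃ k, N *ᵥ k = 0 ∧ ∀ a : K, k ≠ a • (N *ᵥ v) := by
    by_contra hcon
    push Not at hcon
    have h3 : LinearMap.ker N.mulVecLin ≤ Submodule.span K {N *ᵥ v} := by
      intro x hx
      obtain ⟨a, ha⟩ := hcon x hx
      rw [ha]
      exact Submodule.smul_mem _ _ (Submodule.mem_span_singleton_self _)
    have h4 : LinearMap.range N.mulVecLin ≤ LinearMap.ker N.mulVecLin := by
      rintro _ ⟨x, rfl⟩
      exact e2 x
    have h5 := Submodule.finrank_mono h3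
    have h6 := Submodule.finrank_mono h4
    rw [finrank_span_singleton hv] at h5
    have h7 := LinearMap.finrank_range_add_finrank_ker N.mulVecLin
    rw [Module.finrank_fintype_fun_eq_card, Fintype.card_fin] at h7
    omega
  refine ⟨colm (N *ᵥ v) v k, det_colm_ne ?_, ?_⟩
  · intro a b c h
    have f1 := congrArg (fun x => N *ᵥ x) h
    simp only [Matrix.mulVec_add, Matrix.mulVec_smul, e2, hk, Matrix.mulVec_zero, smul_zero, zero_add, add_zero] at f1
    have hb : b = 0 := (smul_eq_zero.1 f1).resolve_right hv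
    rw [hb, zero_smul, add_zero] at h
    have hc : c = 0 := by
      by_contra hc
      apply hk' (-(c⁻¹ * a))
      have h3 : k = c⁻¹ • (c • k) := by rw [smul_smul, inv_mul_cancel₀ hc, one_smul]
      rw [h3, ← neg_eq_of_add_eq_zero_right h, smul_neg, smul_smul, neg_smul]
    rw [hc, zero_smul, add_zero] at h
    exact ⟨(smul_eq_zero.1 h).resolve_right hv, hb, hc⟩
  · rw [mul_colm, colm_Jt, e2, hk]

theorem sim_trans {N M J P Q : Matrix (Fin 3) (Fin 3) K} (hP : P.det ≠ 0) (hN : N * P = P * J) (hQ : Q.det ≠ 0)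
    (hM : M * Q = Q * J) : ∃ R : Matrix (Fin 3) (Fin 3) K, R.det ≠ 0 ∧ N * R = R * M := by
  have hu : IsUnit Q.det := isUnit_iff_ne_zero.2 hQ
  have h1 : Q * Q⁻¹ = 1 := Matrix.mul_nonsing_inv _ hu
  have h2 : Q⁻¹ * Q = 1 := Matrix.nonsing_inv_mul _ hu
  refine ⟨P * Q⁻¹, ?_, ?_⟩
  · rw [Matrix.det_mul, Matrix.det_nonsing_inv]
    exact mul_ne_zero hP (by rw [Ring.inverse_eq_inv']; exact inv_ne_zero hQ)
  · have h3 : J * Q⁻¹ = Q⁻¹ * M := by
      calc J * Q⁻¹ = Q⁻¹ * (Q * J) * Q⁻¹ := by rw [← mul_assoc, h2, one_mul]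
        _ = _ := by rw [← hM, mul_assoc, mul_assoc, h1, mul_one]
    rw [← mul_assoc, hN, mul_assoc, h3, mul_assoc]

/-! ### the unipotent cases -/

theorem Um_eq (a b w : K) : Um a b w = 1 + !![0, a, w; 0, 0, b; 0, 0, 0] := by
  ext i j
  (revert i j; simp only [Um, _root_.Fin.forall_fin_succ, _root_.Matrix.of_apply, _root_.Matrix.cons_val', _root_.Matrix.cons_val_fin_one, _root_.Matrix.add_apply, Fin.isValue, _root_.Matrix.cons_val_zero, _root_.Matrix.cons_val_succ, _root_.IsEmpty.forall_iff, _root_.and_true, _root_.Matrix.one_apply_eq, _root_.add_zero, Nat.reduceAdd, _root_.Fin.succ_zero_eq_one, _root_.ne_eq, _root_.zero_ne_one, _root_.not_false_eq_true, _root_.Matrix.one_apply_ne, _root_.zero_add, _root_.Fin.succ_one_eq_two, Fin.reduceEq, _root_.and_self, _root_.Fin.succ_ne_zero, _root_.true_and])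

theorem good_of_sim {N M : Matrix (Fin 3) (Fin 3) K} {c : K} (h : Good (c • (1 + M)))
    (hs : ∃ R : Matrix (Fin 3) (Fin 3) K, R.det ≠ 0 ∧ N * R = R * M) : Good (c • (1 + N)) := by
  obtain ⟨R, hR, h1⟩ := hs
  refine h.conj hR ?_
  rw [Matrix.smul_mul, Matrix.mul_smul, add_mul, mul_add, h1, one_mul, mul_one]

theorem good_tr {N : Matrix (Fin 3) (Fin 3) K} (h2 : N ^ 2 = 0) (h1 : N ≠ 0) {c : K} (hc : c ^ 3 = 1) {s r : K}
    (hirr : Irreducible (cu s r)) (hroot : ∀ x, (cu s r).eval x ≠ 0) : Good (c • (1 + N)) := by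
  have hσ := sigma_ne hc hroot
  have hg := good_cU hc (a := c ^ 2 * s - r) (b := 0) (w := (c ^ 2 * s - r) * (0 + r) + s - c * r) hirr (by ring) rfl
  rw [Um_eq] at hg
  refine good_of_sim hg ?_
  obtain ⟨P, hP, hP'⟩ := sim_tr h2 h1
  obtain ⟨Q, hQ, hQ'⟩ := sim_tr (K := K)
    (N := !![0, c ^ 2 * s - r, (c ^ 2 * s - r) * (0 + r) + s - c * r; 0, 0, 0; 0, 0, 0]) (by
      rw [pow_two]
      ext i j
      (revert i j; simp only [Matrix.mul_apply, Fin.sum_univ_three, _root_.Fin.forall_fin_succ, _root_.zero_add, _root_.Matrix.of_apply, _root_.Matrix.cons_val', _root_.Matrix.cons_val_fin_one, Fin.isValue, _root_.Matrix.cons_val_zero, _root_.Matrix.cons_val_one, _root_.Matrix.cons_val, _root_.Matrix.zero_apply, _root_.MulZeroClass.mul_zero, _root_.add_zero, _root_.Matrix.cons_val_succ, _root_.mul_eq_zero, _root_.forall_const, _root_.true_and, _root_.true_or, _root_.and_self, _root_.implies_true])) (by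
      intro h
      apply hσ
      have := congrFun (congrFun h 0) 1
      simpa only [_root_.zero_add, _root_.Fin.isValue, _root_.Matrix.of_apply, _root_.Matrix.cons_val', _root_.Matrix.cons_val_one, _root_.Matrix.cons_val_zero, _root_.Matrix.cons_val_fin_one, _root_.Matrix.zero_apply] using this)
  exact sim_trans hP hP' hQ hQ'

theorem good_reg {N : Matrix (Fin 3) (Fin 3) K} (h3 : N ^ 3 = 0) (h2 : N ^ 2 ≠ 0) {c : K} (hc : c ^ 3 = 1) {s r : K}
    (hirr : Irreducible (cu s r)) (hK : ∀ x : K, ∃ a : K, a ≠ 0 ∧ a ≠ x) : Good (c • (1 + N)) := by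
  obtain ⟨a, ha, ha'⟩ := hK (c ^ 2 * s - r)
  have hb : c ^ 2 * s - r - a ≠ 0 := sub_ne_zero.2 ha'.symm
  have hg := good_cU hc (a := a) (b := c ^ 2 * s - r - a) (w := a * (c ^ 2 * s - r - a + r) + s - c * r) hirr
    (by ring) rfl
  rw [Um_eq] at hg
  refine good_of_sim hg ?_
  obtain ⟨P, hP, hP'⟩ := sim_reg h3 h2
  generalize c ^ 2 * s - r - a = b at hb
  generalize a * (b + r) + s - c * r = w
  have e2 : (!![0, a, w; 0, 0, b; 0, 0, 0] : Matrix (Fin 3) (Fin 3) K) ^ 2 = !![0, 0, a * b; 0, 0, 0; 0, 0, 0] := by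
    rw [pow_two]
    ext i j
    (revert i j; simp only [Matrix.mul_apply, Fin.sum_univ_three, _root_.Fin.forall_fin_succ, _root_.Matrix.of_apply, _root_.Matrix.cons_val', _root_.Matrix.cons_val_fin_one, Fin.isValue, _root_.Matrix.cons_val_zero, _root_.Matrix.cons_val_one, _root_.Matrix.cons_val, _root_.MulZeroClass.mul_zero, _root_.add_zero, _root_.Matrix.cons_val_succ, _root_.forall_const, _root_.MulZeroClass.zero_mul, _root_.zero_add, _root_.and_self, _root_.implies_true])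
  obtain ⟨Q, hQ, hQ'⟩ := sim_reg (K := K) (N := !![0, a, w; 0, 0, b; 0, 0, 0]) (by
      rw [pow_succ, e2]
      ext i j
      (revert i j; simp only [Matrix.mul_apply, Fin.sum_univ_three, _root_.Fin.forall_fin_succ, _root_.Matrix.of_apply, _root_.Matrix.cons_val', _root_.Matrix.cons_val_fin_one, Fin.isValue, _root_.Matrix.cons_val_zero, _root_.Matrix.cons_val_one, _root_.Matrix.cons_val, _root_.Matrix.zero_apply, _root_.MulZeroClass.mul_zero, _root_.add_zero, _root_.Matrix.cons_val_succ, _root_.mul_eq_zero, _root_.forall_const, _root_.true_and, _root_.true_or, _root_.MulZeroClass.zero_mul, _root_.and_self, _root_.implies_true])) (by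
      rw [e2]
      intro h
      have := congrFun (congrFun h 0) 2
      exact mul_ne_zero ha hb (by simpa using this))
  exact sim_trans hP hP' hQ hQ'

/-- the identity -/
theorem good_one {s r : K} (hirr : Irreducible (cu s r)) : Good (1 : Matrix (Fin 3) (Fin 3) K) := by
  refine ⟨Zi r s, Zm r s, det_Zi r s, det_Zm r s, (Zi_mul r s).symm, by rw [charpoly_Zi]; exact hirr, ?_, Or.inr ?_⟩
  · exact irr_inv (by rw [charpoly_Zi]; exact hirr) (Zi_mul r s)
  · rw [inv_Zi]

end Cfsg.Agent.H126.M3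

private theorem dce_c44e3cbc46b5 : _root_.True := by
  try have : _root_.True := by simp only [_root_.Cfsg.Agent.H126.M3.Zi.eq_1]
  try have : _root_.True := by simp only [_root_.Cfsg.Agent.H126.M3.Zm.eq_1]
  try have : _root_.True := by simp only [_root_.Cfsg.Agent.H126.M3.Um.eq_1]
  try have : _root_.True := by simp only [_root_.Cfsg.Agent.H126.M3.colm.eq_1]
  try have : _root_.True := by simp only [_root_.Cfsg.Agent.H126.M3.Jr.eq_1]
  try have : _root_.True := by simp only [_root_.Cfsg.Agent.H126.M3.Jt.eq_1]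
  try have : _root_.True := by simp only [_root_.Cfsg.Agent.H126.M3.cu.eq_1]
  exact _root_.True.intro
end

-- part: H126/M3/Main
section
set_option linter.all false
open scoped Cfsg.Agent.FastGrp

/-!
# Products of two irreducible elements of `SL_3(K)`, `4 ≤ |K|` (helper126, for S2443, S4171)

* `m3` : every `l` of determinant one which is `1` or not scalar is `Good`;
* `m3_sl`, `m3_lu` : the same in `SL_3(K)`, with conjugating elements.
-/

set_option autoImplicit false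

namespace Cfsg.Agent.H126.M3

open Matrix Polynomial

universe u

variable {K : Type u} [Field K]

/-! ### irreducible elements -/

theorem sq_of_irr [Finite K] {l : Matrix (Fin 3) (Fin 3) K} (hl : l.det = 1) (h : Irreducible l.charpoly) :
    ∃ s : Matrix (Fin 3) (Fin 3) K, s.det = 1 ∧ l = s * s := by
  classical
  set g := l.charpoly with hg
  have : Fact (Irreducible g) := ⟨h⟩
  have : Module.Finite K (AdjoinRoot g) := (AdjoinRoot.powerBasis h.ne_zero).finite
  have : Finite (AdjoinRoot g) := Module.finite_of_finite K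
  have : Fintype (AdjoinRoot g) := Fintype.ofFinite _
  have : Fintype K := Fintype.ofFinite _
  -- squares in `K[l]`
  have key : ∀ p q : K[X], AdjoinRoot.mk g p = AdjoinRoot.mk g q * AdjoinRoot.mk g q →
      aeval l p = aeval l q * aeval l q := by
    intro p q hpq
    rw [← map_mul, ← sub_eq_zero, ← map_sub, AdjoinRoot.mk_eq_zero] at hpq
    obtain ⟨t, ht⟩ := hpq
    have h1 := congrArg (aeval l) ht
    rw [map_sub, map_mul, map_mul, hg, Matrix.aeval_self_charpoly, zero_mul, sub_eq_zero] at h1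
    exact h1
  have hsq : IsSquare (AdjoinRoot.mk g X) := by
    by_cases h2 : ringChar (AdjoinRoot g) = 2
    · exact FiniteField.isSquare_of_char_two h2 _
    by_contra hns
    have h2' : ringChar K ≠ 2 := by
      intro h3
      apply h2
      rw [← h3]
      exact (Algebra.ringChar_eq K (AdjoinRoot g)).symm
    obtain ⟨c, hc⟩ := FiniteField.exists_nonsquare h2'
    have hc0 : c ≠ 0 := by
      rintro rfl
      exact hc (IsSquare.zero)
    have hX0 : AdjoinRoot.mk g X ≠ 0 := by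
      intro h3
      apply hns
      rw [h3]
      exact IsSquare.zero
    have hcc : ∀ d : K, c ^ 3 = d * d → False := by
      intro d hd
      apply hc
      refine ⟨d / c, ?_⟩
      field_simp
      linear_combination hd
    have hC0 : AdjoinRoot.mk g (C c) ≠ 0 := by
      intro h3
      have h4 : algebraMap K (AdjoinRoot g) c = 0 := h3
      rw [map_eq_zero] at h4
      exact hc0 h4
    have hCn : ¬ IsSquare (AdjoinRoot.mk g (C c)) := by
      rintro ⟨y, hy⟩
      obtain ⟨q, rfl⟩ := AdjoinRoot.mk_surjective y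
      have h3 := congrArg Matrix.det (key _ _ hy)
      rw [aeval_C, Matrix.det_mul, Matrix.algebraMap_eq_diagonal, Matrix.det_diagonal] at h3
      simp only [Pi.algebraMap_apply, Algebra.algebraMap_self, RingHom.id_apply, Finset.prod_const, Finset.card_univ,
        Fintype.card_fin] at h3
      exact hcc _ h3
    have hprod : IsSquare (AdjoinRoot.mk g (C c * X)) := by
      rw [map_mul, FiniteField.isSquare_iff h2 (mul_ne_zero hC0 hX0), mul_pow]
      rw [FiniteField.isSquare_iff h2 hC0] at hCn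
      rw [FiniteField.isSquare_iff h2 hX0] at hns
      rw [(FiniteField.pow_dichotomy h2 hC0).resolve_left hCn, (FiniteField.pow_dichotomy h2 hX0).resolve_left hns]
      norm_num
    obtain ⟨y, hy⟩ := hprod
    obtain ⟨q, rfl⟩ := AdjoinRoot.mk_surjective y
    have h3 := congrArg Matrix.det (key _ _ hy)
    rw [map_mul, aeval_C, aeval_X, Matrix.det_mul, Matrix.det_mul, hl, mul_one, Matrix.algebraMap_eq_diagonal,
      Matrix.det_diagonal] at h3
    simp only [Pi.algebraMap_apply, Algebra.algebraMap_self, RingHom.id_apply, Finset.prod_const, Finset.card_univ,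
      Fintype.card_fin] at h3
    exact hcc _ h3
  obtain ⟨y, hy⟩ := hsq
  obtain ⟨q, rfl⟩ := AdjoinRoot.mk_surjective y
  have h1 := key _ _ hy
  rw [aeval_X] at h1
  have h3 := congrArg Matrix.det h1
  rw [hl, Matrix.det_mul] at h3
  rcases mul_self_eq_one_iff.1 h3.symm with h4 | h4
  · exact ⟨_, h4, h1⟩
  · refine ⟨-(aeval l q), ?_, by rw [neg_mul_neg]; exact h1⟩
    rw [Matrix.det_neg, h4, Fintype.card_fin]
    norm_num

theorem good_irr [Finite K] {l : Matrix (Fin 3) (Fin 3) K} (hl : l.det = 1) (h : Irreducible l.charpoly) : Good l := by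
  obtain ⟨s, hs, hss⟩ := sq_of_irr hl h
  have h1 : Irreducible s.charpoly := by
    rw [irr_iff] at h ⊢
    intro x hx
    obtain ⟨v, hv, hv'⟩ := (eval_eq_zero_iff s x).1 hx
    refine h (x * x) ((eval_eq_zero_iff l _).2 ⟨v, hv, ?_⟩)
    rw [hss, ← Matrix.mulVec_mulVec, hv', Matrix.mulVec_smul, hv', smul_smul]
  exact ⟨s, s, hs, hs, hss, h1, h1, Or.inl rfl⟩

/-! ### a simple eigenvalue -/

theorem cu_monic (s r : K) : (cu s r).Monic := by
  unfold cu
  monicity!

theorem cu_natDegree (s r : K) : (cu s r).natDegree = 3 := by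
  unfold cu
  compute_degree!

theorem cu_coeff (s r : K) : (cu s r).coeff 0 = -1 := by
  simp [cu]

theorem good_simple [Finite K] (hq : 4 ≤ Nat.card K) {l : Matrix (Fin 3) (Fin 3) K} (hl : l.det = 1) {x : K}
    {p : K[X]} (hp : l.charpoly = (X - C x) * p) (hx : p.eval x ≠ 0) {s r : K} (hirr : Irreducible (cu s r)) :
    Good l := by
  obtain ⟨Z, h, hZ, hh, hZh⟩ := Cfsg.Agent.H864.Ore.gl_comm hq l hl x p hp hx (cu s r) hirr (cu_monic s r)
    (by rw [cu_natDegree, Fintype.card_fin]) (by rw [Fintype.card_fin]; norm_num)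
  have hZd : Z.det = 1 := by
    rw [Matrix.det_eq_sign_charpoly_coeff, hZ, cu_coeff, Fintype.card_fin]
    norm_num
  have huh : IsUnit h.det := by rw [hh]; exact isUnit_one
  have huZ : IsUnit Z.det := by rw [hZd]; exact isUnit_one
  have h1 : h * h⁻¹ = 1 := Matrix.mul_nonsing_inv _ huh
  have h2 : h⁻¹ * h = 1 := Matrix.nonsing_inv_mul _ huh
  have h3 : Z * Z⁻¹ = 1 := Matrix.mul_nonsing_inv _ huZ
  let U : (Matrix (Fin 3) (Fin 3) K)ˣ := ⟨h, h⁻¹, h1, h2⟩
  have hc : ∀ M : Matrix (Fin 3) (Fin 3) K, (h * M * h⁻¹).charpoly = M.charpoly := fun M =>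
    Matrix.charpoly_units_conj U M
  have hd : ∀ M : Matrix (Fin 3) (Fin 3) K, (h * M * h⁻¹).det = M.det := fun M => Matrix.det_units_conj U M
  have hi : (h * Z * h⁻¹)⁻¹ = h * Z⁻¹ * h⁻¹ := by
    rw [Matrix.mul_inv_rev, Matrix.mul_inv_rev, Matrix.nonsing_inv_nonsing_inv _ huh, mul_assoc]
  refine ⟨h * Z * h⁻¹, Z⁻¹, by rw [hd, hZd], ?_, ?_, by rw [hc, hZ]; exact hirr, ?_, Or.inr ?_⟩
  · have := congrArg Matrix.det h3
    rwa [Matrix.det_mul, hZd, one_mul, Matrix.det_one] at this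
  · rw [← hZh]
    calc l = l * (Z * Z⁻¹) := by rw [h3, mul_one]
      _ = l * Z * (h * h⁻¹) * Z⁻¹ := by rw [h1]; simp only [mul_assoc, mul_one]
      _ = _ := by simp only [mul_assoc]
  · exact irr_inv (by rw [hZ]; exact hirr) h3
  · rw [hi, hc]

/-! ### the theorem -/

theorem exists_cu [Finite K] : ∃ s r : K, Irreducible (cu s r) ∧ ∀ x, (cu s r).eval x ≠ 0 := by
  obtain ⟨p, h1, h2, h3, h4⟩ := Cfsg.Agent.H166.Cov.exists_rootless (F := K) (d := 3) (by norm_num) (e := -1) (by simp)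
  have e : p = cu (-p.coeff 2) (p.coeff 1) := by
    have h5 := h1.as_sum
    rw [h2, Finset.sum_range_succ, Finset.sum_range_succ, Finset.sum_range_one, h3] at h5
    rw [cu]
    nth_rw 1 [h5]
    simp
    ring
  refine ⟨-p.coeff 2, p.coeff 1, ?_, ?_⟩
  · rw [← e]
    exact irr_of_poly h1 h2 h4
  · rw [← e]
    exact h4

theorem exists_ne_ne [Finite K] (hq : 4 ≤ Nat.card K) (x : K) : ∃ a : K, a ≠ 0 ∧ a ≠ x := by
  classical
  have : Fintype K := Fintype.ofFinite K
  by_contra hcon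
  push Not at hcon
  have h1 : (Finset.univ : Finset K) ⊆ {0, x} := by
    intro a _
    rw [Finset.mem_insert, Finset.mem_singleton]
    by_cases ha : a = 0
    · exact Or.inl ha
    · exact Or.inr (hcon a ha)
  have h2 := (Finset.card_le_card h1).trans Finset.card_le_two
  rw [Finset.card_univ, ← Nat.card_eq_fintype_card] at h2
  omega

/-- **the theorem** -/
theorem m3 [Finite K] (hq : 4 ≤ Nat.card K) (l : Matrix (Fin 3) (Fin 3) K) (hl : l.det = 1)
    (hs : l = 1 ∨ ∀ c : K, l ≠ c • (1 : Matrix (Fin 3) (Fin 3) K)) : Good l := by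
  obtain ⟨s, r, hirr, hroot⟩ := exists_cu (K := K)
  rcases hs with rfl | hs
  · exact good_one hirr
  by_cases hl0 : ∀ x, l.charpoly.eval x ≠ 0
  · exact good_irr hl ((irr_iff l).2 hl0)
  push Not at hl0
  obtain ⟨x, hx⟩ := hl0
  obtain ⟨p, hp⟩ := dvd_iff_isRoot.2 hx
  have hpm : p.Monic := (monic_X_sub_C x).of_mul_monic_left (hp ▸ l.charpoly_monic)
  by_cases hpx : p.eval x = 0
  swap
  · exact good_simple hq hl hp hpx hirr
  obtain ⟨p2, hp2⟩ := dvd_iff_isRoot.2 hpx
  have hpm2 : p2.Monic := (monic_X_sub_C x).of_mul_monic_left (hp2 ▸ hpm)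
  have hd : p2.natDegree = 1 := by
    have h1 : l.charpoly.natDegree = 3 := by rw [Matrix.charpoly_natDegree_eq_dim, Fintype.card_fin]
    rw [hp, hp2, (monic_X_sub_C x).natDegree_mul ((monic_X_sub_C x).mul hpm2), (monic_X_sub_C x).natDegree_mul hpm2,
      natDegree_X_sub_C] at h1
    omega
  obtain ⟨y, hy⟩ : ∃ y, p2 = X - C y := by
    refine ⟨-p2.coeff 0, ?_⟩
    have h1 := hpm2.as_sum
    rw [hd, Finset.sum_range_one] at h1
    rw [h1]
    simp
  by_cases hxy : y = x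
  swap
  · refine good_simple (x := y) (p := (X - C x) * (X - C x)) hq hl ?_ ?_ hirr
    · rw [hp, hp2, hy]
      ring
    · simp only [eval_mul, eval_sub, eval_X, eval_C]
      exact mul_ne_zero (sub_ne_zero.2 hxy) (sub_ne_zero.2 hxy)
  -- all eigenvalues are equal
  rw [hxy] at hy
  have hch : l.charpoly = (X - C x) ^ 3 := by
    rw [hp, hp2, hy]
    ring
  have hx3 : x ^ 3 = 1 := by
    have h1 := Matrix.det_eq_sign_charpoly_coeff l
    rw [hl, hch, Fintype.card_fin, coeff_zero_eq_eval_zero] at h1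
    simp only [eval_pow, eval_sub, eval_X, eval_C] at h1
    rw [h1]
    ring
  have hCH : (l - x • (1 : Matrix (Fin 3) (Fin 3) K)) ^ 3 = 0 := by
    have h1 := Matrix.aeval_self_charpoly l
    rw [hch, map_pow, map_sub, aeval_X, aeval_C, Algebra.algebraMap_eq_smul_one] at h1
    exact h1
  have hlN : l = x • (1 + (x ^ 2 • l - 1)) := by
    rw [add_sub_cancel, smul_smul, ← pow_succ', hx3, one_smul]
  have hN3 : (x ^ 2 • l - 1) ^ 3 = 0 := by
    have h1 : x ^ 2 • l - 1 = x ^ 2 • (l - x • (1 : Matrix (Fin 3) (Fin 3) K)) := by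
      rw [smul_sub, smul_smul, ← pow_succ, hx3, one_smul]
    rw [h1, _root_.smul_pow, hCH, smul_zero]
  rw [hlN]
  by_cases h1 : (x ^ 2 • l - 1) = 0
  · exfalso
    apply hs x
    rw [h1, add_zero] at hlN
    exact hlN
  by_cases h2 : (x ^ 2 • l - 1) ^ 2 = 0
  · exact good_tr h2 h1 hx3 hirr hroot
  · exact good_reg hN3 h2 hx3 hirr (exists_ne_ne hq)

/-! ### `SL_3(K)` -/

theorem coe_inv' {n : ℕ} (A : SpecialLinearGroup (Fin n) K) :
    ((A⁻¹ : SpecialLinearGroup (Fin n) K) : Matrix (Fin n) (Fin n) K) = (A : Matrix (Fin n) (Fin n) K)⁻¹ := by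
  change A.1.adjugate = (A.1)⁻¹
  rw [Matrix.inv_def, A.2]
  simp

/-- the property in `SL_3(K)` -/
theorem Good.sl [Finite K] {l : SpecialLinearGroup (Fin 3) K} (h : Good (l : Matrix (Fin 3) (Fin 3) K)) :
    ∃ X Y : SpecialLinearGroup (Fin 3) K, l = X * Y ∧ Irreducible (X : Matrix (Fin 3) (Fin 3) K).charpoly ∧
      Irreducible (Y : Matrix (Fin 3) (Fin 3) K).charpoly ∧
      (((Y : Matrix (Fin 3) (Fin 3) K).charpoly = (X : Matrix (Fin 3) (Fin 3) K).charpoly ∧
          ∃ g : SpecialLinearGroup (Fin 3) K, Y = g * X * g⁻¹) ∨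
        ((Y : Matrix (Fin 3) (Fin 3) K).charpoly = ((X⁻¹ : SpecialLinearGroup (Fin 3) K) : Matrix (Fin 3) (Fin 3) K).charpoly ∧
          ∃ g : SpecialLinearGroup (Fin 3) K, Y = g * X⁻¹ * g⁻¹)) := by
  obtain ⟨X, Y, hX, hY, hl, hXi, hYi, hXY⟩ := h
  obtain ⟨X', rfl⟩ : ∃ X' : SpecialLinearGroup (Fin 3) K, (X' : Matrix (Fin 3) (Fin 3) K) = X := ⟨⟨X, hX⟩, rfl⟩
  obtain ⟨Y', rfl⟩ : ∃ Y' : SpecialLinearGroup (Fin 3) K, (Y' : Matrix (Fin 3) (Fin 3) K) = Y := ⟨⟨Y, hY⟩, rfl⟩
  have hXI : Irreducible ((X'⁻¹ : SpecialLinearGroup (Fin 3) K) : Matrix (Fin 3) (Fin 3) K).charpoly := by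
    rw [coe_inv']
    exact irr_inv hXi (Matrix.mul_nonsing_inv _ (by rw [hX]; exact isUnit_one))
  refine ⟨X', Y', Subtype.ext hl, hXi, hYi, ?_⟩
  rw [← coe_inv'] at hXY
  rcases hXY with h1 | h1
  · exact Or.inl ⟨h1, H150.MF.exists_conj (H150.MF.cls_of_irreducible hXi) (H150.MF.cls_of_irreducible hYi) h1.symm⟩
  · exact Or.inr ⟨h1, H150.MF.exists_conj (H150.MF.cls_of_irreducible hXI)
      (H150.MF.cls_of_irreducible hYi) h1.symm⟩

/-- **`SL_3(K)`** -/
theorem m3_sl [Finite K] (hq : 4 ≤ Nat.card K) (l : SpecialLinearGroup (Fin 3) K)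
    (hs : l = 1 ∨ ∀ c : K, (l : Matrix (Fin 3) (Fin 3) K) ≠ c • (1 : Matrix (Fin 3) (Fin 3) K)) :
    ∃ X Y : SpecialLinearGroup (Fin 3) K, l = X * Y ∧ Irreducible (X : Matrix (Fin 3) (Fin 3) K).charpoly ∧
      Irreducible (Y : Matrix (Fin 3) (Fin 3) K).charpoly ∧
      (((Y : Matrix (Fin 3) (Fin 3) K).charpoly = (X : Matrix (Fin 3) (Fin 3) K).charpoly ∧
          ∃ g : SpecialLinearGroup (Fin 3) K, Y = g * X * g⁻¹) ∨
        ((Y : Matrix (Fin 3) (Fin 3) K).charpoly = ((X⁻¹ : SpecialLinearGroup (Fin 3) K) : Matrix (Fin 3) (Fin 3) K).charpoly ∧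
          ∃ g : SpecialLinearGroup (Fin 3) K, Y = g * X⁻¹ * g⁻¹)) := by
  refine (m3 hq (l : Matrix (Fin 3) (Fin 3) K) l.2 ?_).sl
  rcases hs with rfl | hs
  · exact Or.inl (Matrix.SpecialLinearGroup.coe_one)
  · exact Or.inr hs

/-- **lower times upper unitriangular** -/
theorem m3_lu [Finite K] (hq : 4 ≤ Nat.card K) (v u : SpecialLinearGroup (Fin 3) K) (hv : v ∈ H162.GaussSL.LT 3 K)
    (hu : u ∈ H162.GaussSL.UT 3 K) :
    ∃ X Y : SpecialLinearGroup (Fin 3) K, v * u = X * Y ∧ Irreducible (X : Matrix (Fin 3) (Fin 3) K).charpoly ∧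
      Irreducible (Y : Matrix (Fin 3) (Fin 3) K).charpoly ∧
      (((Y : Matrix (Fin 3) (Fin 3) K).charpoly = (X : Matrix (Fin 3) (Fin 3) K).charpoly ∧
          ∃ g : SpecialLinearGroup (Fin 3) K, Y = g * X * g⁻¹) ∨
        ((Y : Matrix (Fin 3) (Fin 3) K).charpoly = ((X⁻¹ : SpecialLinearGroup (Fin 3) K) : Matrix (Fin 3) (Fin 3) K).charpoly ∧
          ∃ g : SpecialLinearGroup (Fin 3) K, Y = g * X⁻¹ * g⁻¹)) := by
  refine m3_sl hq (v * u) ?_
  by_cases h : v * u = 1
  · exact Or.inl h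
  right
  intro c hc
  apply h
  -- the `(0, 0)` entry is `1`
  have h1 : ((v * u : SpecialLinearGroup (Fin 3) K) : Matrix (Fin 3) (Fin 3) K) 0 0 = 1 := by
    have h2 : ((v * u : SpecialLinearGroup (Fin 3) K) : Matrix (Fin 3) (Fin 3) K) 0 0 =
        ∑ k, (v : Matrix (Fin 3) (Fin 3) K) 0 k * (u : Matrix (Fin 3) (Fin 3) K) k 0 := by
      rw [Matrix.SpecialLinearGroup.coe_mul, Matrix.mul_apply]
    have e1 : (u : Matrix (Fin 3) (Fin 3) K) 1 0 = 0 := hu.1 (i := 1) (j := 0) (by decide)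
    have e2 : (u : Matrix (Fin 3) (Fin 3) K) 2 0 = 0 := hu.1 (i := 2) (j := 0) (by decide)
    have e3 : (u : Matrix (Fin 3) (Fin 3) K) 0 0 = 1 := hu.2 0
    have e4 : (v : Matrix (Fin 3) (Fin 3) K) 0 0 = 1 := hv.2 0
    rw [h2, Fin.sum_univ_three, e1, e2, e3, e4]
    simp
  rw [hc, Matrix.smul_apply, Matrix.one_apply_eq, smul_eq_mul, mul_one] at h1
  apply Subtype.ext
  rw [hc, h1, one_smul]
  exact Matrix.SpecialLinearGroup.coe_one.symm

end Cfsg.Agent.H126.M3
end

-- part: H150/E6T/Hom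
section
set_option linter.all false
open scoped Cfsg.Agent.FastGrp

/-!
# `E₆` over the field with three elements: the Levi subgroup of the nodes `{2,4}, {1}, {6}` (S2443, S4171)

* `Phi` : the homomorphism `SL₃(K) × SL₂(K) × SL₂(K) →* E₆(K)`;
* `exists_up`, `exists_lo` : `U_J`, `U_J⁻` are contained in the images of the triangular groups.
-/

set_option autoImplicit false
set_option linter.unusedSectionVars false

namespace Cfsg.Agent.H150.E6T

open CoxeterSystem Cfsg.Agent.ChevalleyStructure.CoxeterGeom Cfsg.Agent.Tits.Roots Cfsg.Agent.Tits.Core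
  Cfsg.Agent.Nodes.Reps Cfsg.Agent.Nodes.BNOf Cfsg.Agent.Nodes.RGDLib Cfsg.Agent.Nodes.Bruhat
  Cfsg.Agent.Nodes.OppDec Cfsg.Agent.Nodes.LeviDec Cfsg.Agent.Nodes.KindChev Cfsg.Agent.Nodes.ChevCls
  Cfsg.Agent.Nodes.StabComb
  Cfsg.Agent.OddHalf.NI.ModelChev
  Cfsg.Agent.H162.GaussDec Cfsg.Agent.H162.GaussLevi Cfsg.Agent.H162.GaussSL Cfsg.Agent.H162.GaussExcMain
  Cfsg.Agent.H162.GaussMain Cfsg.Agent.H162.GaussReg Cfsg.Agent.H162.GaussPQ
open Cfsg.Lie Cfsg.Agent.ChevalleyStructure Cfsg.Agent.ChevalleyStructure.Elts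
  Cfsg.Agent.ChevalleyStructure.RootVec Cfsg.Agent.ChevalleyStructure.NPerm
  Cfsg.Agent.ChevalleyStructure.CoxeterGeomTypes Cfsg.Agent.Nodes.RGDChev Cfsg.Agent.KFacts.RgdChevCoord
open Cfsg.Agent.FixBN.FieldRGD (uu vv dd ww)
open Cfsg.Agent.TitsThree.KExcRT Cfsg.Agent.AGraded
open scoped MatrixGroups

universe u v

/-! ### Generalities -/

section

variable {K : Type u} [Field K]

theorem tv01 (c : K) : Matrix.SpecialLinearGroup.transvection (show (0 : Fin 2) ≠ 1 by decide) c = uu c := by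
  apply Subtype.ext
  ext i j
  fin_cases i <;> fin_cases j <;> simp [Matrix.SpecialLinearGroup.transvection, Matrix.transvection, uu]

theorem tv10 (c : K) : Matrix.SpecialLinearGroup.transvection (show (1 : Fin 2) ≠ 0 by decide) c = vv c := by
  apply Subtype.ext
  ext i j
  fin_cases i <;> fin_cases j <;> simp [Matrix.SpecialLinearGroup.transvection, Matrix.transvection, vv]

theorem commute_hom {n : ℕ} {Y : Type*} [Group Y] (f : Matrix.SpecialLinearGroup (Fin n) K →* Y) (y : Y)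
    (h : ∀ a b (hab : a ≠ b) c, Commute (f (Matrix.SpecialLinearGroup.transvection hab c)) y) (A) :
    Commute (f A) y := by
  have h1 : (⊤ : Subgroup (Matrix.SpecialLinearGroup (Fin n) K)) ≤ (Subgroup.centralizer {y}).comap f := by
    rw [← Cfsg.Agent.LieClassical.SLGen.closure_transvections, Subgroup.closure_le]
    rintro _ ⟨a, b, hab, c, rfl⟩
    change f _ ∈ Subgroup.centralizer {y}
    rw [Subgroup.mem_centralizer_singleton_iff]
    exact (h a b hab c).symm.eq.symm ▸ rfl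
  have h2 := h1 (Subgroup.mem_top A)
  rw [Subgroup.mem_comap, Subgroup.mem_centralizer_singleton_iff] at h2
  exact h2

theorem commute_two {Y : Type*} [Group Y] (f : SL(2, K) →* Y) (y : Y) (h0 : ∀ c, Commute (f (uu c)) y)
    (h1 : ∀ c, Commute (f (vv c)) y) (A) : Commute (f A) y := by
  refine commute_hom f y (fun a b hab c => ?_) A
  fin_cases a <;> fin_cases b
  · exact absurd rfl hab
  · exact (congrArg f (tv01 c)) ▸ h0 c
  · exact (congrArg f (tv10 c)) ▸ h1 c
  · exact absurd rfl hab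

end

section

variable {D : ChevalleyDatum} {l : ℕ} {M : CoxeterMatrix (Fin l)} (hp : IsType D l M) {K : Type u} [Field K]

theorem xc_commute {r s : ℕ} (hr : r < D.nroots) (hs : s < D.nroots) (h1 : s ≠ r) (h2 : s ≠ D.neg r)
    (h3 : D.commTerms r s = []) (a b : K) : Commute (xc hp (vec D l r) a) (xc hp (vec D l s) b) := by
  apply Subtype.ext
  rw [Subgroup.coe_mul, Subgroup.coe_mul, coe_xc hp hr, coe_xc hp hs]
  exact Cfsg.Agent.TitsThree.KExcBase.comm_nil hp.inList hr hs h1 h2 h3 a b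

end

/-! ### Tables -/

/-- the nodes of the Levi subgroup -/
def J6 : List (Fin 6) := [0, 1, 3, 5]

theorem simple6 : chevE6.simple 0 = 56 ∧ chevE6.simple 5 = 36 ∧ chevE6.neg 56 = 15 ∧ chevE6.neg 36 = 35 ∧
    r6 0 1 = chevE6.simple 3 ∧ r6 1 2 = chevE6.simple 1 := by decide +kernel

/-- the root elements commute -/
def Cm (D : ChevalleyDatum) (r s : ℕ) : Prop := r < D.nroots ∧ s < D.nroots ∧ s ≠ r ∧ s ≠ D.neg r ∧ D.commTerms r s = []

instance (D : ChevalleyDatum) (r s : ℕ) : Decidable (Cm D r s) := by unfold Cm; infer_instance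

theorem cm_block : ∀ a b : Fin 3, a ≠ b → Cm chevE6 (r6 a b) 56 ∧ Cm chevE6 (r6 a b) 15 ∧ Cm chevE6 (r6 a b) 36 ∧
    Cm chevE6 (r6 a b) 35 := by decide +kernel

theorem cm_two : Cm chevE6 56 36 ∧ Cm chevE6 56 35 ∧ Cm chevE6 15 36 ∧ Cm chevE6 15 35 := by decide +kernel

theorem r6_lt : ∀ a b : Fin 3, a ≠ b → r6 a b < chevE6.nroots := by decide +kernel

theorem r6_neg : ∀ a b : Fin 3, a ≠ b → r6 b a = chevE6.neg (r6 a b) := by decide +kernel

theorem r6_J : ∀ a b : Fin 3, a ≠ b → ∀ k : Fin 6, k ∉ J6 → vec chevE6 6 (r6 a b) k = 0 := by decide +kernel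

theorem sub6 : ∀ q < chevE6.nroots, (∀ k : Fin 6, k ∉ J6 → vec chevE6 6 q k = 0) →
    (∃ a b : Fin 3, a ≠ b ∧ r6 a b = q ∧ (a < b → ∃ k, 0 < vec chevE6 6 q k) ∧ (b < a → ∃ k, vec chevE6 6 q k < 0)) ∨
      q = 56 ∨ q = 15 ∨ q = 36 ∨ q = 35 := by
  intro q hq
  revert q
  refine @of_decide_eq_true _ ?_ ?_
  · refine @Nat.decidableBallLT _ _ fun q _ => ?_
    refine @instDecidableForall _ _ inferInstance ?_
    refine @instDecidableOr _ _ ?_ inferInstance
    refine @Fintype.decidableExistsFintype _ _ (fun a => ?_) _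
    refine @Fintype.decidableExistsFintype _ _ (fun b => ?_) _
    infer_instance
  · decide +kernel

/-! ### The homomorphism -/

section Hom

variable (K : Type u) [Field K]

theorem hp6 : IsType chevE6 6 CoxeterMatrix.E₆ := Cfsg.Agent.Nodes.KindE.isType6

/-- the block of the nodes `4, 2` -/
noncomputable def phi : Matrix.SpecialLinearGroup (Fin 3) K →* ↥(chevE6.group K) :=
  (exists_hom_D hp6 (K := K) (ε := 1) (by norm_num) rt6.1 rt6.2.1 rt6.2.2.1 rt6.2.2.2).choose

theorem phi_tv' (a b : Fin 3) (hab : a ≠ b) (c : K) :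
    phi K (Matrix.SpecialLinearGroup.transvection hab c) = xc hp6 (vec chevE6 6 (r6 a b)) (((1 : ℤ) : K) * c) :=
  (exists_hom_D hp6 (K := K) (ε := 1) (by norm_num) rt6.1 rt6.2.1 rt6.2.2.1 rt6.2.2.2).choose_spec a b hab c

theorem phi_tv (a b : Fin 3) (hab : a ≠ b) (c : K) :
    phi K (Matrix.SpecialLinearGroup.transvection hab c) = xc hp6 (vec chevE6 6 (r6 a b)) c := by
  rw [phi_tv', Int.cast_one, one_mul]

/-- the block of a node -/
noncomputable abbrev f (i : Fin 6) : SL(2, K) →* ↥(chevE6.group K) := sl hp6 (K := K) i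

theorem vec56 : (sr 0 : Fin 6 → ℤ) = vec chevE6 6 56 := by
  rw [← vec_simple hp6 0]; exact congrArg _ simple6.1

theorem vec36 : (sr 5 : Fin 6 → ℤ) = vec chevE6 6 36 := by
  rw [← vec_simple hp6 5]; exact congrArg _ simple6.2.1

theorem vec15 : (-sr 0 : Fin 6 → ℤ) = vec chevE6 6 15 := by
  rw [vec56, ← vec_neg hp6 (by decide +kernel), simple6.2.2.1]

theorem vec35 : (-sr 5 : Fin 6 → ℤ) = vec chevE6 6 35 := by
  rw [vec36, ← vec_neg hp6 (by decide +kernel), simple6.2.2.2.1]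

theorem f0_uu (c : K) : f K 0 (uu c) = xc hp6 (vec chevE6 6 56) c := by rw [← vec56]; exact sl_uu hp6 0 c
theorem f0_vv (c : K) : f K 0 (vv c) = xc hp6 (vec chevE6 6 15) c := by rw [← vec15]; exact sl_vv hp6 0 c
theorem f5_uu (c : K) : f K 5 (uu c) = xc hp6 (vec chevE6 6 36) c := by rw [← vec36]; exact sl_uu hp6 5 c
theorem f5_vv (c : K) : f K 5 (vv c) = xc hp6 (vec chevE6 6 35) c := by rw [← vec35]; exact sl_vv hp6 5 c

variable {K}

theorem Cm.commute {r s : ℕ} (h : Cm chevE6 r s) (a b : K) :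
    Commute (xc hp6 (vec chevE6 6 r) a) (xc hp6 (vec chevE6 6 s) b) :=
  xc_commute hp6 h.1 h.2.1 h.2.2.1 h.2.2.2.1 h.2.2.2.2 a b

variable (K)

theorem comm0 (A : Matrix.SpecialLinearGroup (Fin 3) K) (B : SL(2, K)) : Commute (phi K A) (f K 0 B) := by
  refine commute_hom _ _ (fun a b hab c => (commute_two _ _ (fun d => ?_) (fun d => ?_) B).symm) A
  · rw [f0_uu, phi_tv]; exact ((cm_block a b hab).1.commute c d).symm
  · rw [f0_vv, phi_tv]; exact ((cm_block a b hab).2.1.commute c d).symm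

theorem comm5 (A : Matrix.SpecialLinearGroup (Fin 3) K) (B : SL(2, K)) : Commute (phi K A) (f K 5 B) := by
  refine commute_hom _ _ (fun a b hab c => (commute_two _ _ (fun d => ?_) (fun d => ?_) B).symm) A
  · rw [f5_uu, phi_tv]; exact ((cm_block a b hab).2.2.1.commute c d).symm
  · rw [f5_vv, phi_tv]; exact ((cm_block a b hab).2.2.2.commute c d).symm

theorem comm05 (A B : SL(2, K)) : Commute (f K 0 A) (f K 5 B) := by
  refine commute_two _ _ (fun c => (commute_two _ _ (fun d => ?_) (fun d => ?_) B).symm)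
    (fun c => (commute_two _ _ (fun d => ?_) (fun d => ?_) B).symm) A
  · rw [f0_uu, f5_uu]; exact (cm_two.1.commute c d).symm
  · rw [f0_uu, f5_vv]; exact (cm_two.2.1.commute c d).symm
  · rw [f0_vv, f5_uu]; exact (cm_two.2.2.1.commute c d).symm
  · rw [f0_vv, f5_vv]; exact (cm_two.2.2.2.commute c d).symm

/-- the homomorphism onto the Levi subgroup -/
noncomputable def Phi : (Matrix.SpecialLinearGroup (Fin 3) K × SL(2, K)) × SL(2, K) →* ↥(chevE6.group K) :=
  ((phi K).noncommCoprod (f K 0) (comm0 K)).noncommCoprod (f K 5) fun p B => by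
    change Commute (phi K p.1 * f K 0 p.2) (f K 5 B)
    exact (comm5 K p.1 B).mul_left (comm05 K p.2 B)

theorem Phi_apply (A : Matrix.SpecialLinearGroup (Fin 3) K) (B C : SL(2, K)) :
    Phi K ((A, B), C) = phi K A * f K 0 B * f K 5 C := rfl

theorem Phi_A (A : Matrix.SpecialLinearGroup (Fin 3) K) : Phi K ((A, 1), 1) = phi K A := by
  rw [Phi_apply, map_one, map_one, mul_one, mul_one]

theorem Phi_B (B : SL(2, K)) : Phi K ((1, B), 1) = f K 0 B := by
  rw [Phi_apply, map_one, map_one, mul_one, one_mul]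

theorem Phi_C (C : SL(2, K)) : Phi K ((1, 1), C) = f K 5 C := by
  rw [Phi_apply, map_one, map_one, mul_one, one_mul]

variable {K}

abbrev cs6 : CoxeterSystem CoxeterMatrix.E₆ CoxeterMatrix.E₆.Group := CoxeterMatrix.E₆.toCoxeterSystem

theorem X_le {q : ℕ} (hq : q < chevE6.nroots) (hJ : ∀ k : Fin 6, k ∉ J6 → vec chevE6 6 q k = 0) (c : K) :
    xc hp6 (vec chevE6 6 q) c ∈ LJ cs6 hp6.isCartan (TT chevE6 K) (XX chevE6 6 K) {k | k ∈ J6} :=
  X_le_LJ (J := {k | k ∈ J6}) (x := vec chevE6 6 q) ⟨isRoot_vec hp6 _ hq, hJ⟩ ((mem_XX hp6 hq _).2 ⟨_, rfl⟩)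

theorem J56 : ∀ k : Fin 6, k ∉ J6 → vec chevE6 6 56 k = 0 ∧ vec chevE6 6 15 k = 0 ∧ vec chevE6 6 36 k = 0 ∧
    vec chevE6 6 35 k = 0 := by decide +kernel

theorem lt56 : 56 < chevE6.nroots ∧ 15 < chevE6.nroots ∧ 36 < chevE6.nroots ∧ 35 < chevE6.nroots := by decide +kernel

theorem le_of_gen {n : ℕ} {Y : Type*} [Group Y] (f : Matrix.SpecialLinearGroup (Fin n) K →* Y) (H : Subgroup Y)
    (h : ∀ a b (hab : a ≠ b) c, f (Matrix.SpecialLinearGroup.transvection hab c) ∈ H) (A) : f A ∈ H := by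
  have h1 : (⊤ : Subgroup (Matrix.SpecialLinearGroup (Fin n) K)) ≤ H.comap f := by
    rw [← Cfsg.Agent.LieClassical.SLGen.closure_transvections, Subgroup.closure_le]
    rintro _ ⟨a, b, hab, c, rfl⟩
    exact h a b hab c
  exact h1 (Subgroup.mem_top A)

theorem le_of_gen_two {Y : Type*} [Group Y] (f : SL(2, K) →* Y) (H : Subgroup Y)
    (h0 : ∀ c, f (uu c) ∈ H) (h1 : ∀ c, f (vv c) ∈ H) (A) : f A ∈ H := by
  refine le_of_gen f H (fun a b hab c => ?_) A
  fin_cases a <;> fin_cases b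
  · exact absurd rfl hab
  · exact (congrArg f (tv01 c)) ▸ h0 c
  · exact (congrArg f (tv10 c)) ▸ h1 c
  · exact absurd rfl hab

theorem phi_mem (A : Matrix.SpecialLinearGroup (Fin 3) K) :
    phi K A ∈ LJ cs6 hp6.isCartan (TT chevE6 K) (XX chevE6 6 K) {k | k ∈ J6} :=
  le_of_gen _ _ (fun a b hab c => by rw [phi_tv]; exact X_le (r6_lt a b hab) (r6_J a b hab) c) A

theorem f0_mem (A : SL(2, K)) : f K 0 A ∈ LJ cs6 hp6.isCartan (TT chevE6 K) (XX chevE6 6 K) {k | k ∈ J6} :=
  le_of_gen_two _ _ (fun c => by rw [f0_uu]; exact X_le lt56.1 (fun k hk => (J56 k hk).1) c)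
    (fun c => by rw [f0_vv]; exact X_le lt56.2.1 (fun k hk => (J56 k hk).2.1) c) A

theorem f5_mem (A : SL(2, K)) : f K 5 A ∈ LJ cs6 hp6.isCartan (TT chevE6 K) (XX chevE6 6 K) {k | k ∈ J6} :=
  le_of_gen_two _ _ (fun c => by rw [f5_uu]; exact X_le lt56.2.2.1 (fun k hk => (J56 k hk).2.2.1) c)
    (fun c => by rw [f5_vv]; exact X_le lt56.2.2.2 (fun k hk => (J56 k hk).2.2.2) c) A

theorem Phi_mem (x : (Matrix.SpecialLinearGroup (Fin 3) K × SL(2, K)) × SL(2, K)) :
    Phi K x ∈ LJ cs6 hp6.isCartan (TT chevE6 K) (XX chevE6 6 K) {k | k ∈ J6} :=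
  mul_mem (mul_mem (phi_mem x.1.1) (f0_mem x.1.2)) (f5_mem x.2)

theorem exists_up {u : ↥(chevE6.group K)} (hu : u ∈ UJ cs6 hp6.isCartan (XX chevE6 6 K) {k | k ∈ J6}) :
    ∃ U ∈ UT 3 K, ∃ b c : K, Phi K ((U, uu b), uu c) = u := by
  have h1 : UJ cs6 hp6.isCartan (XX chevE6 6 K) {k | k ∈ J6} ≤
      (((UT 3 K).prod (UT 2 K)).prod (UT 2 K)).map (Phi K) := by
    refine RGD.Sup_le fun x hx => ?_
    obtain ⟨q, hq, rfl⟩ := (isRoot_iff hp6 _ x).1 hx.1
    intro y hy
    obtain ⟨c, rfl⟩ := (mem_XX hp6 hq y).1 hy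
    have hneg : ∀ k, ¬ vec chevE6 6 q k < 0 := fun k => not_lt.2 (hx.2.1 k)
    rcases sub6 q hq hx.2.2 with ⟨a, b, hab, rfl, h1, h2⟩ | rfl | rfl | rfl | rfl
    · have hlt : a < b := by
        rcases lt_or_gt_of_ne hab with h | h
        · exact h
        · obtain ⟨k, hk⟩ := h2 h
          exact absurd hk (hneg k)
      refine ⟨((Matrix.SpecialLinearGroup.transvection hab c, 1), 1), ⟨⟨tv_mem_UT hab hlt _, one_mem _⟩, one_mem _⟩, ?_⟩
      rw [Phi_A, phi_tv]
    · refine ⟨((1, uu c), 1), ⟨⟨one_mem _, ?_⟩, one_mem _⟩, ?_⟩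
      · rw [← tv01]; exact tv_mem_UT (show (0 : Fin 2) ≠ 1 by decide) (by decide) _
      · rw [Phi_B, f0_uu]
    · exact absurd (show vec chevE6 6 15 0 < 0 by decide +kernel) (hneg 0)
    · refine ⟨((1, 1), uu c), ⟨⟨one_mem _, one_mem _⟩, ?_⟩, ?_⟩
      · rw [← tv01]; exact tv_mem_UT (show (0 : Fin 2) ≠ 1 by decide) (by decide) _
      · rw [Phi_C, f5_uu]
    · exact absurd (show vec chevE6 6 35 5 < 0 by decide +kernel) (hneg 5)
  obtain ⟨⟨⟨U, B⟩, C⟩, ⟨⟨hU, hB⟩, hC⟩, e⟩ := h1 hu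
  have key : ∀ B ∈ UT 2 K, B = uu (B.1 0 1) := by
    intro B hB
    apply Subtype.ext
    ext i j
    fin_cases i <;> fin_cases j
    · exact hB.2 0
    · rfl
    · exact hB.1 (by decide)
    · exact hB.2 1
  exact ⟨U, hU, B.1 0 1, C.1 0 1, by rw [← key B hB, ← key C hC]; exact e⟩

theorem exists_lo {u : ↥(chevE6.group K)} (hu : u ∈ UNJ cs6 hp6.isCartan (XX chevE6 6 K) {k | k ∈ J6}) :
    ∃ U ∈ LT 3 K, ∃ b c : K, Phi K ((U, vv b), vv c) = u := by
  have h1 : UNJ cs6 hp6.isCartan (XX chevE6 6 K) {k | k ∈ J6} ≤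
      (((LT 3 K).prod (LT 2 K)).prod (LT 2 K)).map (Phi K) := by
    refine RGD.Sup_le fun x hx => ?_
    obtain ⟨q, hq, hqx⟩ := (isRoot_iff hp6 cs6 x).1 (by have := hx.1.neg; rwa [_root_.neg_neg] at this)
    subst hqx
    intro y hy
    obtain ⟨c, rfl⟩ := (mem_XX hp6 hq y).1 hy
    have hpos : ∀ k, ¬ 0 < vec chevE6 6 q k := fun k => not_lt.2 (by
      have := hx.2.1 k
      rw [Pi.neg_apply] at this
      exact neg_nonneg.1 this)
    have hJ : ∀ k : Fin 6, k ∉ J6 → vec chevE6 6 q k = 0 := fun k hk => by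
      have := hx.2.2 k hk
      rw [Pi.neg_apply] at this
      exact neg_eq_zero.1 this
    rcases sub6 q hq hJ with ⟨a, b, hab, rfl, h1, h2⟩ | rfl | rfl | rfl | rfl
    · have hlt : b < a := by
        rcases lt_or_gt_of_ne hab with h | h
        · obtain ⟨k, hk⟩ := h1 h
          exact absurd hk (hpos k)
        · exact h
      refine ⟨((Matrix.SpecialLinearGroup.transvection hab c, 1), 1), ⟨⟨tv_mem_LT hab hlt _, one_mem _⟩, one_mem _⟩, ?_⟩
      rw [Phi_A, phi_tv]
    · exact absurd (show 0 < vec chevE6 6 56 0 by decide +kernel) (hpos 0)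
    · refine ⟨((1, vv c), 1), ⟨⟨one_mem _, ?_⟩, one_mem _⟩, ?_⟩
      · rw [← tv10]; exact tv_mem_LT (show (1 : Fin 2) ≠ 0 by decide) (by decide) _
      · rw [Phi_B, f0_vv]
    · exact absurd (show 0 < vec chevE6 6 36 5 by decide +kernel) (hpos 5)
    · refine ⟨((1, 1), vv c), ⟨⟨one_mem _, one_mem _⟩, ?_⟩, ?_⟩
      · rw [← tv10]; exact tv_mem_LT (show (1 : Fin 2) ≠ 0 by decide) (by decide) _
      · rw [Phi_C, f5_vv]
  obtain ⟨⟨⟨U, B⟩, C⟩, ⟨⟨hU, hB⟩, hC⟩, e⟩ := h1 hu
  have key : ∀ B ∈ LT 2 K, B = vv (B.1 1 0) := by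
    intro B hB
    apply Subtype.ext
    ext i j
    fin_cases i <;> fin_cases j
    · exact hB.2 0
    · exact hB.1 (by decide)
    · rfl
    · exact hB.2 1
  exact ⟨U, hU, B.1 1 0, C.1 1 0, by rw [← key B hB, ← key C hC]; exact e⟩

end Hom

end Cfsg.Agent.H150.E6T
end
end
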